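import Mathlib
import Cfsg.Prelude.Def_GeometricClasses
import Cfsg.Agent.Lib.Helper28.TensUDefs

/-!
# Vocabulary for the sub-assembly FO-T3c of S5670 (helper26, sub-architect; architect helper28)

`U = Fin a → F`, `|F| = q²`, standard hermitian form `hs q`.
* `SkewM q S`      : the matrix `S` is skew-hermitian for `hs q` on `U`.
* `IsZ q k₀ S g`   : `g ∈ GL(V)` is the central radical element `v ↦ v + (S (1 ⊗ k₀^*) v) ⊗ k₀` (`k₀` isotropic).
* `XS q M k₀`      : the set of skew-hermitian `S` whose radical element lies in `M`.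
* `ct q A`         : the conjugate transpose `(A i j ^ q)ᵀ`.
* `rk1 q u`        : the rank-one matrix `u u^† = vecMulVec u (cj q u)`  (`rk1 q u *ᵥ x = hs q x u • u`).
* `InvX q X`       : `X` consists of skew-hermitian matrices, is closed under scaling by the fixed field `{c | c^q = c}`
                     and under conjugation `S ↦ A S A^†` by matrices with `A A^† = 1`, `det A = 1`.
-/

set_option autoImplicit false

namespace Cfsg.Agent.Lib.Helper26.T3c

open Matrix Module
open Cfsg.Agent.Lib.Helper16.Tens Cfsg.Agent.Lib.Helper10.TensFund Cfsg.Agent.Lib.Helper28.TensU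
open scoped Kronecker

variable {F : Type*} [Field F] {a b : ℕ}

/-- `S` is skew-hermitian for the standard hermitian form -/
def SkewM (q : ℕ) (S : Matrix (Fin a) (Fin a) F) : Prop :=
  ∀ x y : Fin a → F, hs q (S *ᵥ x) y + hs q x (S *ᵥ y) = 0

/-- `g` is the central radical element `v ↦ v + (S (ctr (cj q k₀) v)) ⊗ k₀` -/
def IsZ (q : ℕ) (k₀ : Fin b → F) (S : Matrix (Fin a) (Fin a) F) (g : GL (Fin a × Fin b) F) : Prop :=
  ∀ v : Fin a × Fin b → F, act g v = v + pur (S *ᵥ ctr (cj q k₀) v) k₀

/-- the skew-hermitian matrices whose radical element lies in `M` -/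
def XS (q : ℕ) (M : Subgroup (GL (Fin a × Fin b) F)) (k₀ : Fin b → F) :
    Set (Matrix (Fin a) (Fin a) F) :=
  {S | SkewM q S ∧ ∃ g ∈ M, IsZ q k₀ S g}

/-- the conjugate transpose -/
def ct (q : ℕ) (A : Matrix (Fin a) (Fin a) F) : Matrix (Fin a) (Fin a) F :=
  Matrix.of fun i j => A j i ^ q

@[simp] theorem ct_apply (q : ℕ) (A : Matrix (Fin a) (Fin a) F) (i j : Fin a) :
    ct q A i j = A j i ^ q := rfl

/-- the rank-one matrix `u u^†` -/
def rk1 (q : ℕ) (u : Fin a → F) : Matrix (Fin a) (Fin a) F := vecMulVec u (cj q u)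

@[simp] theorem rk1_apply (q : ℕ) (u : Fin a → F) (i j : Fin a) : rk1 q u i j = u i * u j ^ q := by
  simp [rk1, vecMulVec_apply]

/-- the invariance properties of the family `X` -/
structure InvX (q : ℕ) (X : AddSubgroup (Matrix (Fin a) (Fin a) F)) : Prop where
  skew : ∀ S ∈ X, SkewM q S
  scal : ∀ c : F, c ^ q = c → ∀ S ∈ X, c • S ∈ X
  conj : ∀ A : Matrix (Fin a) (Fin a) F, A * ct q A = 1 → A.det = 1 → ∀ S ∈ X, A * S * ct q A ∈ X

/-! ### vocabulary for the case `q = 2` (`F = F_4`) -/

/-- the hermitian matrix with `lam` at `(i,j)`, `lam ^ q` at `(j,i)` and `0` elsewhere -/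
def eE (q : ℕ) (i j : Fin a) (lam : F) : Matrix (Fin a) (Fin a) F :=
  Matrix.of fun x y => if x = i ∧ y = j then lam else if x = j ∧ y = i then lam ^ q else 0

theorem eE_apply (q : ℕ) (i j : Fin a) (lam : F) (x y : Fin a) :
    eE q i j lam x y = if x = i ∧ y = j then lam else if x = j ∧ y = i then lam ^ q else 0 := rfl

/-- the diagonal projection onto `⟨e_i, e_j⟩` -/
def piD (i j : Fin a) : Matrix (Fin a) (Fin a) F :=
  Matrix.diagonal fun x => if x = i ∨ x = j then 1 else 0

/-- the entry mask of a diagonal torus element `d`: keep the entries `(x,y)` with `d x = d y` -/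
noncomputable def maskM (d : Fin a → F) (S : Matrix (Fin a) (Fin a) F) :
    Matrix (Fin a) (Fin a) F :=
  open Classical in Matrix.of fun x y => if d x = d y then S x y else 0

open Classical in
theorem maskM_apply (d : Fin a → F) (S : Matrix (Fin a) (Fin a) F) (x y : Fin a) :
    maskM d S x y = if d x = d y then S x y else 0 := rfl

end Cfsg.Agent.Lib.Helper26.T3c
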