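import Mathlib
import Cfsg.Agent.Lib.Helper9.OExtDefs
import Cfsg.Agent.Lib.Helper7.SpExtBas

/-!
# S5701 farm-out FO-BAS : basic facts on `OStr` (helper26, for helper9)
-/

set_option autoImplicit false

namespace Cfsg.Agent.Lib.Helper26.S5701BAS

open Matrix Module QuadraticMap Cfsg.Agent.Lib.Helper7.SpExt Cfsg.Agent.Lib.Helper9.OExt

variable {F : Type*} [Field F] {L : Type*} [Field L] [Algebra F L] {ι : Type} [Fintype ι]
  [DecidableEq ι] {ρ : L →ₐ[F] Matrix ι ι F} {Q : QuadraticForm F (ι → F)} {τ : L →ₗ[F] F}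
  {B : (ι → F) →ₗ[F] (ι → F) →ₗ[F] L}

theorem B_lin_right (S : OStr ρ Q τ B) (a : L) (v w : ι → F) :
    B v (ρ a *ᵥ w) = a * B v w := by
  rw [S.symm, S.lin, S.symm w v]

theorem polar_rho_left (S : OStr ρ Q τ B) (a : L) (v w : ι → F) :
    polar (⇑Q) (ρ a *ᵥ v) w = τ (a * B v w) := by
  rw [S.tr, S.lin]

theorem polar_rho_right (S : OStr ρ Q τ B) (a : L) (v w : ι → F) :
    polar (⇑Q) v (ρ a *ᵥ w) = τ (a * B v w) := by
  rw [S.tr, B_lin_right S]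

theorem Q_eq (S : OStr ρ Q τ B) (v : ι → F) : Q v = 2⁻¹ * τ (B v v) := by
  have h2 : polar (⇑Q) v v = 2 * Q v := by
    rw [QuadraticMap.polar_self]
    rw [two_nsmul, two_mul]
  rw [← S.tr, h2, ← mul_assoc, inv_mul_cancel₀ S.two, one_mul]

theorem tau_ne (S : OStr ρ Q τ B) {v : ι → F} (hv : v ≠ 0) : τ ≠ 0 := by
  obtain ⟨w, hw⟩ := S.nondeg v hv
  intro h
  apply hw
  rw [S.tr, h, LinearMap.zero_apply]

theorem B_nondeg (S : OStr ρ Q τ B) {v : ι → F} (hv : v ≠ 0) : ∃ w, B v w = 1 := by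
  obtain ⟨w₀, hw₀⟩ := S.nondeg v hv
  have hb : B v w₀ ≠ 0 := by
    intro h
    apply hw₀
    rw [S.tr, h, map_zero]
  refine ⟨ρ (B v w₀)⁻¹ *ᵥ w₀, ?_⟩
  rw [B_lin_right S, inv_mul_cancel₀ hb]

theorem B_eq_zero_iff (S : OStr ρ Q τ B) (x v : ι → F) :
    B x v = 0 ↔ ∀ y ∈ pt ρ v, polar (⇑Q) x y = 0 := by
  constructor
  · intro h y hy
    obtain ⟨a, rfl⟩ := (mem_pt ρ v y).mp hy
    rw [polar_rho_right S, h, mul_zero, map_zero]
  · intro h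
    by_cases hx : x = 0
    · rw [hx, map_zero, LinearMap.zero_apply]
    · apply tau_sep (tau_ne S hx)
      intro c
      rw [← polar_rho_right S]
      exact h _ (smul_mem_pt ρ v c)

theorem Q_rho_of_sing (S : OStr ρ Q τ B) {v : ι → F} (hv : B v v = 0) (a : L) :
    Q (ρ a *ᵥ v) = 0 := by
  rw [Q_eq S, S.lin, B_lin_right S, hv, mul_zero, mul_zero, map_zero, mul_zero]

theorem lsing_smul (S : OStr ρ Q τ B) {v : ι → F} (hv : LSing B v) {a : L} (ha : a ≠ 0) :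
    LSing B (ρ a *ᵥ v) := by
  refine ⟨?_, ?_⟩
  · intro h
    apply hv.1
    have h2 : ρ a⁻¹ *ᵥ (ρ a *ᵥ v) = v := by
      rw [← rho_mul_mulVec, inv_mul_cancel₀ ha, rho_one_mulVec]
    rw [← h2, h, Matrix.mulVec_zero]
  · rw [S.lin, B_lin_right S, hv.2, mul_zero, mul_zero]

theorem polar_act {g : GL ι F} (hg : g ∈ Cfsg.isometryGroup F ⇑Q) (x y : ι → F) :
    polar (⇑Q) (act g x) (act g y) = polar (⇑Q) x y := by
  have h : ∀ u : ι → F, Q (act g u) = Q u := fun u => hg u u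
  unfold QuadraticMap.polar
  rw [← act_add, h, h, h]

theorem Img_isotropic (S : OStr ρ Q τ B) {g : GL ι F} (hg : g ∈ Cfsg.isometryGroup F ⇑Q)
    {v : ι → F} (hv : B v v = 0) :
    ∀ x ∈ Img ρ g v, ∀ y ∈ Img ρ g v, polar (⇑Q) x y = 0 := by
  intro x hx y hy
  rw [mem_Img] at hx hy
  obtain ⟨a, rfl⟩ := hx
  obtain ⟨b, rfl⟩ := hy
  rw [polar_act hg, polar_rho_left S, B_lin_right S, hv, mul_zero, mul_zero, map_zero]

theorem pt_eq_of_mem (ρ : L →ₐ[F] Matrix ι ι F) {v w : ι → F} (hw : w ∈ pt ρ v) (hw0 : w ≠ 0) :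
    pt ρ w = pt ρ v := by
  obtain ⟨a, rfl⟩ := (mem_pt ρ v w).mp hw
  have ha : a ≠ 0 := by
    intro h
    apply hw0
    rw [h, rho_zero_mulVec]
  ext x
  rw [mem_pt, mem_pt]
  constructor
  · rintro ⟨b, rfl⟩
    exact ⟨b * a, by rw [rho_mul_mulVec]⟩
  · rintro ⟨b, rfl⟩
    exact ⟨b * a⁻¹, by rw [← rho_mul_mulVec, mul_assoc, inv_mul_cancel₀ ha, mul_one]⟩

end Cfsg.Agent.Lib.Helper26.S5701BAS
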