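import Mathlib
import Cfsg.Agent.Lib.Helper9.OExtDefs
import Cfsg.Agent.Lib.Helper7.SpExtBas
import Cfsg.Agent.Lib.Helper26.S5701FOBAS

/-!
# S5701 farm-out FO-SIEG : existence of the `L`-Siegel elements (helper26, for helper9)
-/

set_option autoImplicit false

namespace Cfsg.Agent.Lib.Helper26.S5701SIEG

open Matrix Module QuadraticMap Cfsg.Agent.Lib.Helper7.SpExt Cfsg.Agent.Lib.Helper9.OExt
  Cfsg.Agent.Lib.Helper26.S5701BAS

variable {F : Type*} [Field F] {L : Type*} [Field L] [Algebra F L] {ι : Type} [Fintype ι]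
  [DecidableEq ι] {ρ : L →ₐ[F] Matrix ι ι F} {Q : QuadraticForm F (ι → F)} {τ : L →ₗ[F] F}
  {B : (ι → F) →ₗ[F] (ι → F) →ₗ[F] L}

/-- the `L`-Siegel map as an `F`-linear map -/
def siegL (ρ : L →ₐ[F] Matrix ι ι F) (B : (ι → F) →ₗ[F] (ι → F) →ₗ[F] L) (v w : ι → F) :
    (ι → F) →ₗ[F] (ι → F) :=
  LinearMap.id + orb ρ v ∘ₗ B.flip w - orb ρ w ∘ₗ B.flip v -
    orb ρ v ∘ₗ LinearMap.mulLeft F (B w w / 2) ∘ₗ B.flip v

theorem siegL_apply (v w x : ι → F) :
    siegL ρ B v w x =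
      x + ρ (B x w) *ᵥ v - ρ (B x v) *ᵥ w - ρ (B w w / 2 * B x v) *ᵥ v := rfl

theorem two_ne_zero_L (S : OStr ρ Q τ B) : (2 : L) ≠ 0 := by
  have h : algebraMap F L 2 ≠ 0 := by
    intro h0
    apply S.two
    exact (map_eq_zero (algebraMap F L)).mp h0
  rwa [map_ofNat] at h

theorem B_siegL_v (S : OStr ρ Q τ B) {v w : ι → F} (hv : B v v = 0) (hvw : B v w = 0)
    (x : ι → F) : B (siegL ρ B v w x) v = B x v := by
  have hwv : B w v = 0 := by rw [S.symm, hvw]
  rw [siegL_apply]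
  simp only [map_add, map_sub, LinearMap.add_apply, LinearMap.sub_apply, S.lin, hv, hwv, mul_zero,
    add_zero, sub_zero]

theorem B_siegL_w (S : OStr ρ Q τ B) {v w : ι → F} (hv : B v v = 0) (hvw : B v w = 0)
    (x : ι → F) : B (siegL ρ B v w x) w = B x w - B x v * B w w := by
  rw [siegL_apply]
  simp only [map_add, map_sub, LinearMap.add_apply, LinearMap.sub_apply, S.lin, hvw, mul_zero,
    add_zero, sub_zero]

theorem siegL_siegL (S : OStr ρ Q τ B) {v w : ι → F} (hv : B v v = 0) (hvw : B v w = 0)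
    (x : ι → F) : siegL ρ B v (-w) (siegL ρ B v w x) = x := by
  have h2 := two_ne_zero_L S
  have hvw' : B v (-w) = 0 := by rw [map_neg, hvw, neg_zero]
  rw [siegL_apply v (-w)]
  have e1 : B (siegL ρ B v w x) (-w) = -B x w + (B w w / 2 * B x v + B w w / 2 * B x v) := by
    rw [map_neg, B_siegL_w S hv hvw]
    field_simp
    ring
  have e2 : B (-w) (-w) = B w w := by
    rw [map_neg, map_neg, LinearMap.neg_apply, neg_neg]
  rw [e1, B_siegL_v S hv hvw, e2, siegL_apply, rho_add_mulVec, rho_add_mulVec, rho_neg_mulVec,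
    Matrix.mulVec_neg]
  abel

theorem siegL_rho (S : OStr ρ Q τ B) (v w : ι → F) (a : L) (x : ι → F) :
    siegL ρ B v w (ρ a *ᵥ x) = ρ a *ᵥ siegL ρ B v w x := by
  rw [siegL_apply, siegL_apply, S.lin, S.lin, mulVec_sub, mulVec_sub, mulVec_add,
    ← rho_mul_mulVec, ← rho_mul_mulVec, ← rho_mul_mulVec, mul_left_comm]

theorem B_siegL (S : OStr ρ Q τ B) {v w : ι → F} (hv : B v v = 0) (hvw : B v w = 0)
    (x y : ι → F) : B (siegL ρ B v w x) (siegL ρ B v w y) = B x y := by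
  have h2 := two_ne_zero_L S
  have hwv : B w v = 0 := by rw [S.symm, hvw]
  rw [siegL_apply, siegL_apply]
  simp only [map_add, map_sub, LinearMap.add_apply, LinearMap.sub_apply, S.lin, B_lin_right S,
    hv, hvw, hwv, mul_zero, add_zero, sub_zero]
  rw [S.symm v y, S.symm w y]
  field_simp
  ring

theorem exists_sieg (S : OStr ρ Q τ B) (v w : ι → F) (hv : B v v = 0) (hvw : B v w = 0) :
    ∃ g : GL ι F, IsSieg ρ B v w g ∧ IsSieg ρ B v (-w) g⁻¹ ∧
      (∀ a x, act g (ρ a *ᵥ x) = ρ a *ᵥ act g x) ∧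
      (∀ x y, B (act g x) (act g y) = B x y) ∧ g ∈ Cfsg.isometryGroup F ⇑Q := by
  have hvw' : B v (-w) = 0 := by rw [map_neg, hvw, neg_zero]
  obtain ⟨g, hg, hg'⟩ := exists_gl (siegL ρ B v w) (siegL ρ B v (-w))
    (fun x => by
      have := siegL_siegL S hv hvw' x
      rwa [neg_neg] at this)
    (siegL_siegL S hv hvw)
  have hB : ∀ x y, B (act g x) (act g y) = B x y := by
    intro x y
    rw [hg, hg, B_siegL S hv hvw]
  refine ⟨g, fun x => (hg x).trans (siegL_apply v w x),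
    fun x => (hg' x).trans (siegL_apply v (-w) x), ?_, hB, ?_⟩
  · intro a x
    rw [hg, hg, siegL_rho S]
  · intro u _
    change Q (act g u) = Q u
    rw [Q_eq S, Q_eq S u, hB]

end Cfsg.Agent.Lib.Helper26.S5701SIEG
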