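import Mathlib
import Cfsg.Agent.Lib.Helper9.OExtDefs
import Cfsg.Agent.Lib.Helper7.SpExtBas
import Cfsg.Agent.Lib.Helper26.S5701FOBAS
import Cfsg.Agent.Lib.Helper26.S5701FOSIEG

/-!
# S5701 farm-out FO-GEO, part a : G2 (exists_partner), G4 (exists_dual1), G5 (exists_dual2),
G6 (finrank_perp1, finrank_perp2)   (helper26, for helper9)
-/

set_option autoImplicit false

namespace Cfsg.Agent.Lib.Helper26.S5701GEO

open Matrix Module QuadraticMap Cfsg.Agent.Lib.Helper7.SpExt Cfsg.Agent.Lib.Helper9.OExt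
  Cfsg.Agent.Lib.Helper26.S5701BAS Cfsg.Agent.Lib.Helper26.S5701SIEG

variable {F : Type*} [Field F] {L : Type*} [Field L] [Algebra F L] {ι : Type} [Fintype ι]
  [DecidableEq ι] {ρ : L →ₐ[F] Matrix ι ι F} {Q : QuadraticForm F (ι → F)} {τ : L →ₗ[F] F}
  {B : (ι → F) →ₗ[F] (ι → F) →ₗ[F] L} {r : ℕ}

/-- G2 -/
theorem exists_partner (S : OStr ρ Q τ B) {v : ι → F} (hv : LSing B v) :
    ∃ v₂, LSing B v₂ ∧ B v v₂ = 1 := by
  have h2 := two_ne_zero_L S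
  obtain ⟨w, hw⟩ := B_nondeg S hv.1
  have hwv : B w v = 1 := by rw [S.symm, hw]
  have h1 : B v (w - ρ (B w w / 2) *ᵥ v) = 1 := by
    rw [map_sub, B_lin_right S, hv.2, mul_zero, sub_zero, hw]
  refine ⟨w - ρ (B w w / 2) *ᵥ v, ⟨?_, ?_⟩, h1⟩
  · intro h0
    rw [h0, map_zero] at h1
    exact zero_ne_one h1
  · simp only [map_sub, LinearMap.sub_apply, S.lin, B_lin_right S, hv.2, hw, hwv, mul_zero,
      sub_zero, mul_one]
    field_simp
    ring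

/-- G4 -/
theorem exists_dual1 (S : OStr ρ Q τ B) {v₁ u : ι → F} (hv₁ : LSing B v₁) (hu : B u v₁ = 0)
    (hnot : u ∉ pt ρ v₁) (b : L) : ∃ w, B w v₁ = 0 ∧ B u w = b := by
  obtain ⟨v₂, hv₂, h12⟩ := exists_partner S hv₁
  have h21 : B v₂ v₁ = 1 := by rw [S.symm, h12]
  have hz0 : u - ρ (B u v₂) *ᵥ v₁ ≠ 0 := by
    intro h0
    apply hnot
    rw [sub_eq_zero] at h0
    rw [h0]
    exact smul_mem_pt ρ v₁ _
  obtain ⟨w', hw'⟩ := B_nondeg S hz0
  have hw'' : B u w' - B u v₂ * B v₁ w' = 1 := by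
    rw [map_sub, LinearMap.sub_apply, S.lin] at hw'
    exact hw'
  refine ⟨ρ b *ᵥ (w' - ρ (B w' v₁) *ᵥ v₂), ?_, ?_⟩
  · simp only [map_sub, LinearMap.sub_apply, S.lin, h21, mul_one, sub_self, mul_zero]
  · simp only [map_sub, B_lin_right S]
    rw [S.symm w' v₁]
    rw [show B u w' - B v₁ w' * B u v₂ = 1 by rw [← hw'']; ring, mul_one]

/-- G5 -/
theorem exists_dual2 (S : OStr ρ Q τ B) {v₁ u ω : ι → F} (hv₁ : LSing B v₁) (hu : B u v₁ = 0)
    (hω : B ω v₁ = 0) (hnot : u ∉ pt ρ v₁) (hnot' : ∀ c d : L, ω ≠ ρ c *ᵥ u + ρ d *ᵥ v₁) (a b : L) :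
    ∃ w, B w v₁ = 0 ∧ B u w = b ∧ B ω w = a := by
  obtain ⟨w₁, hw₁, huw₁⟩ := exists_dual1 S hv₁ hu hnot 1
  have hω' : B (ω - ρ (B ω w₁) *ᵥ u) v₁ = 0 := by
    rw [map_sub, LinearMap.sub_apply, S.lin, hω, hu, mul_zero, sub_zero]
  have hnω : ω - ρ (B ω w₁) *ᵥ u ∉ pt ρ v₁ := by
    intro hmem
    obtain ⟨d, hd⟩ := (mem_pt ρ v₁ _).mp hmem
    apply hnot' (B ω w₁) d
    rw [hd]
    abel
  obtain ⟨w₂, hw₂, hωw₂⟩ := exists_dual1 S hv₁ hω' hnω 1
  have hωw₂' : B ω w₂ - B ω w₁ * B u w₂ = 1 := by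
    rw [map_sub, LinearMap.sub_apply, S.lin] at hωw₂
    exact hωw₂
  refine ⟨ρ (b - (a - B ω w₁ * b) * B u w₂) *ᵥ w₁ + ρ (a - B ω w₁ * b) *ᵥ w₂, ?_, ?_, ?_⟩
  · simp only [map_add, LinearMap.add_apply, S.lin, hw₁, hw₂, mul_zero, add_zero]
  · simp only [map_add, B_lin_right S, huw₁]
    ring
  · simp only [map_add, B_lin_right S]
    have e : B ω w₂ = 1 + B ω w₁ * B u w₂ := by rw [← hωw₂']; ring
    rw [e]
    ring

/-- surjectivity of `x ↦ B x v` -/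
theorem flip_surjective (S : OStr ρ Q τ B) {v : ι → F} (hv : v ≠ 0) :
    Function.Surjective (B.flip v) := by
  obtain ⟨w, hw⟩ := B_nondeg S hv
  intro a
  refine ⟨ρ a *ᵥ w, ?_⟩
  rw [LinearMap.flip_apply, S.lin, S.symm, hw, mul_one]

/-- G6, first half -/
theorem finrank_perp1 (S : OStr ρ Q τ B) (hrk : finrank F L = r) (hr : 0 < r) {v : ι → F}
    (hv : v ≠ 0) : finrank F ↥(LinearMap.ker (B.flip v)) + r = Fintype.card ι := by
  have : Module.Finite F L := Module.finite_of_finrank_pos (hrk ▸ hr)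
  have h := LinearMap.finrank_range_add_finrank_ker (B.flip v)
  rw [LinearMap.range_eq_top.mpr (flip_surjective S hv), finrank_top, hrk, Module.finrank_pi,
    add_comm] at h
  exact h

/-- dual pair for two `L`-independent vectors -/
theorem exists_dual_pair (S : OStr ρ Q τ B) {v v' : ι → F} (hv : v ≠ 0) (hv' : v' ∉ pt ρ v) :
    ∃ w w', B w v = 1 ∧ B w v' = 0 ∧ B w' v = 0 ∧ B w' v' = 1 := by
  obtain ⟨w₁, hw₁⟩ := B_nondeg S hv
  have hw₁' : B w₁ v = 1 := by rw [S.symm, hw₁]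
  have hz0 : v' - ρ (B w₁ v') *ᵥ v ≠ 0 := by
    intro h0
    apply hv'
    rw [sub_eq_zero] at h0
    rw [h0]
    exact smul_mem_pt ρ v _
  obtain ⟨x, hx⟩ := B_nondeg S hz0
  have hx' : B x v' - B w₁ v' * B x v = 1 := by
    rw [S.symm, map_sub, B_lin_right S] at hx
    exact hx
  have hA : B (x - ρ (B x v) *ᵥ w₁) v = 0 := by
    rw [map_sub, LinearMap.sub_apply, S.lin, hw₁', mul_one, sub_self]
  have hB : B (x - ρ (B x v) *ᵥ w₁) v' = 1 := by
    rw [map_sub, LinearMap.sub_apply, S.lin, ← hx']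
    ring
  refine ⟨w₁ - ρ (B w₁ v') *ᵥ (x - ρ (B x v) *ᵥ w₁), x - ρ (B x v) *ᵥ w₁, ?_, ?_, hA, hB⟩
  · rw [map_sub, LinearMap.sub_apply, S.lin, hA, mul_zero, sub_zero, hw₁']
  · rw [map_sub, LinearMap.sub_apply, S.lin, hB, mul_one, sub_self]

/-- G6, second half -/
theorem finrank_perp2 (S : OStr ρ Q τ B) (hrk : finrank F L = r) (hr : 0 < r) {v v' : ι → F}
    (hv : v ≠ 0) (hv' : v' ∉ pt ρ v) :
    finrank F ↥(LinearMap.ker (B.flip v) ⊓ LinearMap.ker (B.flip v')) + 2 * r = Fintype.card ι := by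
  have : Module.Finite F L := Module.finite_of_finrank_pos (hrk ▸ hr)
  obtain ⟨w, w', h1, h2, h3, h4⟩ := exists_dual_pair S hv hv'
  have hsurj : Function.Surjective ((B.flip v).prod (B.flip v')) := by
    rintro ⟨a, b⟩
    refine ⟨ρ a *ᵥ w + ρ b *ᵥ w', ?_⟩
    have e1 : B (ρ a *ᵥ w + ρ b *ᵥ w') v = a := by
      simp only [map_add, LinearMap.add_apply, S.lin, h1, h3, mul_one, mul_zero, add_zero]
    have e2 : B (ρ a *ᵥ w + ρ b *ᵥ w') v' = b := by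
      simp only [map_add, LinearMap.add_apply, S.lin, h2, h4, mul_one, mul_zero, zero_add]
    exact Prod.ext e1 e2
  have h := LinearMap.finrank_range_add_finrank_ker ((B.flip v).prod (B.flip v'))
  rw [LinearMap.range_eq_top.mpr hsurj, finrank_top, Module.finrank_prod, hrk, Module.finrank_pi,
    LinearMap.ker_prod, add_comm, ← two_mul] at h
  exact h

end Cfsg.Agent.Lib.Helper26.S5701GEO
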