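import Mathlib
import Cfsg.Agent.Lib.Helper9.OExtDefs
import Cfsg.Agent.Lib.Helper7.SpExtBas
import Cfsg.Agent.Lib.Helper15.Witt1
import Cfsg.Agent.Lib.Helper26.S5701FOBAS
import Cfsg.Agent.Lib.Helper26.S5701FOSIEG
import Cfsg.Agent.Lib.Helper26.S5701FOGEOa

/-!
# S5701 farm-out FO-GEO, part b : G1 (exists_lsing_perp), G3 (exists_sieg_data), G8 (lsing_span)
(helper26, for helper9)
-/

set_option autoImplicit false

namespace Cfsg.Agent.Lib.Helper26.S5701GEO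

open Matrix Module QuadraticMap Cfsg.Agent.Lib.Helper7.SpExt Cfsg.Agent.Lib.Helper9.OExt
  Cfsg.Agent.Lib.Helper26.S5701BAS Cfsg.Agent.Lib.Helper26.S5701SIEG

variable {F : Type*} [Field F] {L : Type*} [Field L] [Algebra F L] {ι : Type} [Fintype ι]
  [DecidableEq ι] {ρ : L →ₐ[F] Matrix ι ι F} {Q : QuadraticForm F (ι → F)} {τ : L →ₗ[F] F}
  {B : (ι → F) →ₗ[F] (ι → F) →ₗ[F] L} {r : ℕ}

/-- cutting a subspace by the kernel of an `L`-valued map costs at most `finrank F L` -/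
theorem finrank_cut [Module.Finite F L] (P : Submodule F (ι → F)) (φ : (ι → F) →ₗ[F] L) :
    finrank F ↥P ≤ finrank F ↥(P ⊓ LinearMap.ker φ) + finrank F L := by
  have h := LinearMap.finrank_range_add_finrank_ker (φ.domRestrict P)
  have h1 : finrank F ↥(LinearMap.range (φ.domRestrict P)) ≤ finrank F L := Submodule.finrank_le _
  have h2 : finrank F ↥(LinearMap.ker (φ.domRestrict P)) = finrank F ↥(P ⊓ LinearMap.ker φ) := by
    have e : (LinearMap.ker (φ.domRestrict P)).map P.subtype = P ⊓ LinearMap.ker φ := by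
      ext x
      constructor
      · rintro ⟨⟨z, hz⟩, hzk, rfl⟩
        exact ⟨hz, hzk⟩
      · rintro ⟨hx, hxk⟩
        exact ⟨⟨x, hx⟩, hxk, rfl⟩
    rw [← e]
    exact (LinearEquiv.finrank_eq (Submodule.equivMapOfInjective P.subtype
      (Submodule.injective_subtype P) (LinearMap.ker (φ.domRestrict P))))
  omega

/-- a subspace of larger dimension is not contained in one of smaller dimension -/
theorem exists_mem_not_mem (K P : Submodule F (ι → F)) (h : finrank F ↥P < finrank F ↥K) :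
    ∃ e ∈ K, e ∉ P := by
  by_contra hcon
  push Not at hcon
  have : K ≤ P := hcon
  exact absurd (Submodule.finrank_mono this) (not_le.mpr h)

theorem finrank_pt_le (hrk : finrank F L = r) (hr : 0 < r) (v : ι → F) :
    finrank F ↥(pt ρ v) ≤ r := by
  have : Module.Finite F L := Module.finite_of_finrank_pos (hrk ▸ hr)
  rw [← hrk]
  exact LinearMap.finrank_range_le _

theorem rho_inv_cancel (ρ : L →ₐ[F] Matrix ι ι F) {a : L} (ha : a ≠ 0) (v : ι → F) :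
    ρ a⁻¹ *ᵥ (ρ a *ᵥ v) = v := by
  rw [← rho_mul_mulVec, inv_mul_cancel₀ ha, rho_one_mulVec]

/-- three `L`-independent vectors in a subspace of `F`-dimension `≥ 3r` -/
theorem exists_three (hrk : finrank F L = r) (hr : 0 < r) (K : Submodule F (ι → F))
    (hK : 3 * r ≤ finrank F ↥K) :
    ∃ e0 ∈ K, ∃ e1 ∈ K, ∃ e2 ∈ K, ∀ x0 x1 x2 : L,
      ρ x0 *ᵥ e0 + ρ x1 *ᵥ e1 + ρ x2 *ᵥ e2 = 0 → x0 = 0 ∧ x1 = 0 ∧ x2 = 0 := by
  obtain ⟨e0, he0K, he0⟩ := exists_mem_not_mem K ⊥ (by rw [finrank_bot]; omega)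
  obtain ⟨e1, he1K, he1⟩ := exists_mem_not_mem K (pt ρ e0) (by
    have := finrank_pt_le (ρ := ρ) hrk hr e0
    omega)
  obtain ⟨e2, he2K, he2⟩ := exists_mem_not_mem K (pt ρ e0 ⊔ pt ρ e1) (by
    have h0 := finrank_pt_le (ρ := ρ) hrk hr e0
    have h1 := finrank_pt_le (ρ := ρ) hrk hr e1
    have h3 := Submodule.finrank_add_le_finrank_add_finrank (pt ρ e0) (pt ρ e1)
    omega)
  refine ⟨e0, he0K, e1, he1K, e2, he2K, ?_⟩
  intro x0 x1 x2 hs0
  have hx2 : x2 = 0 := by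
    by_contra hx2
    apply he2
    have h1 : ρ x2 *ᵥ e2 = -(ρ x0 *ᵥ e0 + ρ x1 *ᵥ e1) := eq_neg_of_add_eq_zero_right hs0
    have h2 : e2 = ρ (-(x2⁻¹ * x0)) *ᵥ e0 + ρ (-(x2⁻¹ * x1)) *ᵥ e1 := by
      rw [← rho_inv_cancel ρ hx2 e2, h1, rho_neg_mulVec, rho_neg_mulVec, rho_mul_mulVec,
        rho_mul_mulVec, mulVec_neg, mulVec_add]
      abel
    rw [h2]
    exact Submodule.add_mem_sup (smul_mem_pt ρ e0 _) (smul_mem_pt ρ e1 _)
  rw [hx2, rho_zero_mulVec, add_zero] at hs0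
  have hx1 : x1 = 0 := by
    by_contra hx1
    apply he1
    have h1 : ρ x1 *ᵥ e1 = -(ρ x0 *ᵥ e0) := eq_neg_of_add_eq_zero_right hs0
    have h2 : e1 = ρ (-(x1⁻¹ * x0)) *ᵥ e0 := by
      rw [← rho_inv_cancel ρ hx1 e1, h1, rho_neg_mulVec, rho_mul_mulVec, mulVec_neg]
    rw [h2]
    exact smul_mem_pt ρ e0 _
  rw [hx1, rho_zero_mulVec, add_zero] at hs0
  have hx0 : x0 = 0 := by
    by_contra hx0
    apply he0
    rw [Submodule.mem_bot, ← rho_inv_cancel ρ hx0 e0, hs0, mulVec_zero]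
  exact ⟨hx0, hx1, hx2⟩

/-- G1 -/
theorem exists_lsing_perp [Fintype F] (S : OStr ρ Q τ B) (hrk : finrank F L = r) (hr : 0 < r)
    (hn : 4 * r ≤ Fintype.card ι) (y : ι → F) : ∃ s, LSing B s ∧ B s y = 0 := by
  have hfin : Module.Finite F L := Module.finite_of_finrank_pos (hrk ▸ hr)
  have hLfin : Finite L := Module.finite_of_finite F
  have hKdim : 3 * r ≤ finrank F ↥(LinearMap.ker (B.flip y)) := by
    have h := finrank_cut (⊤ : Submodule F (ι → F)) (B.flip y)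
    rw [top_inf_eq, finrank_top, Module.finrank_pi, hrk] at h
    omega
  obtain ⟨e0, he0, e1, he1, e2, he2, hind⟩ := exists_three (ρ := ρ) hrk hr _ hKdim
  rw [LinearMap.mem_ker, LinearMap.flip_apply] at he0 he1 he2
  let e : Fin 3 → (ι → F) := ![e0, e1, e2]
  let M : Matrix (Fin 3) (Fin 3) L := Matrix.of fun i j => B (e i) (e j)
  obtain ⟨x, hx0, hx⟩ := Cfsg.Agent.Lib.Helper15.exists_singular_of_three_le_finrank
    (M.toQuadraticForm') (by rw [Module.finrank_pi, Fintype.card_fin])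
  refine ⟨ρ (x 0) *ᵥ e0 + ρ (x 1) *ᵥ e1 + ρ (x 2) *ᵥ e2, ⟨?_, ?_⟩, ?_⟩
  · intro h0
    obtain ⟨h1, h2, h3⟩ := hind _ _ _ h0
    apply hx0
    funext i
    fin_cases i
    · exact h1
    · exact h2
    · exact h3
  · have hq : M.toQuadraticForm' x = x ⬝ᵥ M *ᵥ x := by
      unfold Matrix.toQuadraticForm'
      rw [LinearMap.BilinMap.toQuadraticMap_apply, Matrix.toLinearMap₂'_apply']
    rw [hq] at hx
    simp only [Matrix.mulVec, dotProduct, Fin.sum_univ_three, M, Matrix.of_apply] at hx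
    rw [show e 0 = e0 from rfl, show e 1 = e1 from rfl, show e 2 = e2 from rfl] at hx
    simp only [map_add, LinearMap.add_apply, S.lin, B_lin_right S]
    rw [← hx]
    ring
  · simp only [map_add, LinearMap.add_apply, S.lin, he0, he1, he2, mul_zero, add_zero]

/-! ### G3 -/

/-- projection to `y^⊥` (the identity if `y = 0`) -/
def pj (ρ : L →ₐ[F] Matrix ι ι F) (B : (ι → F) →ₗ[F] (ι → F) →ₗ[F] L) (y x : ι → F) : ι → F :=
  x - ρ (B x y / B y y) *ᵥ y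

theorem pj_perp (S : OStr ρ Q τ B) {y : ι → F} (hy : y = 0 ∨ B y y ≠ 0) (x : ι → F) :
    B (pj ρ B y x) y = 0 := by
  unfold pj
  rw [map_sub, LinearMap.sub_apply, S.lin]
  rcases hy with rfl | hy
  · simp
  · rw [div_mul_cancel₀ _ hy, sub_self]

theorem B_pj (S : OStr ρ Q τ B) {y z : ι → F} (hz : B z y = 0) (x : ι → F) :
    B z (pj ρ B y x) = B z x := by
  unfold pj
  rw [map_sub, B_lin_right S, hz, mul_zero, sub_zero]

theorem exists_partner_in (S : OStr ρ Q τ B) {y : ι → F} (hy : y = 0 ∨ B y y ≠ 0) {s : ι → F}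
    (hs : LSing B s) (hsy : B s y = 0) : ∃ s', LSing B s' ∧ B s' y = 0 ∧ B s s' = 1 := by
  have h2 := two_ne_zero_L S
  obtain ⟨w₀, hw₀⟩ := B_nondeg S hs.1
  obtain ⟨w, hw⟩ : ∃ w, w = pj ρ B y w₀ := ⟨_, rfl⟩
  have hwy : B w y = 0 := by rw [hw]; exact pj_perp S hy w₀
  have hsw : B s w = 1 := by rw [hw, B_pj S hsy, hw₀]
  have hws : B w s = 1 := by rw [S.symm, hsw]
  have h1 : B s (w - ρ (B w w / 2) *ᵥ s) = 1 := by
    rw [map_sub, B_lin_right S, hs.2, mul_zero, sub_zero, hsw]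
  refine ⟨w - ρ (B w w / 2) *ᵥ s, ⟨?_, ?_⟩, ?_, h1⟩
  · intro h0
    rw [h0, map_zero] at h1
    exact zero_ne_one h1
  · simp only [map_sub, LinearMap.sub_apply, S.lin, B_lin_right S, hs.2, hsw, hws, mul_zero,
      sub_zero, mul_one]
    field_simp
    ring
  · rw [map_sub, LinearMap.sub_apply, S.lin, hwy, hsy, mul_zero, sub_zero]

theorem exists_lsing_nonperp [Fintype F] (S : OStr ρ Q τ B) (hrk : finrank F L = r) (hr : 0 < r)
    (hn : 4 * r ≤ Fintype.card ι) {y π : ι → F} (hy : y = 0 ∨ B y y ≠ 0) (hπ : π ≠ 0)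
    (hπy : B π y = 0) : ∃ s, LSing B s ∧ B s y = 0 ∧ B s π ≠ 0 := by
  have h2 := two_ne_zero_L S
  obtain ⟨s₀, hs₀, hs₀y⟩ := exists_lsing_perp S hrk hr hn y
  by_cases h0 : B s₀ π = 0
  swap
  · exact ⟨s₀, hs₀, hs₀y, h0⟩
  obtain ⟨s₁, hs₁, hs₁y, h01⟩ := exists_partner_in S hy hs₀ hs₀y
  by_cases h1 : B s₁ π = 0
  swap
  · exact ⟨s₁, hs₁, hs₁y, h1⟩
  have h10 : B s₁ s₀ = 1 := by rw [S.symm, h01]
  obtain ⟨z₀', hz₀'⟩ := B_nondeg S hπ
  obtain ⟨z₀, hz₀⟩ : ∃ z₀, z₀ = pj ρ B y z₀' := ⟨_, rfl⟩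
  have hz₀y : B z₀ y = 0 := by rw [hz₀]; exact pj_perp S hy z₀'
  have hπz₀ : B π z₀ = 1 := by rw [hz₀, B_pj S hπy, hz₀']
  obtain ⟨z, hz⟩ : ∃ z, z = z₀ - ρ (B z₀ s₁) *ᵥ s₀ - ρ (B z₀ s₀) *ᵥ s₁ := ⟨_, rfl⟩
  have hzy : B z y = 0 := by
    simp only [hz, map_sub, LinearMap.sub_apply, S.lin, hz₀y, hs₀y, hs₁y, mul_zero, sub_zero]
  have hzs₀ : B z s₀ = 0 := by
    simp only [hz, map_sub, LinearMap.sub_apply, S.lin, hs₀.2, h10, mul_zero, mul_one, sub_zero,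
      sub_self]
  have hzs₁ : B z s₁ = 0 := by
    simp only [hz, map_sub, LinearMap.sub_apply, S.lin, hs₁.2, h01, mul_zero, mul_one, sub_self]
  have hπz : B π z = 1 := by
    simp only [hz, map_sub, B_lin_right S]
    rw [S.symm π s₀, S.symm π s₁, h0, h1, hπz₀]
    ring
  have hs₀z : B s₀ z = 0 := by rw [S.symm, hzs₀]
  have hs₁z : B s₁ z = 0 := by rw [S.symm, hzs₁]
  have hne : B (s₀ - ρ (B z z / 2) *ᵥ s₁ + z) s₁ = 1 := by
    simp only [map_add, map_sub, LinearMap.add_apply, LinearMap.sub_apply, S.lin, h01, hs₁.2,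
      hzs₁, mul_zero, sub_zero, add_zero]
  refine ⟨s₀ - ρ (B z z / 2) *ᵥ s₁ + z, ⟨?_, ?_⟩, ?_, ?_⟩
  · intro h
    rw [h, map_zero, LinearMap.zero_apply] at hne
    exact zero_ne_one hne
  · simp only [map_add, map_sub, LinearMap.add_apply, LinearMap.sub_apply, S.lin, B_lin_right S,
      hs₀.2, hs₁.2, h01, h10, hzs₀, hzs₁, hs₀z, hs₁z, mul_zero, mul_one, sub_zero, add_zero,
      zero_add, zero_sub]
    field_simp
    ring
  · simp only [map_add, map_sub, LinearMap.add_apply, LinearMap.sub_apply, S.lin, hs₀y, hs₁y, hzy,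
      mul_zero, sub_zero, add_zero]
  · simp only [map_add, map_sub, LinearMap.add_apply, LinearMap.sub_apply, S.lin, h0, h1,
      mul_zero, sub_zero, zero_add]
    rw [S.symm, hπz]
    exact one_ne_zero

theorem exists_nonsing_perp (S : OStr ρ Q τ B) (hrk : finrank F L = r) (hr : 0 < r)
    (hn : 4 * r ≤ Fintype.card ι) {y s s' : ι → F} (hy : y = 0 ∨ B y y ≠ 0)
    (hs : LSing B s) (hs' : LSing B s') (hsy : B s y = 0) (hs'y : B s' y = 0)
    (h1 : B s s' = 1) : ∃ t, B t y = 0 ∧ B t s = 0 ∧ B t s' = 0 ∧ B t t ≠ 0 := by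
  have hfin : Module.Finite F L := Module.finite_of_finrank_pos (hrk ▸ hr)
  have h2 := two_ne_zero_L S
  have h1' : B s' s = 1 := by rw [S.symm, h1]
  have hdim : 0 < finrank F ↥((((⊤ : Submodule F (ι → F)) ⊓ LinearMap.ker (B.flip y)) ⊓
      LinearMap.ker (B.flip s)) ⊓ LinearMap.ker (B.flip s')) := by
    have a1 := finrank_cut (⊤ : Submodule F (ι → F)) (B.flip y)
    have a2 := finrank_cut ((⊤ : Submodule F (ι → F)) ⊓ LinearMap.ker (B.flip y)) (B.flip s)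
    have a3 := finrank_cut (((⊤ : Submodule F (ι → F)) ⊓ LinearMap.ker (B.flip y)) ⊓
      LinearMap.ker (B.flip s)) (B.flip s')
    rw [finrank_top, Module.finrank_pi, hrk] at a1
    rw [hrk] at a2 a3
    omega
  obtain ⟨t₀, ht₀U, ht₀⟩ := exists_mem_not_mem ((((⊤ : Submodule F (ι → F)) ⊓
      LinearMap.ker (B.flip y)) ⊓ LinearMap.ker (B.flip s)) ⊓ LinearMap.ker (B.flip s'))
    (⊥ : Submodule F (ι → F)) (by rw [finrank_bot]; exact hdim)
  rw [Submodule.mem_inf, Submodule.mem_inf, Submodule.mem_inf, LinearMap.mem_ker,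
    LinearMap.mem_ker, LinearMap.mem_ker, LinearMap.flip_apply, LinearMap.flip_apply,
    LinearMap.flip_apply] at ht₀U
  obtain ⟨⟨⟨-, ht₀y⟩, ht₀s⟩, ht₀s'⟩ := ht₀U
  have ht₀ne : t₀ ≠ 0 := fun h => ht₀ ((Submodule.mem_bot F).mpr h)
  by_cases hA : B t₀ t₀ = 0
  swap
  · exact ⟨t₀, ht₀y, ht₀s, ht₀s', hA⟩
  obtain ⟨w₀, hw₀⟩ := B_nondeg S ht₀ne
  obtain ⟨w1, hw1⟩ : ∃ w1, w1 = pj ρ B y w₀ := ⟨_, rfl⟩
  have hw1y : B w1 y = 0 := by rw [hw1]; exact pj_perp S hy w₀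
  have ht₀w1 : B t₀ w1 = 1 := by rw [hw1, B_pj S ht₀y, hw₀]
  obtain ⟨w', hw'⟩ : ∃ w', w' = w1 - ρ (B w1 s') *ᵥ s - ρ (B w1 s) *ᵥ s' := ⟨_, rfl⟩
  have hw'y : B w' y = 0 := by
    simp only [hw', map_sub, LinearMap.sub_apply, S.lin, hw1y, hsy, hs'y, mul_zero, sub_zero]
  have hw's : B w' s = 0 := by
    simp only [hw', map_sub, LinearMap.sub_apply, S.lin, hs.2, h1', mul_zero, mul_one, sub_zero,
      sub_self]
  have hw's' : B w' s' = 0 := by
    simp only [hw', map_sub, LinearMap.sub_apply, S.lin, hs'.2, h1, mul_zero, mul_one, sub_self]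
  have ht₀w' : B t₀ w' = 1 := by
    simp only [hw', map_sub, B_lin_right S, ht₀s, ht₀s', mul_zero, sub_zero, ht₀w1]
  by_cases hB : B w' w' = 0
  swap
  · exact ⟨w', hw'y, hw's, hw's', hB⟩
  refine ⟨t₀ + w', ?_, ?_, ?_, ?_⟩
  · rw [map_add, LinearMap.add_apply, ht₀y, hw'y, add_zero]
  · rw [map_add, LinearMap.add_apply, ht₀s, hw's, add_zero]
  · rw [map_add, LinearMap.add_apply, ht₀s', hw's', add_zero]
  · have hw't₀ : B w' t₀ = 1 := by rw [S.symm, ht₀w']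
    simp only [map_add, LinearMap.add_apply, hA, hB, ht₀w', hw't₀, zero_add, add_zero]
    rw [one_add_one_eq_two]
    exact h2

/-- G3 -/
theorem exists_sieg_data [Fintype F] (S : OStr ρ Q τ B) (hrk : finrank F L = r) (hr : 0 < r)
    (hn : 4 * r ≤ Fintype.card ι) (y π : ι → F) (hy : y = 0 ∨ B y y ≠ 0) (hπ : π ≠ 0)
    (hπy : B π y = 0) :
    ∃ s t, LSing B s ∧ B s y = 0 ∧ B t y = 0 ∧ B s t = 0 ∧ B s π ≠ 0 ∧ B t t ≠ 0 := by
  obtain ⟨s, hs, hsy, hsπ⟩ := exists_lsing_nonperp S hrk hr hn hy hπ hπy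
  obtain ⟨s', hs', hs'y, h1⟩ := exists_partner_in S hy hs hsy
  obtain ⟨t, hty, hts, -, htt⟩ := exists_nonsing_perp S hrk hr hn hy hs hs' hsy hs'y h1
  exact ⟨s, t, hs, hsy, hty, by rw [S.symm, hts], hsπ, htt⟩

/-! ### G8 -/

theorem exists_polar_rep (S : OStr ρ Q τ B) (φ : (ι → F) →ₗ[F] F) :
    ∃ x₀, ∀ v, φ v = polar (⇑Q) x₀ v := by
  have hinj : Function.Injective (QuadraticMap.polarBilin Q) := by
    rw [← LinearMap.ker_eq_bot, LinearMap.ker_eq_bot']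
    intro x hx
    by_contra hx0
    obtain ⟨w, hw⟩ := S.nondeg x hx0
    apply hw
    rw [← QuadraticMap.polarBilin_apply_apply, hx, LinearMap.zero_apply]
  have hsurj : Function.Surjective (QuadraticMap.polarBilin Q) :=
    (LinearMap.injective_iff_surjective_of_finrank_eq_finrank
      (Subspace.dual_finrank_eq (K := F) (V := ι → F)).symm).mp hinj
  obtain ⟨x₀, hx₀⟩ := hsurj φ
  exact ⟨x₀, fun v => by rw [← hx₀, QuadraticMap.polarBilin_apply_apply]⟩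

/-- G8 -/
theorem lsing_span [Fintype F] (S : OStr ρ Q τ B) (hrk : finrank F L = r) (hr : 0 < r)
    (hn : 4 * r ≤ Fintype.card ι) (φ : (ι → F) →ₗ[F] F) (hφ : φ ≠ 0) :
    ∃ s, LSing B s ∧ φ s ≠ 0 := by
  obtain ⟨x₀, hx₀⟩ := exists_polar_rep S φ
  have hx₀ne : x₀ ≠ 0 := by
    intro h0
    apply hφ
    apply LinearMap.ext
    intro v
    rw [hx₀, h0, LinearMap.zero_apply]
    simp [QuadraticMap.polar]
  obtain ⟨s, hs, -, hsπ⟩ := exists_lsing_nonperp S hrk hr hn (y := 0) (Or.inl rfl) hx₀ne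
    (by rw [map_zero])
  have hex : ∃ c, τ (c * B s x₀) ≠ 0 := by
    by_contra hcon
    push Not at hcon
    exact hsπ (tau_sep (tau_ne S hx₀ne) _ hcon)
  obtain ⟨c, hc⟩ := hex
  have hc0 : c ≠ 0 := by
    intro h0
    apply hc
    rw [h0, zero_mul, map_zero]
  refine ⟨ρ c *ᵥ s, lsing_smul S hs hc0, ?_⟩
  rw [hx₀, polar_rho_right S, S.symm]
  exact hc

end Cfsg.Agent.Lib.Helper26.S5701GEO
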