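import Mathlib

set_option autoImplicit false

/-!
A strengthening of Bertrand's postulate (helper26, for helper1's S4150): for `n ≥ 9` there are at
least three primes in the interval `(n, 2n]`.  The proof is Erdős' proof as in
`Mathlib.NumberTheory.Bertrand`: the two extra factors `2n` coming from at most two primes in
`(n, 2n]` are paid for by the fact that `1` and `4` are not prime, so that the estimate of the
central binomial coefficient is unchanged.
-/

namespace Cfsg.Agent.Lib.Helper1.S4150

open Nat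

/-- the primes in `(n, 2n]` -/
def bigPrimes (n : ℕ) : Finset ℕ := (Finset.Ioc n (2 * n)).filter Nat.Prime

theorem mem_bigPrimes {n p : ℕ} : p ∈ bigPrimes n ↔ (n < p ∧ p ≤ 2 * n) ∧ p.Prime := by
  unfold bigPrimes
  rw [Finset.mem_filter, Finset.mem_Ioc]

theorem centralBinom_eq_prod (n : ℕ) (n_large : 2 < n) :
    centralBinom n = (∏ p ∈ Finset.range (2 * n / 3 + 1), p ^ (centralBinom n).factorization p) *
      ∏ p ∈ bigPrimes n, p ^ (centralBinom n).factorization p := by
  have hdisj : Disjoint (Finset.range (2 * n / 3 + 1)) (bigPrimes n) := by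
    rw [Finset.disjoint_left]
    intro x hx hx2
    rw [Finset.mem_range] at hx
    have := (mem_bigPrimes.mp hx2).1.1
    omega
  rw [← Finset.prod_union hdisj]
  refine (Eq.trans ?_ n.prod_pow_factorization_centralBinom).symm
  apply Finset.prod_subset
  · intro x hx
    rw [Finset.mem_union] at hx
    rw [Finset.mem_range]
    rcases hx with hx | hx
    · rw [Finset.mem_range] at hx
      omega
    · have := (mem_bigPrimes.mp hx).1.2
      omega
  · intro x hx hnot
    rw [Finset.mem_range] at hx
    rw [Finset.mem_union, not_or, Finset.mem_range] at hnot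
    obtain ⟨h1, h2⟩ := hnot
    by_cases hp : x.Prime
    · have hxn : x ≤ n := by
        by_contra hcon
        exact h2 (mem_bigPrimes.mpr ⟨⟨by omega, by omega⟩, hp⟩)
      rw [factorization_centralBinom_of_two_mul_self_lt_three_mul n_large hxn (by omega),
        Nat.pow_zero]
    · rw [factorization_eq_zero_of_not_prime _ hp, Nat.pow_zero]

/-- the estimate of the central binomial coefficient when there are at most two primes in
`(n, 2n]` -/
theorem centralBinom_le_of_few (n : ℕ) (n_large : 8 ≤ n) (hB : (bigPrimes n).card ≤ 2) :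
    centralBinom n ≤ (2 * n) ^ sqrt (2 * n) * 4 ^ (2 * n / 3) := by
  have n_pos : 0 < n := by omega
  have n2_pos : 1 ≤ 2 * n := by omega
  have hs4 : 4 ≤ sqrt (2 * n) := by
    rw [Nat.le_sqrt]
    omega
  let S := {p ∈ Finset.range (2 * n / 3 + 1) | Nat.Prime p}
  let f x := x ^ n.centralBinom.factorization x
  have hS : ∏ x ∈ S, f x = ∏ x ∈ Finset.range (2 * n / 3 + 1), f x := by
    refine Finset.prod_filter_of_ne fun p _ h => ?_
    contrapose h; dsimp only [f]
    rw [factorization_eq_zero_of_not_prime n.centralBinom h, _root_.pow_zero]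
  have hbig : ∏ p ∈ bigPrimes n, f p ≤ (2 * n) ^ 2 := by
    calc ∏ p ∈ bigPrimes n, f p ≤ ∏ _p ∈ bigPrimes n, (2 * n) :=
          Finset.prod_le_prod' fun p _ => pow_factorization_choose_le (mul_pos two_pos n_pos)
      _ = (2 * n) ^ (bigPrimes n).card := by rw [Finset.prod_const]
      _ ≤ (2 * n) ^ 2 := pow_right_mono₀ n2_pos hB
  have hsmall : ∏ x ∈ S.filter (· ≤ sqrt (2 * n)), f x ≤ (2 * n) ^ (sqrt (2 * n) - 2) := by
    refine (Finset.prod_le_prod' fun p _ => (?_ : f p ≤ 2 * n)).trans ?_
    · exact pow_factorization_choose_le (mul_pos two_pos n_pos)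
    rw [Finset.prod_const]
    refine pow_right_mono₀ n2_pos ?_
    have hsub : S.filter (· ≤ sqrt (2 * n)) ⊆ (Finset.Icc 2 (sqrt (2 * n))).erase 4 := by
      intro x hx
      obtain ⟨h1, h2⟩ := Finset.mem_filter.1 hx
      have hp := (Finset.mem_filter.1 h1).2
      refine Finset.mem_erase.mpr ⟨?_, Finset.mem_Icc.mpr ⟨hp.two_le, h2⟩⟩
      rintro rfl
      exact absurd hp (by norm_num)
    refine (Finset.card_le_card hsub).trans ?_
    rw [Finset.card_erase_of_mem (Finset.mem_Icc.mpr ⟨by norm_num, hs4⟩), Nat.card_Icc]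
    omega
  have hmid : ∏ x ∈ S.filter (fun x => ¬ x ≤ sqrt (2 * n)), f x ≤ 4 ^ (2 * n / 3) := by
    refine le_trans ?_ (primorial_le_four_pow (2 * n / 3))
    refine (Finset.prod_le_prod' fun p hp => (?_ : f p ≤ p)).trans ?_
    · obtain ⟨h1, h2⟩ := Finset.mem_filter.1 hp
      refine (pow_right_mono₀ (Finset.mem_filter.1 h1).2.one_lt.le ?_).trans (pow_one p).le
      exact Nat.factorization_choose_le_one (sqrt_lt'.mp <| not_le.1 h2)
    refine Finset.prod_le_prod_of_subset_of_one_le' (Finset.filter_subset _ _) ?_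
    exact fun p hp _ => (Finset.mem_filter.1 hp).2.one_lt.le
  rw [centralBinom_eq_prod n (by omega)]
  change (∏ x ∈ Finset.range (2 * n / 3 + 1), f x) * ∏ p ∈ bigPrimes n, f p ≤ _
  rw [← hS, ← Finset.prod_filter_mul_prod_filter_not S (· ≤ sqrt (2 * n))]
  calc (∏ x ∈ S.filter (· ≤ sqrt (2 * n)), f x) *
        (∏ x ∈ S.filter (fun x => ¬ x ≤ sqrt (2 * n)), f x) * ∏ p ∈ bigPrimes n, f p
      ≤ ((2 * n) ^ (sqrt (2 * n) - 2) * 4 ^ (2 * n / 3)) * (2 * n) ^ 2 :=
        Nat.mul_le_mul (Nat.mul_le_mul hsmall hmid) hbig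
    _ = (2 * n) ^ sqrt (2 * n) * 4 ^ (2 * n / 3) := by
        rw [mul_right_comm, ← pow_add, Nat.sub_add_cancel (by omega)]

/-- for `n ≥ 512` there are at least three primes in `(n, 2n]` -/
theorem three_le_card_bigPrimes (n : ℕ) (n_large : 512 ≤ n) : 3 ≤ (bigPrimes n).card := by
  by_contra hcon
  push Not at hcon
  have h1 : 4 ^ n < n * n.centralBinom := Nat.four_pow_lt_mul_centralBinom n (by omega)
  have h2 := centralBinom_le_of_few n (by omega) (by omega)
  have h3 := bertrand_main_inequality n_large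
  have h4 : n * n.centralBinom ≤ 4 ^ n := by
    calc n * n.centralBinom ≤ n * ((2 * n) ^ sqrt (2 * n) * 4 ^ (2 * n / 3)) :=
          Nat.mul_le_mul_left _ h2
      _ = n * (2 * n) ^ sqrt (2 * n) * 4 ^ (2 * n / 3) := by ring
      _ ≤ 4 ^ n := h3
  omega

theorem chain_step (a b c d : ℕ) (pb : b.Prime) (pc : c.Prime) (pd : d.Prime) (_hab : a < b)
    (hbc : b < c) (hcd : c < d) (hd : d ≤ 2 * a) (n : ℕ) (h1 : a ≤ n) (h2 : n < b) :
    ∃ p1 p2 p3 : ℕ, p1.Prime ∧ p2.Prime ∧ p3.Prime ∧ n < p1 ∧ p1 < p2 ∧ p2 < p3 ∧ p3 ≤ 2 * n :=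
  ⟨b, c, d, pb, pc, pd, h2, hbc, hcd, by omega⟩

theorem exists_three_primes_small (n : ℕ) (h9 : 9 ≤ n) (h : n < 601) :
    ∃ p1 p2 p3 : ℕ, p1.Prime ∧ p2.Prime ∧ p3.Prime ∧ n < p1 ∧ p1 < p2 ∧ p2 < p3 ∧ p3 ≤ 2 * n := by
  rcases lt_or_ge n 11 with h0 | h0
  · exact chain_step 9 11 13 17 (by norm_num) (by norm_num) (by norm_num) (by norm_num)
      (by norm_num) (by norm_num) (by norm_num) n (by omega) (by omega)
  rcases lt_or_ge n 13 with h1 | h1
  · exact chain_step 11 13 17 19 (by norm_num) (by norm_num) (by norm_num) (by norm_num)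
      (by norm_num) (by norm_num) (by norm_num) n (by omega) (by omega)
  rcases lt_or_ge n 17 with h2 | h2
  · exact chain_step 13 17 19 23 (by norm_num) (by norm_num) (by norm_num) (by norm_num)
      (by norm_num) (by norm_num) (by norm_num) n (by omega) (by omega)
  rcases lt_or_ge n 19 with h3 | h3
  · exact chain_step 17 19 23 29 (by norm_num) (by norm_num) (by norm_num) (by norm_num)
      (by norm_num) (by norm_num) (by norm_num) n (by omega) (by omega)
  rcases lt_or_ge n 23 with h4 | h4
  · exact chain_step 19 23 29 37 (by norm_num) (by norm_num) (by norm_num) (by norm_num)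
      (by norm_num) (by norm_num) (by norm_num) n (by omega) (by omega)
  rcases lt_or_ge n 29 with h5 | h5
  · exact chain_step 23 29 37 43 (by norm_num) (by norm_num) (by norm_num) (by norm_num)
      (by norm_num) (by norm_num) (by norm_num) n (by omega) (by omega)
  rcases lt_or_ge n 37 with h6 | h6
  · exact chain_step 29 37 43 53 (by norm_num) (by norm_num) (by norm_num) (by norm_num)
      (by norm_num) (by norm_num) (by norm_num) n (by omega) (by omega)
  rcases lt_or_ge n 43 with h7 | h7
  · exact chain_step 37 43 53 67 (by norm_num) (by norm_num) (by norm_num) (by norm_num)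
      (by norm_num) (by norm_num) (by norm_num) n (by omega) (by omega)
  rcases lt_or_ge n 53 with h8 | h8
  · exact chain_step 43 53 67 83 (by norm_num) (by norm_num) (by norm_num) (by norm_num)
      (by norm_num) (by norm_num) (by norm_num) n (by omega) (by omega)
  rcases lt_or_ge n 67 with h9 | h9
  · exact chain_step 53 67 83 103 (by norm_num) (by norm_num) (by norm_num) (by norm_num)
      (by norm_num) (by norm_num) (by norm_num) n (by omega) (by omega)
  rcases lt_or_ge n 83 with h10 | h10
  · exact chain_step 67 83 103 127 (by norm_num) (by norm_num) (by norm_num) (by norm_num)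
      (by norm_num) (by norm_num) (by norm_num) n (by omega) (by omega)
  rcases lt_or_ge n 103 with h11 | h11
  · exact chain_step 83 103 127 157 (by norm_num) (by norm_num) (by norm_num) (by norm_num)
      (by norm_num) (by norm_num) (by norm_num) n (by omega) (by omega)
  rcases lt_or_ge n 127 with h12 | h12
  · exact chain_step 103 127 157 197 (by norm_num) (by norm_num) (by norm_num) (by norm_num)
      (by norm_num) (by norm_num) (by norm_num) n (by omega) (by omega)
  rcases lt_or_ge n 157 with h13 | h13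
  · exact chain_step 127 157 197 241 (by norm_num) (by norm_num) (by norm_num) (by norm_num)
      (by norm_num) (by norm_num) (by norm_num) n (by omega) (by omega)
  rcases lt_or_ge n 197 with h14 | h14
  · exact chain_step 157 197 241 307 (by norm_num) (by norm_num) (by norm_num) (by norm_num)
      (by norm_num) (by norm_num) (by norm_num) n (by omega) (by omega)
  rcases lt_or_ge n 241 with h15 | h15
  · exact chain_step 197 241 307 383 (by norm_num) (by norm_num) (by norm_num) (by norm_num)
      (by norm_num) (by norm_num) (by norm_num) n (by omega) (by omega)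
  rcases lt_or_ge n 307 with h16 | h16
  · exact chain_step 241 307 383 479 (by norm_num) (by norm_num) (by norm_num) (by norm_num)
      (by norm_num) (by norm_num) (by norm_num) n (by omega) (by omega)
  rcases lt_or_ge n 383 with h17 | h17
  · exact chain_step 307 383 479 601 (by norm_num) (by norm_num) (by norm_num) (by norm_num)
      (by norm_num) (by norm_num) (by norm_num) n (by omega) (by omega)
  rcases lt_or_ge n 479 with h18 | h18
  · exact chain_step 383 479 601 751 (by norm_num) (by norm_num) (by norm_num) (by norm_num)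
      (by norm_num) (by norm_num) (by norm_num) n (by omega) (by omega)
  exact chain_step 479 601 751 941 (by norm_num) (by norm_num) (by norm_num) (by norm_num)
    (by norm_num) (by norm_num) (by norm_num) n (by omega) (by omega)

/-- **three primes in `(n, 2n]`** for `n ≥ 9` -/
theorem exists_three_primes (n : ℕ) (hn : 9 ≤ n) :
    ∃ p1 p2 p3 : ℕ, p1.Prime ∧ p2.Prime ∧ p3.Prime ∧ n < p1 ∧ p1 < p2 ∧ p2 < p3 ∧ p3 ≤ 2 * n := by
  rcases lt_or_ge n 601 with h | h
  · exact exists_three_primes_small n hn h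
  have h3 := three_le_card_bigPrimes n (by omega)
  obtain ⟨a, ha, b, hb, c, hc, hab, hac, hbc⟩ := Finset.two_lt_card.mp h3
  obtain ⟨⟨ha1, ha2⟩, pa⟩ := mem_bigPrimes.mp ha
  obtain ⟨⟨hb1, hb2⟩, pb⟩ := mem_bigPrimes.mp hb
  obtain ⟨⟨hc1, hc2⟩, pc⟩ := mem_bigPrimes.mp hc
  rcases lt_or_gt_of_ne hab with h1 | h1 <;> rcases lt_or_gt_of_ne hac with h2 | h2 <;>
    rcases lt_or_gt_of_ne hbc with h3 | h3
  · exact ⟨a, b, c, pa, pb, pc, ha1, h1, h3, hc2⟩
  · exact ⟨a, c, b, pa, pc, pb, ha1, h2, h3, hb2⟩
  · omega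
  · exact ⟨c, a, b, pc, pa, pb, hc1, h2, h1, hb2⟩
  · exact ⟨b, a, c, pb, pa, pc, hb1, h1, h2, hc2⟩
  · omega
  · exact ⟨b, c, a, pb, pc, pa, hb1, h3, h2, ha2⟩
  · exact ⟨c, b, a, pc, pb, pa, hc1, h3, h1, ha2⟩

end Cfsg.Agent.Lib.Helper1.S4150
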