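import Mathlib
import Cfsg.Agent.S4219
import Cfsg.Agent.S0713

set_option autoImplicit false

/-!
Piece TWb of helper1's S4150 (helper26): a 3-transitive group of even permutations of degree 7
(resp. 13) containing an involution (resp. an element of order 5) with exactly three fixed points
contains the alternating group.
-/

namespace Cfsg.Agent.Lib.Helper1.S4150

open Equiv Equiv.Perm MulAction

/-- a subgroup of a finite simple group whose index `k` satisfies `k! < |S|` is everything -/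
theorem eq_top_of_index_factorial_lt {S : Type*} [Group S] [Finite S] [IsSimpleGroup S]
    (H : Subgroup S) (h : H.index.factorial < Nat.card S) : H = ⊤ := by
  have hk : (MulAction.toPermHom S (S ⧸ H)).ker = ⊥ ∨ (MulAction.toPermHom S (S ⧸ H)).ker = ⊤ :=
    Subgroup.Normal.eq_bot_or_eq_top inferInstance
  rcases hk with hk | hk
  · exfalso
    have hinj : Function.Injective (MulAction.toPermHom S (S ⧸ H)) :=
      (MonoidHom.ker_eq_bot_iff _).mp hk
    have h1 := Nat.card_le_card_of_injective _ hinj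
    rw [Nat.card_perm] at h1
    have h2 : Nat.card (S ⧸ H) = H.index := rfl
    rw [h2] at h1
    omega
  · rw [← Subgroup.normalCore_eq_ker] at hk
    exact top_le_iff.mp (hk ▸ Subgroup.normalCore_le H)

/-- an element of order 5 of the symmetric group of degree 13 with at least four fixed points is a
5-cycle -/
theorem isCycle_of_orderOf_five {Ω : Type*} [Fintype Ω] [DecidableEq Ω]
    (hΩ : Fintype.card Ω = 13) (k : Perm Ω) (hk : orderOf k = 5) (T : Finset Ω) (hT : 4 ≤ T.card)
    (hfix : ∀ t ∈ T, k t = t) : k.IsCycle ∧ k.support.card = 5 := by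
  obtain ⟨n, hn⟩ := cycleType_prime_order (σ := k) (by rw [hk]; norm_num)
  rw [hk] at hn
  have hsum : k.support.card = (n + 1) * 5 := by
    rw [← sum_cycleType, hn, Multiset.sum_replicate, smul_eq_mul]
  have hsub : k.support ⊆ Tᶜ := by
    intro ω hω
    rw [Finset.mem_compl]
    intro hωT
    exact (mem_support.mp hω) (hfix ω hωT)
  have hle := Finset.card_le_card hsub
  rw [Finset.card_compl, hΩ] at hle
  have hn0 : n = 0 := by omega
  subst hn0
  refine ⟨card_cycleType_eq_one.mp (by rw [hn]; rfl), by rw [hsum]⟩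

/-- a nontrivial `5`-element of the symmetric group of degree 13 with at least four fixed points
has a power which is a 5-cycle -/
theorem exists_pow_isCycle {Ω : Type*} [Fintype Ω] [DecidableEq Ω]
    (hΩ : Fintype.card Ω = 13) (k : Perm Ω) (hk1 : k ≠ 1) (n : ℕ) (hk : k ^ 5 ^ n = 1)
    (T : Finset Ω) (hT : 4 ≤ T.card) (hfix : ∀ t ∈ T, k t = t) :
    ∃ j : ℕ, (k ^ j).IsCycle ∧ (k ^ j).support.card = 5 := by
  obtain ⟨i, -, hi⟩ := (Nat.dvd_prime_pow Nat.prime_five).mp (orderOf_dvd_of_pow_eq_one hk)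
  have hi0 : i ≠ 0 := by
    rintro rfl
    rw [pow_zero, orderOf_eq_one_iff] at hi
    exact hk1 hi
  refine ⟨5 ^ (i - 1), isCycle_of_orderOf_five hΩ _ ?_ T hT ?_⟩
  · rw [orderOf_pow_of_dvd (by positivity) (by rw [hi]; exact pow_dvd_pow 5 (Nat.sub_le i 1)), hi]
    have : i = (i - 1) + 1 := by omega
    conv_lhs => rw [this, pow_succ]
    exact Nat.mul_div_cancel_left 5 (by positivity)
  · intro t ht
    have : ∀ m : ℕ, (k ^ m) t = t := by
      intro m
      induction m with
      | zero => simp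
      | succ m ih => rw [pow_succ, Perm.mul_apply, hfix t ht, ih]
    exact this _

/-- the case of degree 7 -/
theorem alt_le_of_three_fix_seven {Ω : Type*} [Fintype Ω] [DecidableEq Ω]
    (G : Subgroup (Perm Ω)) (hG : G ≤ alternatingGroup Ω)
    (h3 : MulAction.IsMultiplyPretransitive G Ω 3) (hΩ : Fintype.card Ω = 7)
    (c : Perm Ω) (hc : c ∈ G) (hcr : orderOf c = 2)
    (hfix : (Finset.univ.filter (fun ω => c ω = ω)).card = 3) : alternatingGroup Ω ≤ G := by
  have hnt : Nontrivial Ω := Fintype.one_lt_card_iff_nontrivial.mp (by omega)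
  have hsimp : IsSimpleGroup (alternatingGroup Ω) :=
    alternatingGroup.isSimpleGroup (by rw [Nat.card_eq_fintype_card, hΩ]; norm_num)
  -- the order of the alternating group
  have hA : Nat.card (alternatingGroup Ω) = 2520 := by
    have h := two_mul_nat_card_alternatingGroup (α := Ω)
    rw [Nat.card_perm, Nat.card_eq_fintype_card (α := Ω), hΩ] at h
    have e : (7 : ℕ).factorial = 5040 := by decide
    omega
  -- the order of `G`
  set F : Set Ω := {ω | c ω = ω} with hF
  have hFc : F.ncard = 3 := by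
    rw [← hfix, ← Set.ncard_coe_finset]
    congr 1
    ext ω
    simp [hF]
  have hidx := h3.index_of_fixingSubgroup_mul hFc
  rw [Nat.card_eq_fintype_card (α := Ω), hΩ] at hidx
  have e7 : (7 : ℕ).factorial = 5040 := by decide
  have e4 : (7 - 3 : ℕ).factorial = 24 := by decide
  rw [e7, e4] at hidx
  have hidx' : (fixingSubgroup G F).index = 210 := by omega
  have hcard := Subgroup.index_mul_card (fixingSubgroup G F)
  rw [hidx'] at hcard
  have hfix2 : 2 ≤ Nat.card (fixingSubgroup G F) := by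
    have hne : (fixingSubgroup G F) ≠ ⊥ := by
      intro hbot
      have hmem : (⟨c, hc⟩ : G) ∈ fixingSubgroup G F := by
        rw [mem_fixingSubgroup_iff]
        intro y hy
        exact hy
      rw [hbot, Subgroup.mem_bot] at hmem
      have hc1 : c = 1 := congrArg Subtype.val hmem
      rw [hc1, orderOf_one] at hcr
      omega
    exact (Subgroup.one_lt_card_iff_ne_bot _).mpr hne
  have hG420 : 420 ≤ Nat.card G := by nlinarith
  -- the index of `G` in the alternating group
  have hsub := Subgroup.index_mul_card (G.subgroupOf (alternatingGroup Ω))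
  have hcardsub : Nat.card (G.subgroupOf (alternatingGroup Ω)) = Nat.card G :=
    Nat.card_congr (Subgroup.subgroupOfEquivOfLe hG).toEquiv
  rw [hcardsub, hA] at hsub
  have hidx6 : (G.subgroupOf (alternatingGroup Ω)).index ≤ 6 := by
    by_contra hcon
    push Not at hcon
    nlinarith
  have htop : G.subgroupOf (alternatingGroup Ω) = ⊤ := by
    apply eq_top_of_index_factorial_lt
    rw [hA]
    calc (G.subgroupOf (alternatingGroup Ω)).index.factorial ≤ (6 : ℕ).factorial :=
          Nat.factorial_le hidx6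
      _ < 2520 := by decide
  exact Subgroup.subgroupOf_eq_top.mp htop

/-- iterated conjugation -/
theorem conj_pow_eq {Γ : Type*} [Group Γ] (g c : Γ) (j : ℕ) (h : g * c * g⁻¹ = c ^ j) (n : ℕ) :
    g ^ n * c * (g ^ n)⁻¹ = c ^ j ^ n := by
  induction n with
  | zero => simp
  | succ n ih =>
    have e : g ^ (n + 1) * c * (g ^ (n + 1))⁻¹ = g * (g ^ n * c * (g ^ n)⁻¹) * g⁻¹ := by
      rw [pow_succ']
      group
    rw [e, ih]
    have e2 : g * c ^ j ^ n * g⁻¹ = (g * c * g⁻¹) ^ j ^ n := by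
      rw [conj_pow]
    rw [e2, h, ← pow_mul, pow_succ']

/-- the powers of a permutation which permutes three points cyclically -/
theorem pow_ne_of_three {Ω : Type*} (u : Perm Ω) {a b d : Ω} (hab : a ≠ b) (had : a ≠ d)
    (hbd : b ≠ d) (h1 : u a = b) (h2 : u b = d) (h3 : u d = a) (m : ℕ) (hm : ¬ 3 ∣ m) :
    (u ^ m) a ≠ a ∧ (u ^ m) b ≠ b ∧ (u ^ m) d ≠ d := by
  have hcube : ∀ q : ℕ, (u ^ (3 * q)) a = a ∧ (u ^ (3 * q)) b = b ∧ (u ^ (3 * q)) d = d := by
    intro q
    induction q with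
    | zero => simp
    | succ q ih =>
      have e : u ^ (3 * (q + 1)) = u * (u * (u * u ^ (3 * q))) := by
        rw [show 3 * (q + 1) = 3 * q + 1 + 1 + 1 by ring, pow_succ', pow_succ', pow_succ']
      rw [e]
      simp only [Perm.mul_apply, ih.1, ih.2.1, ih.2.2, h1, h2, h3]
      exact ⟨trivial, trivial, trivial⟩
  obtain ⟨ha, hb, hd⟩ := hcube (m / 3)
  have hm3 : m % 3 = 1 ∨ m % 3 = 2 := by omega
  rcases hm3 with hr | hr
  · have e : u ^ m = u * u ^ (3 * (m / 3)) := by
      rw [← pow_succ']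
      congr 1
      omega
    rw [e]
    simp only [Perm.mul_apply, ha, hb, hd, h1, h2, h3]
    exact ⟨hab.symm, hbd.symm, had⟩
  · have e : u ^ m = u * (u * u ^ (3 * (m / 3))) := by
      rw [← pow_succ', ← pow_succ']
      congr 1
      omega
    rw [e]
    simp only [Perm.mul_apply, ha, hb, hd, h1, h2, h3]
    exact ⟨had.symm, hab, hbd⟩

/-- a `3`-element `z` of the symmetric group of degree 13 commuting with an element `c` of order 5
with exactly three fixed points, none of which is fixed by `z`, is a 3-cycle -/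
theorem isThreeCycle_of_commute {Ω : Type*} [Fintype Ω] [DecidableEq Ω]
    (hΩ : Fintype.card Ω = 13) (c z : Perm Ω) (hc5 : c ^ 5 = 1)
    (hfix : (Finset.univ.filter (fun ω => c ω = ω)).card = 3) (a : ℕ) (hz : z ^ 3 ^ a = 1)
    (hcz : c * z = z * c) (hzF : ∀ ω, c ω = ω → z ω ≠ ω) : z.IsThreeCycle := by
  have : Fact (Nat.Prime 3) := ⟨Nat.prime_three⟩
  have : Fact (Nat.Prime 5) := ⟨Nat.prime_five⟩
  -- modulo 3
  have h3 := card_compl_support_modEq (p := 3) (n := a) hz
  rw [hΩ] at h3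
  -- the fixed points of `c` are in the support of `z`
  have hsub : Finset.univ.filter (fun ω => c ω = ω) ⊆ z.support := by
    intro ω hω
    rw [Finset.mem_filter] at hω
    exact mem_support.mpr (hzF ω hω.2)
  have hge : 3 ≤ z.support.card := hfix ▸ Finset.card_le_card hsub
  have hcompl : z.supportᶜ.card = 13 - z.support.card := by
    rw [Finset.card_compl, hΩ]
  -- modulo 5
  have hinv : ∀ ω, c ω ∈ z.supportᶜ ↔ ω ∈ z.supportᶜ := by
    intro ω
    simp only [Finset.mem_compl, mem_support, not_not]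
    have e : z (c ω) = c (z ω) := by
      have := congrArg (fun f : Perm Ω => f ω) hcz
      simp only [Perm.mul_apply] at this
      exact this.symm
    constructor
    · intro h
      rw [e] at h
      exact c.injective h
    · intro h
      rw [e, h]
  have hc1 : (c.subtypePerm hinv) ^ 5 ^ 1 = 1 := by
    rw [pow_one]
    ext ω
    simp [hc5]
  have h5 := card_compl_support_modEq (p := 5) (n := 1) hc1
  have hempty : (c.subtypePerm hinv).supportᶜ = ∅ := by
    rw [Finset.eq_empty_iff_forall_notMem]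
    intro ω hω
    rw [Finset.mem_compl, mem_support, not_not] at hω
    have h1 : c ω.1 = ω.1 := congrArg Subtype.val hω
    have h2 := ω.2
    rw [Finset.mem_compl, mem_support, not_not] at h2
    exact hzF ω.1 h1 h2
  rw [hempty, Finset.card_empty, Fintype.card_coe] at h5
  have h5' : z.supportᶜ.card % 5 = 0 := h5.symm
  have h3' : z.supportᶜ.card % 3 = 13 % 3 := h3
  rw [← card_support_eq_three_iff]
  omega

/-- the case of degree 13 -/
theorem alt_le_of_three_fix_thirteen {Ω : Type*} [Fintype Ω] [DecidableEq Ω]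
    (G : Subgroup (Perm Ω)) (h3 : MulAction.IsMultiplyPretransitive G Ω 3)
    (hΩ : Fintype.card Ω = 13) (c : Perm Ω) (hc : c ∈ G) (hcr : orderOf c = 5)
    (hfix : (Finset.univ.filter (fun ω => c ω = ω)).card = 3) : alternatingGroup Ω ≤ G := by
  have hF5 : Fact (Nat.Prime 5) := ⟨Nat.prime_five⟩
  have h2 : IsMultiplyPretransitive G Ω 2 :=
    isMultiplyPretransitive_of_le (n := 3) (by norm_num)
      (by rw [Nat.card_eq_fintype_card, hΩ]; norm_num)
  have hprim : IsPreprimitive G Ω := isPreprimitive_of_is_two_pretransitive h2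
  by_cases hA : ∃ g ∈ G, g.IsCycle ∧ g.support.card = 5
  · obtain ⟨g, hg, hgc, hg5⟩ := hA
    exact Cfsg.Agent.S0713.result G hprim Nat.prime_five (by omega) (by omega) hgc hg5 hg
  push Not at hA
  have hc5 : c ^ 5 = 1 := by rw [← hcr]; exact pow_orderOf_eq_one c
  have hc1 : c ≠ 1 := by
    rintro rfl
    rw [orderOf_one] at hcr
    omega
  obtain ⟨α, β, γ, hαβ, hαγ, hβγ, hF⟩ := Finset.card_eq_three.mp hfix
  have hmemF : ∀ ω, c ω = ω ↔ (ω = α ∨ ω = β ∨ ω = γ) := by
    intro ω
    have : ω ∈ Finset.univ.filter (fun ω => c ω = ω) ↔ ω ∈ ({α, β, γ} : Finset Ω) := by rw [hF]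
    simpa using this
  have hcα : c α = α := (hmemF α).mpr (Or.inl rfl)
  have hcβ : c β = β := (hmemF β).mpr (Or.inr (Or.inl rfl))
  have hcγ : c γ = γ := (hmemF γ).mpr (Or.inr (Or.inr rfl))
  -- the two embeddings
  let x : Fin 3 ↪ Ω := ⟨![α, β, γ], by
    intro i j h
    fin_cases i <;> fin_cases j <;> simp_all⟩
  let y : Fin 3 ↪ Ω := ⟨![β, γ, α], by
    intro i j h
    fin_cases i <;> fin_cases j <;> simp_all [eq_comm]⟩
  have hx0 : x 0 = α := rfl
  have hx1 : x 1 = β := rfl
  have hx2 : x 2 = γ := rfl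
  have hy0 : y 0 = β := rfl
  have hy1 : y 1 = γ := rfl
  have hy2 : y 2 = α := rfl
  -- the stabilizer of the three points
  have hstab : ∀ k : ↥G, k ∈ stabilizer (↥G) x ↔ (k : Perm Ω) α = α ∧ (k : Perm Ω) β = β ∧
      (k : Perm Ω) γ = γ := by
    intro k
    rw [mem_stabilizer_iff]
    constructor
    · intro h
      have h0 := DFunLike.congr_fun h 0
      have h1 := DFunLike.congr_fun h 1
      have h2 := DFunLike.congr_fun h 2
      exact ⟨h0, h1, h2⟩
    · rintro ⟨h0, h1, h2⟩
      ext i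
      fin_cases i
      · exact h0
      · exact h1
      · exact h2
  have hcM : (⟨c, hc⟩ : ↥G) ∈ stabilizer (↥G) x := (hstab _).mpr ⟨hcα, hcβ, hcγ⟩
  have hord : orderOf (⟨⟨c, hc⟩, hcM⟩ : ↥(stabilizer (↥G) x)) = 5 := by
    rw [Subgroup.orderOf_mk, Subgroup.orderOf_mk, hcr]
  have hZ : IsPGroup 5 ↥(Subgroup.zpowers (⟨⟨c, hc⟩, hcM⟩ : ↥(stabilizer (↥G) x))) := by
    apply IsPGroup.of_card (n := 1)
    rw [Nat.card_zpowers, hord, pow_one]
  obtain ⟨P, hP⟩ := hZ.exists_le_sylow
  set P' : Subgroup ↥G := (P : Subgroup ↥(stabilizer (↥G) x)).map (stabilizer (↥G) x).subtype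
    with hP'
  have hcP' : (⟨c, hc⟩ : ↥G) ∈ P' :=
    ⟨⟨⟨c, hc⟩, hcM⟩, hP (Subgroup.mem_zpowers _), rfl⟩
  have hP'fix : ∀ k ∈ P', (k : Perm Ω) α = α ∧ (k : Perm Ω) β = β ∧ (k : Perm Ω) γ = γ := by
    rintro _ ⟨m, -, rfl⟩
    exact (hstab _).mp m.2
  have hP'pg : IsPGroup 5 ↥P' := P.isPGroup'.map _
  -- the nonidentity elements of `P'` fix no further point
  have hsemi : ∀ k ∈ P', k ≠ 1 → ∀ δ, (k : Perm Ω) δ = δ → δ = α ∨ δ = β ∨ δ = γ := by
    intro k hk hk1 δ hδ
    by_contra hcon
    push Not at hcon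
    obtain ⟨n, hn⟩ := hP'pg ⟨k, hk⟩
    have hn' : (k : Perm Ω) ^ 5 ^ n = 1 := by
      have := congrArg (fun t : ↥P' => ((t : ↥G) : Perm Ω)) hn
      simpa using this
    have hk1' : (k : Perm Ω) ≠ 1 := fun h => hk1 (Subtype.ext h)
    obtain ⟨hkα, hkβ, hkγ⟩ := hP'fix k hk
    obtain ⟨j, hj1, hj2⟩ := exists_pow_isCycle hΩ (k : Perm Ω) hk1' n hn' {α, β, γ, δ}
      (by
        rw [Finset.card_insert_of_notMem, Finset.card_insert_of_notMem,
          Finset.card_insert_of_notMem, Finset.card_singleton]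
        · simp [hcon.2.2.symm]
        · simp [hβγ, hcon.2.1.symm]
        · simp [hαβ, hαγ, hcon.1.symm])
      (by
        intro t ht
        simp only [Finset.mem_insert, Finset.mem_singleton] at ht
        rcases ht with rfl | rfl | rfl | rfl
        · exact hkα
        · exact hkβ
        · exact hkγ
        · exact hδ)
    exact hA _ (G.pow_mem k.2 j) hj1 hj2
  -- a point outside the three fixed points
  obtain ⟨δ, hδ⟩ : ∃ δ, ¬ (δ = α ∨ δ = β ∨ δ = γ) := by
    by_contra hcon
    push Not at hcon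
    have hsub : (Finset.univ : Finset Ω) ⊆ {α, β, γ} := by
      intro ω _
      simp only [Finset.mem_insert, Finset.mem_singleton]
      exact hcon ω
    have := Finset.card_le_card hsub
    rw [Finset.card_univ, hΩ, ← hF, hfix] at this
    omega
  -- the order of `P'`
  have hinj : Function.Injective (fun k : ↥P' => ((k : ↥G) : Perm Ω) δ) := by
    intro k k' hkk
    by_contra hne
    have hmem : (k : ↥G)⁻¹ * (k' : ↥G) ∈ P' := P'.mul_mem (P'.inv_mem k.2) k'.2
    have hne1 : (k : ↥G)⁻¹ * (k' : ↥G) ≠ 1 := by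
      intro h
      apply hne
      apply Subtype.ext
      exact (inv_mul_eq_one.mp h)
    refine hδ (hsemi _ hmem hne1 δ ?_)
    show (((k : ↥G) : Perm Ω)⁻¹ * ((k' : ↥G) : Perm Ω)) δ = δ
    rw [Perm.mul_apply, Perm.inv_eq_iff_eq]
    exact hkk.symm
  have hcard13 : Nat.card ↥P' ≤ 13 := by
    have := Nat.card_le_card_of_injective _ hinj
    rwa [Nat.card_eq_fintype_card (α := Ω), hΩ] at this
  obtain ⟨e, he⟩ := IsPGroup.iff_card.mp hP'pg
  have hzle : Subgroup.zpowers (⟨c, hc⟩ : ↥G) ≤ P' := by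
    rw [Subgroup.zpowers_le]
    exact hcP'
  have hzcard : Nat.card ↥(Subgroup.zpowers (⟨c, hc⟩ : ↥G)) = 5 := by
    rw [Nat.card_zpowers, Subgroup.orderOf_mk, hcr]
  have hcard5 : Nat.card ↥P' = 5 := by
    have h5le : 5 ≤ Nat.card ↥P' := hzcard ▸ Subgroup.card_le_of_le hzle
    rw [he] at hcard13 h5le ⊢
    have he2 : e < 2 := by
      by_contra hcon
      push Not at hcon
      have := Nat.pow_le_pow_right (show 0 < 5 by norm_num) hcon
      omega
    interval_cases e
    · omega
    · rfl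
  have hPeq : Subgroup.zpowers (⟨c, hc⟩ : ↥G) = P' :=
    Subgroup.eq_of_le_of_card_ge hzle (by rw [hcard5, hzcard])
  -- Witt's lemma
  obtain ⟨g, hgN, hgy⟩ := Cfsg.Agent.S4219.result (G := ↥G) (α := Ω) (t := 3) h3 x P x y
    (by
      intro i
      rw [mem_fixedPoints]
      rintro ⟨k, hk⟩
      obtain ⟨h0, h1, h2⟩ := hP'fix k hk
      fin_cases i
      · exact h0
      · exact h1
      · exact h2)
    (by
      intro i
      rw [mem_fixedPoints]
      rintro ⟨k, hk⟩
      obtain ⟨h0, h1, h2⟩ := hP'fix k hk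
      fin_cases i
      · exact h1
      · exact h2
      · exact h0)
  have hg0 := DFunLike.congr_fun hgy 0
  have hg1 := DFunLike.congr_fun hgy 1
  have hg2 := DFunLike.congr_fun hgy 2
  have hgα : (g : Perm Ω) α = β := hg0
  have hgβ : (g : Perm Ω) β = γ := hg1
  have hgγ : (g : Perm Ω) γ = α := hg2
  -- `g` normalizes the group generated by `c`
  have hconj : g * ⟨c, hc⟩ * g⁻¹ ∈ Subgroup.zpowers (⟨c, hc⟩ : ↥G) := by
    rw [hPeq]
    exact (Subgroup.mem_normalizer_iff.mp hgN _).mp hcP'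
  rw [← mem_powers_iff_mem_zpowers, Submonoid.mem_powers_iff] at hconj
  obtain ⟨j, hj⟩ := hconj
  have hj' : (g : Perm Ω) * c * (g : Perm Ω)⁻¹ = c ^ j := by
    have := congrArg (fun t : ↥G => (t : Perm Ω)) hj
    simpa using this.symm
  have hj5 : j % 5 ≠ 0 := by
    intro h0
    have hd : 5 ∣ j := Nat.dvd_of_mod_eq_zero h0
    obtain ⟨q, rfl⟩ := hd
    rw [pow_mul, hc5, one_pow] at hj'
    apply hc1
    have : c = (g : Perm Ω)⁻¹ * ((g : Perm Ω) * c * (g : Perm Ω)⁻¹) * (g : Perm Ω) := by group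
    rw [this, hj']
    group
  have hcomm4 : (g : Perm Ω) ^ 4 * c * ((g : Perm Ω) ^ 4)⁻¹ = c := by
    rw [conj_pow_eq _ _ j hj' 4, ← pow_mod_orderOf, hcr, Nat.pow_mod]
    have hlt : j % 5 < 5 := Nat.mod_lt _ (by norm_num)
    interval_cases (j % 5)
    · exact absurd rfl hj5
    all_goals simp
  have hcomm : c * (g : Perm Ω) ^ 4 = (g : Perm Ω) ^ 4 * c := by
    have := congrArg (fun t => t * (g : Perm Ω) ^ 4) hcomm4
    simpa [mul_assoc] using this.symm
  -- the `3`-part
  have hN0 : orderOf (g : Perm Ω) ≠ 0 := (orderOf_pos _).ne'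
  obtain ⟨a, m, hm3, hNam⟩ := Nat.exists_eq_pow_mul_and_not_dvd hN0 3 (by norm_num)
  have hz : ((g : Perm Ω) ^ (4 * m)) ^ 3 ^ a = 1 := by
    rw [← pow_mul, show 4 * m * 3 ^ a = (3 ^ a * m) * 4 by ring, ← hNam, pow_mul,
      pow_orderOf_eq_one, one_pow]
  have hcz : c * (g : Perm Ω) ^ (4 * m) = (g : Perm Ω) ^ (4 * m) * c := by
    rw [pow_mul]
    exact (Commute.pow_right (show Commute c ((g : Perm Ω) ^ 4) from hcomm) m).eq
  have h34 : ¬ 3 ∣ 4 * m := by
    intro h
    rcases (Nat.Prime.dvd_mul Nat.prime_three).mp h with h | h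
    · omega
    · exact hm3 h
  obtain ⟨hzα, hzβ, hzγ⟩ := pow_ne_of_three (g : Perm Ω) hαβ hαγ hβγ hgα hgβ hgγ (4 * m) h34
  have h3c := isThreeCycle_of_commute hΩ c ((g : Perm Ω) ^ (4 * m)) hc5 hfix a hz hcz (by
    intro ω hω
    rcases (hmemF ω).mp hω with rfl | rfl | rfl
    · exact hzα
    · exact hzβ
    · exact hzγ)
  exact alternatingGroup_le_of_isPreprimitive_of_isThreeCycle_mem hprim h3c (G.pow_mem g.2 _)

/-- **Piece TWb** -/
theorem alt_le_of_three_fix {Ω : Type*} [Fintype Ω] [DecidableEq Ω] (G : Subgroup (Perm Ω))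
    (hG : G ≤ alternatingGroup Ω) (h3 : MulAction.IsMultiplyPretransitive G Ω 3)
    {r : ℕ} (hcase : (Fintype.card Ω = 7 ∧ r = 2) ∨ (Fintype.card Ω = 13 ∧ r = 5))
    (c : Perm Ω) (hc : c ∈ G) (hcr : orderOf c = r)
    (hfix : (Finset.univ.filter (fun ω => c ω = ω)).card = 3) : alternatingGroup Ω ≤ G := by
  rcases hcase with ⟨hΩ, rfl⟩ | ⟨hΩ, rfl⟩
  · exact alt_le_of_three_fix_seven G hG h3 hΩ c hc hcr hfix
  · exact alt_le_of_three_fix_thirteen G h3 hΩ c hc hcr hfix

end Cfsg.Agent.Lib.Helper1.S4150
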