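import Mathlib
import Cfsg.Agent.Lib.Helper13.TensSODefs
import Cfsg.Agent.Lib.Helper20.S5666ExitDefs
import Cfsg.Agent.Lib.Helper13.S5666FOAPI

/-!
# S5666 exit (a ≥ 4), piece E-C (helper26; sub-architect helper20): radical calculus
-/

set_option autoImplicit false
set_option linter.unusedSectionVars false
set_option linter.unusedVariables false

namespace Cfsg.Agent.Lib.Helper26.S5666EC

open Matrix Module
open Cfsg.Agent.Lib.Helper16.Tens Cfsg.Agent.Lib.Helper10.TensFund Cfsg.Agent.Lib.Helper13.TensSO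
open Cfsg.Agent.Lib.Helper28.TensU (ctrL ctrL_apply ctrL_pur hypL mem_hypL_iff ptL mem_ptL_iff pur_mem_ptL rootGLL
  rootGLL_val act_rootGLL rootGLL_mem_SL rootGLL_mem_kron)
open Cfsg.Agent.Lib.Helper3.SpT (bf SympG E E_mulVec E_mul_E uni uni_val uni_inv_val bf_add_left bf_add_right
  bf_sub_left bf_sub_right)
open Cfsg.Agent.Lib.Helper20.S5666Exit
open Cfsg.Agent.Lib.Helper13.S5666API (mem_hypL_iff_perp mem_img_hypL_iff_perp)
open scoped Kronecker

variable {F : Type*} [Field F] [Fintype F] {a b : ℕ}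
variable {J1 : Matrix (Fin a) (Fin a) F} {J2 : Matrix (Fin b) (Fin b) F}

local notation "V" => (Fin a × Fin b → F)

/-- E-C (a) -/
theorem img_hypL_of_img_ptL (hS : SetupSO J1 J2) (m : GL (Fin a × Fin b) F) (hm : m ∈ IsoG (J1 ⊗ₖ J2))
    (u₀ : Fin a → F) (hstab : img m (ptL (b := b) u₀) = ptL u₀) :
    img m (hypL (b := b) (J1 *ᵥ u₀)) = hypL (J1 *ᵥ u₀) := by
  ext v
  rw [mem_img_hypL_iff_perp hS m hm, hstab, ← mem_hypL_iff_perp hS]

omit [Fintype F] in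
theorem inRadL_exists (u₀ : Fin a → F) (g : GL (Fin a × Fin b) F) (hg : InRadL J1 u₀ g)
    (v : V) (hv : v ∈ hypL (b := b) (J1 *ᵥ u₀)) : ∃ l ∈ ptL (b := b) u₀, act g v = v + l :=
  ⟨act g v - v, hg.modL v hv, by abel⟩

omit [Fintype F] in
/-- E-C (b) -/
theorem inRadL_inv (u₀ : Fin a → F) (g : GL (Fin a × Fin b) F) (hg : InRadL J1 u₀ g) : InRadL J1 u₀ g⁻¹ := by
  have h1 : ∀ v ∈ ptL (b := b) u₀, act g⁻¹ v = v := by
    intro v hv
    have := hg.fixL v hv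
    calc act g⁻¹ v = act g⁻¹ (act g v) := by rw [this]
      _ = v := act_inv_act g v
  refine ⟨h1, ?_⟩
  intro v hv
  obtain ⟨l, hl, hgl⟩ := inRadL_exists u₀ g hg v hv
  have h2 : v = act g⁻¹ v + l := by
    have := congrArg (act g⁻¹) hgl
    rwa [act_inv_act, map_add, h1 l hl] at this
  have h3 : act g⁻¹ v - v = -l := by
    generalize act g⁻¹ v = w at h2 ⊢
    rw [h2]
    abel
  rw [h3]
  exact (ptL u₀).neg_mem hl

omit [Fintype F] in
theorem ptL_le_hypL_self (hJ1 : SympG J1) (u₀ : Fin a → F) :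
    ptL (b := b) u₀ ≤ hypL (b := b) (J1 *ᵥ u₀) :=
  Cfsg.Agent.Lib.Helper13.S5666API.ptL_le_hypL u₀ u₀ (hJ1.alt u₀)

omit [Fintype F] in
/-- E-C (b') -/
theorem inRadL_mul (u₀ : Fin a → F) (g g' : GL (Fin a × Fin b) F) (hg : InRadL J1 u₀ g) (hg' : InRadL J1 u₀ g') :
    InRadL J1 u₀ (g * g') := by
  refine ⟨?_, ?_⟩
  · intro v hv
    rw [act_mul, hg'.fixL v hv, hg.fixL v hv]
  · intro v hv
    obtain ⟨l', hl', h'⟩ := inRadL_exists u₀ g' hg' v hv
    obtain ⟨l, hl, h⟩ := inRadL_exists u₀ g hg v hv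
    rw [act_mul, h', map_add, h, hg.fixL l' hl']
    have : v + l + l' - v = l + l' := by abel
    rw [this]
    exact (ptL u₀).add_mem hl hl'

/-- E-C (c) -/
theorem conj_inRadL (hS : SetupSO J1 J2) (m : GL (Fin a × Fin b) F) (hm : m ∈ IsoG (J1 ⊗ₖ J2))
    (u₀ : Fin a → F) (hstab : img m (ptL (b := b) u₀) = ptL u₀) (r : GL (Fin a × Fin b) F) (hr : InRadL J1 u₀ r) :
    InRadL J1 u₀ (m * r * m⁻¹) := by
  have hstab2 := img_hypL_of_img_ptL hS m hm u₀ hstab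
  have hpt : ∀ v ∈ ptL (b := b) u₀, act m⁻¹ v ∈ ptL (b := b) u₀ := by
    intro v hv
    rw [← hstab] at hv
    exact (mem_img_iff m _ v).1 hv
  have hpt' : ∀ l ∈ ptL (b := b) u₀, act m l ∈ ptL (b := b) u₀ := by
    intro l hl
    have : act m l ∈ img m (ptL (b := b) u₀) := by
      rw [mem_img_iff, act_inv_act]; exact hl
    rwa [hstab] at this
  have hhyp : ∀ v ∈ hypL (b := b) (J1 *ᵥ u₀), act m⁻¹ v ∈ hypL (b := b) (J1 *ᵥ u₀) := by
    intro v hv
    rw [← hstab2] at hv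
    exact (mem_img_iff m _ v).1 hv
  refine ⟨?_, ?_⟩
  · intro v hv
    rw [act_mul, act_mul, hr.fixL _ (hpt v hv), act_act_inv]
  · intro v hv
    obtain ⟨l, hl, hrl⟩ := inRadL_exists u₀ r hr _ (hhyp v hv)
    rw [act_mul, act_mul, hrl, map_add, act_act_inv]
    have : v + act m l - v = act m l := by abel
    rw [this]
    exact hpt' l hl

omit [Fintype F] in
/-- E-C (d): two elements of the radical commute modulo elements fixing `u₀^⊥ ⊗ W` pointwise -/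
theorem comm_fixL (u₀ : Fin a → F) (g r : GL (Fin a × Fin b) F) (hg : InRadL J1 u₀ g) (hr : InRadL J1 u₀ r) :
    ∀ v ∈ hypL (b := b) (J1 *ᵥ u₀), act (g * r * g⁻¹ * r⁻¹) v = v := by
  intro v hv
  have hgi := inRadL_inv u₀ g hg
  have hri := inRadL_inv u₀ r hr
  obtain ⟨l₁, hl₁, h1⟩ := inRadL_exists u₀ r⁻¹ hri v hv
  obtain ⟨l₂, hl₂, h2⟩ := inRadL_exists u₀ g⁻¹ hgi v hv
  have h3 : act r v = v - l₁ := by
    have := congrArg (act r) h1
    rw [act_act_inv, map_add, hr.fixL l₁ hl₁] at this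
    generalize act r v = w at this ⊢
    rw [this]; abel
  have h4 : act g v = v - l₂ := by
    have := congrArg (act g) h2
    rw [act_act_inv, map_add, hg.fixL l₂ hl₂] at this
    generalize act g v = w at this ⊢
    rw [this]; abel
  rw [act_mul, act_mul, act_mul, h1, map_add, h2, hgi.fixL l₁ hl₁]
  simp only [map_add]
  rw [h3, hr.fixL l₂ hl₂, hr.fixL l₁ hl₁]
  simp only [map_sub]
  rw [h4, hg.fixL l₂ hl₂, hg.fixL l₁ hl₁]
  abel

/-- E-C (e): `(g - 1) V ≤ u₀^⊥ ⊗ W` for an isometry in the radical -/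
theorem sub_mem_hypL (hS : SetupSO J1 J2) (u₀ : Fin a → F) (g : GL (Fin a × Fin b) F) (hgI : g ∈ IsoG (J1 ⊗ₖ J2))
    (hg : InRadL J1 u₀ g) (v : V) : act g v - v ∈ hypL (b := b) (J1 *ᵥ u₀) := by
  rw [mem_hypL_iff_perp hS]
  intro x hx
  have h1 : bf (J1 ⊗ₖ J2) (act g v) (act g x) = bf (J1 ⊗ₖ J2) v x := by
    rw [act_apply, act_apply]
    exact hgI v x
  rw [hg.fixL x hx] at h1
  rw [bf_sub_left, h1, sub_self]

/-- E-C (f): `f((g-1) v, h) = - f(v, (g-1) h)` for `h ∈ u₀^⊥ ⊗ W` -/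
theorem perp_rel (hS : SetupSO J1 J2) (u₀ : Fin a → F) (g : GL (Fin a × Fin b) F) (hgI : g ∈ IsoG (J1 ⊗ₖ J2))
    (hg : InRadL J1 u₀ g) (v h : V) (hh : h ∈ hypL (b := b) (J1 *ᵥ u₀)) :
    bf (J1 ⊗ₖ J2) (act g v - v) h = - bf (J1 ⊗ₖ J2) v (act g h - h) := by
  have h1 : bf (J1 ⊗ₖ J2) (act g v) (act g h) = bf (J1 ⊗ₖ J2) v h := by
    rw [act_apply, act_apply]
    exact hgI v h
  have h2 : bf (J1 ⊗ₖ J2) (act g v - v) (act g h - h) = 0 :=
    (mem_hypL_iff_perp hS u₀ _).1 (sub_mem_hypL hS u₀ g hgI hg v) _ (hg.modL h hh)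
  rw [bf_sub_left, bf_sub_right, bf_sub_right] at h2
  rw [bf_sub_left, bf_sub_right]
  linear_combination h1 - h2

end Cfsg.Agent.Lib.Helper26.S5666EC
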