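import Cfsg.Agent.Lib.Helper14.StCC.Defs

set_option autoImplicit false

/-! Steinberg's Theorem 10, Part A: generic facts on commutators of lifts along a central
extension `ψ : E →* Γ` (`ψ.ker ≤ center E`), and the data for the "commutator trick". -/

namespace Cfsg.Agent.Lib.Helper26.StCC

open Cfsg.Lie
open scoped commutatorElement

section Gen

variable {Γ : Type*} [Group Γ] {E : Type*} [Group E]

theorem comm_mul_central_left {z : E} (hz : z ∈ Subgroup.center E) (a b : E) :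
    ⁅a * z, b⁆ = ⁅a, b⁆ := by
  rw [Subgroup.mem_center_iff] at hz
  have h1 : z * b = b * z := (hz b).symm
  simp only [commutatorElement_def, mul_inv_rev]
  calc a * z * b * (z⁻¹ * a⁻¹) * b⁻¹ = a * (z * b) * z⁻¹ * a⁻¹ * b⁻¹ := by group
    _ = a * (b * z) * z⁻¹ * a⁻¹ * b⁻¹ := by rw [h1]
    _ = a * b * a⁻¹ * b⁻¹ := by group

theorem comm_mul_central_right {z : E} (hz : z ∈ Subgroup.center E) (a b : E) :
    ⁅a, b * z⁆ = ⁅a, b⁆ := by
  rw [Subgroup.mem_center_iff] at hz
  have h1 : z * a⁻¹ = a⁻¹ * z := (hz a⁻¹).symm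
  simp only [commutatorElement_def, mul_inv_rev]
  calc a * (b * z) * a⁻¹ * (z⁻¹ * b⁻¹) = a * b * (z * a⁻¹) * z⁻¹ * b⁻¹ := by group
    _ = a * b * (a⁻¹ * z) * z⁻¹ * b⁻¹ := by rw [h1]
    _ = a * b * a⁻¹ * b⁻¹ := by group

/-- (G1) the commutator of two lifts depends only on the images -/
theorem comm_eq_of_map_eq (ψ : E →* Γ) (hc : ψ.ker ≤ Subgroup.center E) {a a' b b' : E}
    (ha : ψ a = ψ a') (hb : ψ b = ψ b') : ⁅a, b⁆ = ⁅a', b'⁆ := by
  have hz : a'⁻¹ * a ∈ Subgroup.center E := hc (by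
    rw [MonoidHom.mem_ker, map_mul, map_inv, ha, inv_mul_cancel])
  have hw : b'⁻¹ * b ∈ Subgroup.center E := hc (by
    rw [MonoidHom.mem_ker, map_mul, map_inv, hb, inv_mul_cancel])
  have e1 : a = a' * (a'⁻¹ * a) := by group
  have e2 : b = b' * (b'⁻¹ * b) := by group
  rw [e1, e2, comm_mul_central_left hz, comm_mul_central_right hw]

/-- (G6) lifts of commuting elements have a central commutator -/
theorem comm_mem_center (ψ : E →* Γ) (hc : ψ.ker ≤ Subgroup.center E) {a b : E}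
    (h : ψ a * ψ b = ψ b * ψ a) : ⁅a, b⁆ ∈ Subgroup.center E := by
  apply hc
  rw [MonoidHom.mem_ker, map_commutatorElement, commutatorElement_eq_one_iff_mul_comm]
  exact h

theorem conj_comm (g a b : E) : g * ⁅a, b⁆ * g⁻¹ = ⁅g * a * g⁻¹, g * b * g⁻¹⁆ := by
  simp only [commutatorElement_def]
  group

/-- (G3) additivity in the second variable -/
theorem comm_mul_right (ψ : E →* Γ) (hc : ψ.ker ≤ Subgroup.center E) {a b b' : E}
    (h : ψ a * ψ b' = ψ b' * ψ a) : ⁅a, b * b'⁆ = ⁅a, b⁆ * ⁅a, b'⁆ := by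
  have hz := comm_mem_center ψ hc h
  rw [Subgroup.mem_center_iff] at hz
  have h1 : ⁅a, b * b'⁆ = ⁅a, b⁆ * (b * ⁅a, b'⁆) * b⁻¹ := by
    simp only [commutatorElement_def]
    group
  rw [h1, hz b]
  group

/-- (G3') additivity in the first variable -/
theorem comm_mul_left (ψ : E →* Γ) (hc : ψ.ker ≤ Subgroup.center E) {a a' b : E}
    (h : ψ a' * ψ b = ψ b * ψ a') : ⁅a * a', b⁆ = ⁅a, b⁆ * ⁅a', b⁆ := by
  have hz := comm_mem_center ψ hc h
  rw [Subgroup.mem_center_iff] at hz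
  have h1 : ⁅a * a', b⁆ = (a * ⁅a', b⁆) * a⁻¹ * ⁅a, b⁆ := by
    simp only [commutatorElement_def]
    group
  rw [h1, hz a, hz ⁅a, b⁆]
  group

/-- (G4) a lift of `x` commutes with the commutator of lifts of two elements commuting with `x` -/
theorem commute_comm_of_commute (ψ : E →* Γ) (hc : ψ.ker ≤ Subgroup.center E) {a p q : E}
    (h1 : ψ a * ψ p = ψ p * ψ a) (h2 : ψ a * ψ q = ψ q * ψ a) : a * ⁅p, q⁆ = ⁅p, q⁆ * a := by
  have e : a * ⁅p, q⁆ * a⁻¹ = ⁅p, q⁆ := by
    rw [conj_comm]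
    apply comm_eq_of_map_eq ψ hc
    · rw [map_mul, map_mul, h1, map_inv, mul_inv_cancel_right]
    · rw [map_mul, map_mul, h2, map_inv, mul_inv_cancel_right]
  calc a * ⁅p, q⁆ = (a * ⁅p, q⁆ * a⁻¹) * a := by group
    _ = ⁅p, q⁆ * a := by rw [e]

/-- (G2) for a central extension of a perfect group, the preimage of the centre is the centre -/
theorem mem_center_of_map_mem_center (ψ : E →* Γ) (hψ : Function.Surjective ψ)
    (hc : ψ.ker ≤ Subgroup.center E) (hperf : commutator Γ = ⊤) {z : E}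
    (hz : ψ z ∈ Subgroup.center Γ) : z ∈ Subgroup.center E := by
  rw [Subgroup.mem_center_iff] at hz
  -- `z` commutes with all commutators
  have h1 : commutator E ≤ Subgroup.centralizer {z} := by
    rw [commutator_def, Subgroup.commutator_le]
    intro p _ q _
    rw [Subgroup.mem_centralizer_iff]
    intro y hy
    rw [Set.mem_singleton_iff] at hy
    subst hy
    exact commute_comm_of_commute ψ hc (hz (ψ p)).symm (hz (ψ q)).symm
  have h2 : ∀ b : E, z * b = b * z := by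
    intro b
    have hb : ψ b ∈ Subgroup.map ψ (commutator E) := by
      rw [commutator_def, Subgroup.map_commutator, ← MonoidHom.range_eq_map,
        MonoidHom.range_eq_top.mpr hψ, ← commutator_def, hperf]
      exact Subgroup.mem_top _
    obtain ⟨c, hcE, hcb⟩ := hb
    have hk : c⁻¹ * b ∈ Subgroup.center E := hc (by
      rw [MonoidHom.mem_ker, map_mul, map_inv, hcb, inv_mul_cancel])
    rw [Subgroup.mem_center_iff] at hk
    have hzc : z * c = c * z := by
      have := h1 hcE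
      rw [Subgroup.mem_centralizer_iff] at this
      exact this z rfl
    calc z * b = z * c * (c⁻¹ * b) := by group
      _ = c * z * (c⁻¹ * b) := by rw [hzc]
      _ = c * ((c⁻¹ * b) * z) := by rw [mul_assoc, hk z]
      _ = b * z := by group
  rw [Subgroup.mem_center_iff]
  intro g
  exact (h2 g).symm

end Gen

/-- data for the "commutator trick" at the root `r`: roots `a, b` with
`[x_a, x_b] = x_q(∗) x_r(∗)` (terms `(1,1)` and `(2,1)`), all of `a, b, q` commuting with `r` -/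
def CommData (D : ChevalleyDatum) (r : ℕ) : Prop :=
  ∃ (a b q : ℕ) (ε ε' : ℤ), a < D.nroots ∧ b < D.nroots ∧ q < D.nroots ∧ b ≠ a ∧ b ≠ D.neg a ∧
    D.commTerms a b = [(q, ε, 1, 1), (r, ε', 2, 1)] ∧ (ε' = 1 ∨ ε' = -1) ∧
    (a ≠ r ∧ a ≠ D.neg r ∧ D.commTerms r a = []) ∧
    (b ≠ r ∧ b ≠ D.neg r ∧ D.commTerms r b = []) ∧
    (q ≠ r ∧ q ≠ D.neg r ∧ D.commTerms r q = [])

end Cfsg.Agent.Lib.Helper26.StCC
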