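import Mathlib
import Cfsg.Prelude.Def_GeometricClasses
import Cfsg.Agent.Lib.Helper6.Discr

/-!
# EVEN ORTHOGONAL ROWS, TYPE CALCULUS, piece TC9 (helper26): classification by the discriminant (`q` odd)

`areIsometricFor_of_disc`: two non-degenerate subspaces of the same dimension whose Gram determinants differ by a square are
isometric.  Exact signature of notes/OETypeSkel_helper7.lean.txt.

Route: orthogonal frames (Mathlib `exists_orthogonal_basis`), normal form `(1, …, 1, δ)` by the binary step `⟨a, b⟩ ≅ ⟨1, ab⟩`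
(`FiniteField.exists_root_sum_quadratic`), Gram determinants of two bases differ by a square (`Helper6.det_toMatrix_change`),
equal-valued orthogonal frames give the isometry.
-/

set_option autoImplicit false
set_option linter.unusedSectionVars false

namespace Cfsg.Agent.Lib.Helper26.OETypeTC9

open Matrix Cfsg Cfsg.Geo QuadraticMap Module

variable {F : Type*} [Field F] {ι : Type} [Fintype ι] [DecidableEq ι] {Q : (ι → F) → F}

/-! ## basic identities -/

theorem Q_add' (u w : ι → F) : Q (u + w) = Q u + Q w + polar Q u w := by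
  unfold QuadraticMap.polar
  ring

theorem Q_zero' (hQ : IsNondegenerateQuadraticForm Q) : Q 0 = 0 := by
  have := hQ.smul 0 0
  rwa [zero_smul, zero_pow two_ne_zero, zero_mul] at this

theorem polar_self' (hQ : IsNondegenerateQuadraticForm Q) (v : ι → F) : polar Q v v = 2 * Q v := by
  unfold QuadraticMap.polar
  have h : v + v = (2 : F) • v := (two_smul F v).symm
  rw [h, hQ.smul]
  ring

/-- the polar form as a Mathlib bilinear form -/
def Bm (hQ : IsNondegenerateQuadraticForm Q) : LinearMap.BilinForm F (ι → F) :=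
  LinearMap.mk₂ F (polar Q) hQ.polar_bilinear.add_left (fun c m n => by rw [hQ.polar_bilinear.smul_left, smul_eq_mul])
    hQ.polar_bilinear.add_right (fun c m n => by rw [hQ.polar_bilinear.smul_right, smul_eq_mul])

theorem Bm_apply (hQ : IsNondegenerateQuadraticForm Q) (u w : ι → F) : Bm hQ u w = polar Q u w := rfl

theorem polar_sum_left (hQ : IsNondegenerateQuadraticForm Q) {κ : Type*} (s : Finset κ) (g : κ → ι → F) (w : ι → F) :
    polar Q (∑ i ∈ s, g i) w = ∑ i ∈ s, polar Q (g i) w := by
  rw [← Bm_apply hQ, map_sum, LinearMap.sum_apply]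
  rfl

theorem polar_sum_right (hQ : IsNondegenerateQuadraticForm Q) {κ : Type*} (s : Finset κ) (g : κ → ι → F) (w : ι → F) :
    polar Q w (∑ i ∈ s, g i) = ∑ i ∈ s, polar Q w (g i) := by
  rw [← Bm_apply hQ, map_sum]
  rfl

/-! ## orthogonal frames -/

/-- an orthogonal family of non-singular vectors of `W` -/
structure Frame (Q : (ι → F) → F) (W : Submodule F (ι → F)) {d : ℕ} (u : Fin d → ι → F) : Prop where
  mem : ∀ i, u i ∈ W
  orth : ∀ i j, i ≠ j → polar Q (u i) (u j) = 0
  ne : ∀ i, Q (u i) ≠ 0

/-- `Q` of a combination of an orthogonal family -/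
theorem Q_sum_orth (hQ : IsNondegenerateQuadraticForm Q) {d : ℕ} (u : Fin d → ι → F)
    (horth : ∀ i j, i ≠ j → polar Q (u i) (u j) = 0) (c : Fin d → F) (s : Finset (Fin d)) :
    Q (∑ i ∈ s, c i • u i) = ∑ i ∈ s, c i ^ 2 * Q (u i) := by
  classical
  induction s using Finset.induction_on with
  | empty => simp [Q_zero' hQ]
  | insert a s ha ih =>
    rw [Finset.sum_insert ha, Finset.sum_insert ha, Q_add' (Q := Q), ih, hQ.smul, polar_sum_right hQ]
    have h0 : ∑ i ∈ s, polar Q (c a • u a) (c i • u i) = 0 := by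
      apply Finset.sum_eq_zero
      intro i hi
      have hai : a ≠ i := fun h => ha (h ▸ hi)
      rw [hQ.polar_bilinear.smul_left, hQ.polar_bilinear.smul_right, horth a i hai, mul_zero, mul_zero]
    rw [h0, add_zero]

theorem Frame.linearIndependent (hQ : IsNondegenerateQuadraticForm Q) (h2 : (2 : F) ≠ 0) {W : Submodule F (ι → F)} {d : ℕ}
    {u : Fin d → ι → F} (hu : Frame Q W u) : LinearIndependent F u := by
  apply LinearMap.BilinForm.linearIndependent_of_iIsOrtho (B := Bm hQ)
  · rw [LinearMap.BilinForm.iIsOrtho_def]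
    intro i j hij
    exact hu.orth i j hij
  · intro i
    rw [Bm_apply, polar_self' hQ]
    exact mul_ne_zero h2 (hu.ne i)

/-- a frame of the right length is a basis of `W` -/
theorem Frame.exists_basis (hQ : IsNondegenerateQuadraticForm Q) (h2 : (2 : F) ≠ 0) {W : Submodule F (ι → F)} {d : ℕ}
    (hd : finrank F W = d) (hd1 : 1 ≤ d) {u : Fin d → ι → F} (hu : Frame Q W u) :
    ∃ bu : Basis (Fin d) F W, ∀ i, (bu i : ι → F) = u i := by
  have : Nonempty (Fin d) := ⟨⟨0, by omega⟩⟩
  have hli : LinearIndependent F (fun i => (⟨u i, hu.mem i⟩ : W)) := by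
    have h1 := hu.linearIndependent hQ h2
    apply LinearIndependent.of_comp W.subtype
    exact h1
  have hcard : Fintype.card (Fin d) = finrank F W := by rw [Fintype.card_fin, hd]
  refine ⟨basisOfLinearIndependentOfCardEqFinrank hli hcard, fun i => ?_⟩
  rw [coe_basisOfLinearIndependentOfCardEqFinrank]

/-- a non-degenerate subspace has an orthogonal frame of full length (`2 ≠ 0`) -/
theorem exists_frame (hQ : IsNondegenerateQuadraticForm Q) (h2 : (2 : F) ≠ 0) (W : Submodule F (ι → F))
    (hW : IsNondegenerateOn (polar Q) W) (d : ℕ) (hd : finrank F W = d) :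
    ∃ u : Fin d → ι → F, Frame Q W u := by
  subst hd
  have : Invertible (2 : F) := invertibleOfNonzero h2
  have hsymm : LinearMap.IsSymm ((Bm hQ).restrict W) := ⟨fun x y => by
    show polar Q (x : ι → F) (y : ι → F) = polar Q (y : ι → F) (x : ι → F)
    exact polar_comm _ _ _⟩
  obtain ⟨v, hv⟩ := LinearMap.BilinForm.exists_orthogonal_basis (V := W) (B := (Bm hQ).restrict W) hsymm
  have horth : ∀ i j, i ≠ j → polar Q (v i : ι → F) (v j : ι → F) = 0 := by
    intro i j hij
    have := LinearMap.isOrthoᵢ_def.1 hv i j hij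
    exact this
  refine ⟨fun i => (v i : ι → F), fun i => (v i).2, horth, ?_⟩
  intro i h0
  have hne : (v i : ι → F) ≠ 0 := by
    intro h
    exact v.ne_zero i (Subtype.ext h)
  obtain ⟨⟨x, hxW, hx⟩, _⟩ := hW (v i : ι → F) (v i).2 hne
  apply hx
  have hrepr : x = ∑ j, v.repr ⟨x, hxW⟩ j • (v j : ι → F) := by
    have h1 := congrArg (Subtype.val) (v.sum_repr ⟨x, hxW⟩)
    rw [Submodule.coe_sum] at h1
    simp only [Submodule.coe_smul] at h1
    exact h1.symm
  rw [hrepr, polar_sum_left hQ]
  apply Finset.sum_eq_zero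
  intro j _
  rw [hQ.polar_bilinear.smul_left]
  by_cases hji : j = i
  · rw [hji, polar_self' hQ, h0, mul_zero, mul_zero]
  · rw [horth j i hji, mul_zero]

theorem exists_sq_sum [Fintype F] (hq : Fintype.card F % 2 = 1) (a b : F) (ha : a ≠ 0) (hb : b ≠ 0) :
    ∃ x y : F, a * x ^ 2 + b * y ^ 2 = 1 := by
  open Polynomial in
  have hf : degree (C a * X ^ 2 : F[X]) = 2 := degree_C_mul_X_pow 2 ha
  open Polynomial in
  have hg : degree (C b * X ^ 2 - C 1 : F[X]) = 2 := by
    rw [degree_sub_eq_left_of_degree_lt]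
    · exact degree_C_mul_X_pow 2 hb
    · rw [degree_C_mul_X_pow 2 hb]
      exact lt_of_le_of_lt degree_C_le (by norm_num)
  obtain ⟨x, y, hxy⟩ := FiniteField.exists_root_sum_quadratic hf hg hq
  refine ⟨x, y, ?_⟩
  simp only [Polynomial.eval_mul, Polynomial.eval_C, Polynomial.eval_pow, Polynomial.eval_X, Polynomial.eval_sub] at hxy
  linear_combination hxy

theorem polar_comb_left (hQ : IsNondegenerateQuadraticForm Q) (x y : F) (p r w : ι → F) :
    polar Q (x • p + y • r) w = x * polar Q p w + y * polar Q r w := by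
  rw [hQ.polar_bilinear.add_left, hQ.polar_bilinear.smul_left, hQ.polar_bilinear.smul_left]

theorem polar_comb_right (hQ : IsNondegenerateQuadraticForm Q) (x y : F) (p r w : ι → F) :
    polar Q w (x • p + y • r) = x * polar Q w p + y * polar Q w r := by
  rw [hQ.polar_bilinear.add_right, hQ.polar_bilinear.smul_right, hQ.polar_bilinear.smul_right]

theorem Q_comb (hQ : IsNondegenerateQuadraticForm Q) (x y : F) (p r : ι → F) :
    Q (x • p + y • r) = x ^ 2 * Q p + y ^ 2 * Q r + x * y * polar Q p r := by
  rw [Q_add' (Q := Q), hQ.smul, hQ.smul, hQ.polar_bilinear.smul_left, hQ.polar_bilinear.smul_right]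
  ring

/-- the binary step `⟨a, b⟩ ≅ ⟨1, ab⟩` inside a frame -/
theorem Frame.plane [Fintype F] (hq : Fintype.card F % 2 = 1) (hQ : IsNondegenerateQuadraticForm Q)
    {W : Submodule F (ι → F)} {d : ℕ} {u : Fin d → ι → F} (hu : Frame Q W u) (i j : Fin d) (hij : i ≠ j) :
    ∃ u' : Fin d → ι → F, Frame Q W u' ∧ Q (u' i) = 1 ∧ ∀ l, l ≠ i → l ≠ j → u' l = u l := by
  obtain ⟨x, y, hxy⟩ := exists_sq_sum hq (Q (u i)) (Q (u j)) (hu.ne i) (hu.ne j)
  set a := Q (u i) with ha
  set b := Q (u j) with hb
  set A : ι → F := x • u i + y • u j with hA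
  set B : ι → F := (-(b * y)) • u i + (a * x) • u j with hB
  have hoij : polar Q (u i) (u j) = 0 := hu.orth i j hij
  have hoji : polar Q (u j) (u i) = 0 := hu.orth j i hij.symm
  have hQA : Q A = 1 := by
    rw [hA, Q_comb hQ, hoij]
    linear_combination hxy
  have hQB : Q B = a * b := by
    rw [hB, Q_comb hQ, hoij]
    linear_combination (a * b) * hxy
  have hAB : polar Q A B = 0 := by
    rw [hA, hB, polar_comb_left hQ, polar_comb_right hQ, polar_comb_right hQ, hoij, hoji, polar_self' hQ, polar_self' hQ]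
    ring
  have hAl : ∀ l, l ≠ i → l ≠ j → polar Q A (u l) = 0 := by
    intro l hli hlj
    rw [hA, polar_comb_left hQ, hu.orth i l (Ne.symm hli), hu.orth j l (Ne.symm hlj)]
    ring
  have hBl : ∀ l, l ≠ i → l ≠ j → polar Q B (u l) = 0 := by
    intro l hli hlj
    rw [hB, polar_comb_left hQ, hu.orth i l (Ne.symm hli), hu.orth j l (Ne.symm hlj)]
    ring
  have hAW : A ∈ W := W.add_mem (W.smul_mem _ (hu.mem i)) (W.smul_mem _ (hu.mem j))
  have hBW : B ∈ W := W.add_mem (W.smul_mem _ (hu.mem i)) (W.smul_mem _ (hu.mem j))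
  refine ⟨fun l => if l = i then A else if l = j then B else u l, ⟨?_, ?_, ?_⟩, ?_, ?_⟩
  · intro l
    by_cases hli : l = i
    · simp only [hli, if_true]; exact hAW
    · by_cases hlj : l = j
      · simp only [hlj, if_neg hij.symm, if_true]; exact hBW
      · simp only [if_neg hli, if_neg hlj]; exact hu.mem l
  · intro p r hpr
    by_cases hpi : p = i
    · by_cases hrj : r = j
      · simp only [hpi, hrj, if_true, if_neg hij.symm]; exact hAB
      · have hri : r ≠ i := fun h => hpr (by rw [hpi, h])
        simp only [hpi, if_true, if_neg hri, if_neg hrj]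
        exact hAl r hri hrj
    · by_cases hpj : p = j
      · by_cases hri : r = i
        · simp only [hpj, hri, if_true, if_neg hij.symm]
          rw [polar_comm]; exact hAB
        · have hrj : r ≠ j := fun h => hpr (by rw [hpj, h])
          simp only [hpj, if_true, if_neg hij.symm, if_neg hri, if_neg hrj]
          exact hBl r hri hrj
      · by_cases hri : r = i
        · simp only [if_neg hpi, if_neg hpj, hri, if_true]
          rw [polar_comm]; exact hAl p hpi hpj
        · by_cases hrj : r = j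
          · simp only [if_neg hpi, if_neg hpj, hrj, if_neg hij.symm, if_true]
            rw [polar_comm]; exact hBl p hpi hpj
          · simp only [if_neg hpi, if_neg hpj, if_neg hri, if_neg hrj]
            exact hu.orth p r hpr
  · intro l
    by_cases hli : l = i
    · simp only [hli, if_true]; rw [hQA]; exact one_ne_zero
    · by_cases hlj : l = j
      · simp only [hlj, if_neg hij.symm, if_true]; rw [hQB]; exact mul_ne_zero (hu.ne i) (hu.ne j)
      · simp only [if_neg hli, if_neg hlj]; exact hu.ne l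
  · simp only [if_true]; exact hQA
  · intro l hli hlj
    simp only [if_neg hli, if_neg hlj]

/-- normal form: all values but the last are `1` -/
theorem Frame.exists_nf [Fintype F] (hq : Fintype.card F % 2 = 1) (hQ : IsNondegenerateQuadraticForm Q)
    {W : Submodule F (ι → F)} {d : ℕ} {u : Fin d → ι → F} (hu : Frame Q W u) :
    ∃ u' : Fin d → ι → F, Frame Q W u' ∧ ∀ i : Fin d, i.val + 1 < d → Q (u' i) = 1 := by
  have key : ∀ k : ℕ, k + 1 ≤ d → ∃ u' : Fin d → ι → F, Frame Q W u' ∧ ∀ i : Fin d, i.val < k → Q (u' i) = 1 := by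
    intro k
    induction k with
    | zero => intro _; exact ⟨u, hu, fun i hi => absurd hi (Nat.not_lt_zero _)⟩
    | succ k ih =>
      intro hk
      obtain ⟨u', hu', h1⟩ := ih (by omega)
      have hij : (⟨k, by omega⟩ : Fin d) ≠ ⟨d - 1, by omega⟩ := by
        intro h
        have := congrArg Fin.val h
        simp at this
        omega
      obtain ⟨u'', hu'', hi1, hrest⟩ := hu'.plane hq hQ ⟨k, by omega⟩ ⟨d - 1, by omega⟩ hij
      refine ⟨u'', hu'', fun l hl => ?_⟩
      by_cases hlk : l = ⟨k, by omega⟩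
      · rw [hlk]; exact hi1
      · have hlk' : l.val < k := by
          have : l.val ≠ k := fun h => hlk (Fin.ext h)
          omega
        have hlj : l ≠ ⟨d - 1, by omega⟩ := by
          intro h
          have := congrArg Fin.val h
          simp at this
          omega
        rw [hrest l hlk hlj]
        exact h1 l hlk'
  by_cases hd : d = 0
  · subst hd
    exact ⟨u, hu, fun i => i.elim0⟩
  · obtain ⟨u', hu', h1⟩ := key (d - 1) (by omega)
    exact ⟨u', hu', fun i hi => h1 i (by omega)⟩

/-- equal-valued orthogonal frames give an isometry -/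
theorem isometric_of_frames (hQ : IsNondegenerateQuadraticForm Q) (h2 : (2 : F) ≠ 0) {W W' : Submodule F (ι → F)} {d : ℕ}
    (hd : finrank F W = d) (hd' : finrank F W' = d) (hd1 : 1 ≤ d) {u u' : Fin d → ι → F} (hu : Frame Q W u)
    (hu' : Frame Q W' u') (hval : ∀ i, Q (u i) = Q (u' i)) : AreIsometricFor Q W W' := by
  obtain ⟨bu, hbu⟩ := hu.exists_basis hQ h2 hd hd1
  obtain ⟨bu', hbu'⟩ := hu'.exists_basis hQ h2 hd' hd1
  refine ⟨bu.equiv bu' (Equiv.refl _), fun w => ?_⟩
  have h1 : (w : ι → F) = ∑ i, bu.repr w i • u i := by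
    have h := congrArg (Subtype.val) (bu.sum_repr w)
    rw [Submodule.coe_sum] at h
    simp only [Submodule.coe_smul, hbu] at h
    exact h.symm
  have h2' : ((bu.equiv bu' (Equiv.refl _) w : W') : ι → F) = ∑ i, bu.repr w i • u' i := by
    have h := congrArg (fun z => bu.equiv bu' (Equiv.refl _) z) (bu.sum_repr w)
    simp only [map_sum, map_smul, Basis.equiv_apply, Equiv.refl_apply] at h
    have h' := congrArg (Subtype.val) h
    rw [Submodule.coe_sum] at h'
    simp only [Submodule.coe_smul, hbu'] at h'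
    exact h'.symm
  rw [h1, h2', Q_sum_orth hQ u hu.orth, Q_sum_orth hQ u' hu'.orth]
  exact Finset.sum_congr rfl fun i _ => by rw [hval i]

/-- rescaling one member of a frame -/
theorem Frame.rescale (hQ : IsNondegenerateQuadraticForm Q) {W : Submodule F (ι → F)} {d : ℕ} {u : Fin d → ι → F}
    (hu : Frame Q W u) (l : Fin d) (c : F) (hc : c ≠ 0) : Frame Q W (Function.update u l (c • u l)) := by
  refine ⟨fun i => ?_, fun i j hij => ?_, fun i => ?_⟩
  · by_cases hi : i = l
    · subst hi; rw [Function.update_self]; exact W.smul_mem _ (hu.mem i)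
    · rw [Function.update_of_ne hi]; exact hu.mem i
  · by_cases hi : i = l
    · subst hi
      rw [Function.update_self, Function.update_of_ne (Ne.symm hij), hQ.polar_bilinear.smul_left, hu.orth i j hij,
        mul_zero]
    · by_cases hj : j = l
      · subst hj
        rw [Function.update_self, Function.update_of_ne hi, hQ.polar_bilinear.smul_right, hu.orth i j hij, mul_zero]
      · rw [Function.update_of_ne hi, Function.update_of_ne hj]; exact hu.orth i j hij
  · by_cases hi : i = l
    · subst hi; rw [Function.update_self, hQ.smul]; exact mul_ne_zero (pow_ne_zero 2 hc) (hu.ne i)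
    · rw [Function.update_of_ne hi]; exact hu.ne i

/-! ## Gram determinants -/

theorem toMatrix_restrict (hQ : IsNondegenerateQuadraticForm Q) (W : Submodule F (ι → F)) {d : ℕ} (b : Basis (Fin d) F W) :
    LinearMap.BilinForm.toMatrix b ((Bm hQ).restrict W) =
      Matrix.of fun i j => polar Q (b i : ι → F) (b j : ι → F) := by
  ext i j
  rw [LinearMap.BilinForm.toMatrix_apply]
  rfl

theorem det_gram_change (hQ : IsNondegenerateQuadraticForm Q) (W : Submodule F (ι → F)) {d : ℕ}
    (b b' : Basis (Fin d) F W) :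
    ∃ c : F, c ≠ 0 ∧ (Matrix.of fun i j => polar Q (b' i : ι → F) (b' j : ι → F)).det =
      c ^ 2 * (Matrix.of fun i j => polar Q (b i : ι → F) (b j : ι → F)).det := by
  have := Cfsg.Agent.Lib.Helper6.det_toMatrix_change ((Bm hQ).restrict W) b b'
  rwa [toMatrix_restrict, toMatrix_restrict] at this

theorem det_gram_frame (hQ : IsNondegenerateQuadraticForm Q) {W : Submodule F (ι → F)} {d : ℕ} {u : Fin d → ι → F}
    (hu : Frame Q W u) (bu : Basis (Fin d) F W) (hbu : ∀ i, (bu i : ι → F) = u i) :
    (Matrix.of fun i j => polar Q (bu i : ι → F) (bu j : ι → F)).det = ∏ i, (2 * Q (u i)) := by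
  have : (Matrix.of fun i j => polar Q (bu i : ι → F) (bu j : ι → F)) = Matrix.diagonal (fun i => 2 * Q (u i)) := by
    ext i j
    rw [Matrix.of_apply, hbu, hbu]
    by_cases hij : i = j
    · subst hij; rw [Matrix.diagonal_apply_eq, polar_self' hQ]
    · rw [Matrix.diagonal_apply_ne _ hij, hu.orth i j hij]
  rw [this, Matrix.det_diagonal]

theorem prod_nf {d : ℕ} (hd1 : 1 ≤ d) (u : Fin d → ι → F) (h1 : ∀ i : Fin d, i.val + 1 < d → Q (u i) = 1) :
    ∏ i, (2 * Q (u i)) = 2 ^ d * Q (u ⟨d - 1, by omega⟩) := by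
  rw [Finset.prod_mul_distrib, Finset.prod_const, Finset.card_univ, Fintype.card_fin]
  congr 1
  apply Finset.prod_eq_single
  · intro i _ hi
    apply h1
    have : i.val ≠ d - 1 := fun h => hi (Fin.ext h)
    omega
  · intro h; exact absurd (Finset.mem_univ _) h

/-! ## TC9 -/

/-- **TC9**: two non-degenerate subspaces of the same dimension whose Gram determinants differ by a square are isometric
(`q` odd). -/
theorem areIsometricFor_of_disc [Fintype F] (hQ : IsNondegenerateQuadraticForm Q) (hq : Odd (Fintype.card F))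
    (W W' : Submodule F (ι → F)) (hW : IsNondegenerateOn (polar Q) W) (hW' : IsNondegenerateOn (polar Q) W') (d : ℕ)
    (b : Basis (Fin d) F W) (b' : Basis (Fin d) F W')
    (hsq : IsSquare ((Matrix.of fun i j => polar Q (b i : ι → F) (b j : ι → F)).det *
      (Matrix.of fun i j => polar Q (b' i : ι → F) (b' j : ι → F)).det)) : AreIsometricFor Q W W' := by
  have hq1 : Fintype.card F % 2 = 1 := Nat.odd_iff.mp hq
  have h2 : (2 : F) ≠ 0 := by
    intro h
    have : CharP F 2 := CharTwo.of_one_ne_zero_of_two_eq_zero one_ne_zero h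
    have hch : ringChar F = 2 := ringChar.eq F 2
    have := FiniteField.even_card_of_char_two hch
    omega
  have hd : finrank F W = d := by rw [Module.finrank_eq_card_basis b, Fintype.card_fin]
  have hd' : finrank F W' = d := by rw [Module.finrank_eq_card_basis b', Fintype.card_fin]
  by_cases hd0 : d = 0
  · subst hd0
    refine ⟨b.equiv b' (Equiv.refl _), fun w => ?_⟩
    have hw : w = 0 := by
      have := b.sum_repr w
      rw [Finset.univ_eq_empty, Finset.sum_empty] at this
      exact this.symm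
    rw [hw, map_zero]
    rfl
  · have hd1 : 1 ≤ d := by omega
    obtain ⟨u0, hu0⟩ := exists_frame hQ h2 W hW d hd
    obtain ⟨u0', hu0'⟩ := exists_frame hQ h2 W' hW' d hd'
    obtain ⟨u, hu, hu1⟩ := hu0.exists_nf hq1 hQ
    obtain ⟨u', hu', hu1'⟩ := hu0'.exists_nf hq1 hQ
    obtain ⟨bu, hbu⟩ := hu.exists_basis hQ h2 hd hd1
    obtain ⟨bu', hbu'⟩ := hu'.exists_basis hQ h2 hd' hd1
    obtain ⟨c1, hc1, hD1⟩ := det_gram_change hQ W b bu
    obtain ⟨c2, hc2, hD2⟩ := det_gram_change hQ W' b' bu'
    rw [det_gram_frame hQ hu bu hbu, prod_nf hd1 u hu1] at hD1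
    rw [det_gram_frame hQ hu' bu' hbu', prod_nf hd1 u' hu1'] at hD2
    obtain ⟨s, hs⟩ := hsq
    generalize (Matrix.of fun i j => polar Q (b i : ι → F) (b j : ι → F)).det = D at hD1 hs
    generalize (Matrix.of fun i j => polar Q (b' i : ι → F) (b' j : ι → F)).det = D' at hD2 hs
    have hδ0 : Q (u ⟨d - 1, by omega⟩) ≠ 0 := hu.ne _
    have hδ0' : Q (u' ⟨d - 1, by omega⟩) ≠ 0 := hu'.ne _
    generalize hl : (⟨d - 1, by omega⟩ : Fin d) = l at hD1 hD2 hδ0 hδ0'
    have h2d : (2 : F) ^ d ≠ 0 := pow_ne_zero d h2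
    have hprod : Q (u l) * Q (u' l) = (c1 * c2 * s / 2 ^ d) ^ 2 := by
      have h : ((2 : F) ^ d) ^ 2 * (Q (u l) * Q (u' l)) = (c1 * c2 * s) ^ 2 := by
        linear_combination (2 ^ d * Q (u' l)) * hD1 + (c1 ^ 2 * D) * hD2 + (c1 ^ 2 * c2 ^ 2) * hs
      rw [div_pow, ← h]
      field_simp
    have ht0 : c1 * c2 * s / 2 ^ d ≠ 0 := by
      intro h
      rw [h] at hprod
      have : Q (u l) * Q (u' l) ≠ 0 := mul_ne_zero hδ0 hδ0'
      apply this
      rw [hprod]; ring
    have hc0 : c1 * c2 * s / 2 ^ d / Q (u l) ≠ 0 := div_ne_zero ht0 hδ0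
    have hcδ : (c1 * c2 * s / 2 ^ d / Q (u l)) ^ 2 * Q (u l) = Q (u' l) := by
      rw [div_pow (c1 * c2 * s / 2 ^ d), ← hprod]
      field_simp
    have hu'' := hu.rescale hQ l _ hc0
    apply isometric_of_frames hQ h2 hd hd' hd1 hu'' hu'
    intro i
    by_cases hi : i = l
    · rw [hi, Function.update_self, hQ.smul]; exact hcδ
    · rw [Function.update_of_ne hi]
      have hiv : i.val + 1 < d := by
        have : i.val ≠ d - 1 := fun h => hi (by rw [← hl]; exact Fin.ext h)
        omega
      rw [hu1 i hiv, hu1' i hiv]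

end Cfsg.Agent.Lib.Helper26.OETypeTC9
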