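import Mathlib
import Cfsg.Prelude.Def_GeometricClasses
import Cfsg.Agent.Lib.Helper7.AschDefs
import Cfsg.Agent.Lib.Helper7.AschWrap

/-!
# S5630 block I4 (sub-architect helper11), piece TENS3c (helper26): `inClass_of_le_tensor22`

`GL_2 ⊗ GL_2` preserves the quadratic form `Q₀(w) = w₀₀ w₁₁ - w₀₁ w₁₀` up to scalars (`det a · det b`).
-/

set_option autoImplicit false
set_option linter.unusedSectionVars false
set_option linter.unusedVariables false

namespace Cfsg.Agent.Lib.Helper26.S5630I4TENS3c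

open Matrix Cfsg.Geo Cfsg.Agent.Lib.Helper7.Asch
open scoped Kronecker

variable {F : Type*} [Field F] {n : ℕ}

/-- the determinant form on `F^2 ⊗ F^2` -/
def Q0 (w : Fin 2 × Fin 2 → F) : F := w (0, 0) * w (1, 1) - w (0, 1) * w (1, 0)

/-- its polar form -/
def B0 (w w' : Fin 2 × Fin 2 → F) : F :=
  w (0, 0) * w' (1, 1) + w (1, 1) * w' (0, 0) - w (0, 1) * w' (1, 0) - w (1, 0) * w' (0, 1)

theorem Q0_add (w w' : Fin 2 × Fin 2 → F) : Q0 (w + w') = Q0 w + Q0 w' + B0 w w' := by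
  simp only [Q0, B0, Pi.add_apply]
  ring

theorem Q0_smul (c : F) (w : Fin 2 × Fin 2 → F) : Q0 (c • w) = c ^ 2 * Q0 w := by
  simp only [Q0, Pi.smul_apply, smul_eq_mul]
  ring

theorem B0_comm (w w' : Fin 2 × Fin 2 → F) : B0 w w' = B0 w' w := by
  simp only [B0]; ring

theorem B0_self (w : Fin 2 × Fin 2 → F) : B0 w w = 2 * Q0 w := by
  simp only [B0, Q0]; ring

theorem B0_add_left (w w' x : Fin 2 × Fin 2 → F) : B0 (w + w') x = B0 w x + B0 w' x := by
  simp only [B0, Pi.add_apply]; ring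

theorem B0_smul_left (c : F) (w x : Fin 2 × Fin 2 → F) : B0 (c • w) x = c * B0 w x := by
  simp only [B0, Pi.smul_apply, smul_eq_mul]; ring

theorem B0_nondeg (w : Fin 2 × Fin 2 → F) (hw : w ≠ 0) : ∃ x, B0 w x ≠ 0 := by
  by_contra hcon
  push Not at hcon
  apply hw
  funext p
  obtain ⟨i, j⟩ := p
  have h1 := hcon (Pi.single (1, 1) 1)
  have h2 := hcon (Pi.single (0, 0) 1)
  have h3 := hcon (Pi.single (1, 0) 1)
  have h4 := hcon (Pi.single (0, 1) 1)
  simp [B0] at h1 h2 h3 h4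
  fin_cases i <;> fin_cases j <;> simp_all

theorem Q0_kron (a b : Matrix (Fin 2) (Fin 2) F) (w : Fin 2 × Fin 2 → F) :
    Q0 ((a ⊗ₖ b) *ᵥ w) = a.det * b.det * Q0 w := by
  simp only [Q0, Matrix.mulVec, dotProduct, Fintype.sum_prod_type, Fin.sum_univ_two,
    Matrix.kroneckerMap_apply, Matrix.det_fin_two]
  ring

/-- the coordinate change `v ↦ (P⁻¹ v) ∘ e⁻¹` -/
def T (e : Fin n ≃ Fin 2 × Fin 2) (P : GL (Fin n) F) (v : Fin n → F) : Fin 2 × Fin 2 → F :=
  fun p => (((P⁻¹ : GL (Fin n) F) : Matrix (Fin n) (Fin n) F) *ᵥ v) (e.symm p)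

def Tinv (e : Fin n ≃ Fin 2 × Fin 2) (P : GL (Fin n) F) (w : Fin 2 × Fin 2 → F) : Fin n → F :=
  (P : Matrix (Fin n) (Fin n) F) *ᵥ (w ∘ e)

theorem T_add (e : Fin n ≃ Fin 2 × Fin 2) (P : GL (Fin n) F) (v v' : Fin n → F) :
    T e P (v + v') = T e P v + T e P v' := by
  funext p
  simp only [T, Matrix.mulVec_add, Pi.add_apply]

theorem T_smul (e : Fin n ≃ Fin 2 × Fin 2) (P : GL (Fin n) F) (c : F) (v : Fin n → F) :
    T e P (c • v) = c • T e P v := by
  funext p
  simp only [T, Matrix.mulVec_smul, Pi.smul_apply]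

theorem T_Tinv (e : Fin n ≃ Fin 2 × Fin 2) (P : GL (Fin n) F) (w : Fin 2 × Fin 2 → F) :
    T e P (Tinv e P w) = w := by
  funext p
  simp only [T, Tinv]
  rw [Matrix.mulVec_mulVec, ← Units.val_mul, inv_mul_cancel, Units.val_one, Matrix.one_mulVec]
  simp

theorem T_ne_zero (e : Fin n ≃ Fin 2 × Fin 2) (P : GL (Fin n) F) (v : Fin n → F) (hv : v ≠ 0) :
    T e P v ≠ 0 := by
  intro h
  apply hv
  have h1 : ((P⁻¹ : GL (Fin n) F) : Matrix (Fin n) (Fin n) F) *ᵥ v = 0 := by
    funext i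
    have := congrFun h (e i)
    simpa [T] using this
  have h2 := congrArg (fun x => (P : Matrix (Fin n) (Fin n) F) *ᵥ x) h1
  simp only [Matrix.mulVec_mulVec, ← Units.val_mul, mul_inv_cancel, Units.val_one, Matrix.one_mulVec,
    Matrix.mulVec_zero] at h2
  exact h2

/-- the action of an element of the tensor product subgroup in the coordinates `T` -/
theorem T_act (e : Fin n ≃ Fin 2 × Fin 2) (P : GL (Fin n) F) (k : GL (Fin 2 × Fin 2) F) (v : Fin n → F) :
    T e P (((MulAut.conj P (glReindex e.symm k) : GL (Fin n) F) : Matrix (Fin n) (Fin n) F) *ᵥ v) =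
      (k : Matrix (Fin 2 × Fin 2) (Fin 2 × Fin 2) F) *ᵥ T e P v := by
  have hval : ((glReindex e.symm k : GL (Fin n) F) : Matrix (Fin n) (Fin n) F) =
      (k : Matrix (Fin 2 × Fin 2) (Fin 2 × Fin 2) F).submatrix e e := by
    unfold Cfsg.Geo.glReindex
    rw [Units.coe_mapEquiv]
    rfl
  funext p
  simp only [T, MulAut.conj_apply, Units.val_mul, Matrix.mulVec_mulVec]
  rw [← Matrix.mul_assoc, ← Matrix.mul_assoc, ← Units.val_mul, inv_mul_cancel, Units.val_one, Matrix.one_mul,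
    hval, ← Matrix.mulVec_mulVec]
  simp only [Matrix.mulVec, dotProduct, Matrix.submatrix_apply, Equiv.apply_symm_apply]
  rw [← Equiv.sum_comp e]
  apply Finset.sum_congr rfl
  intro i _
  simp [T, Matrix.mulVec, dotProduct]

/-- the quadratic form -/
def Qf (e : Fin n ≃ Fin 2 × Fin 2) (P : GL (Fin n) F) (v : Fin n → F) : F := Q0 (T e P v)

theorem polar_Qf (e : Fin n ≃ Fin 2 × Fin 2) (P : GL (Fin n) F) (v x : Fin n → F) :
    QuadraticMap.polar (Qf e P) v x = B0 (T e P v) (T e P x) := by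
  simp only [QuadraticMap.polar, Qf, T_add, Q0_add]
  ring

theorem polar_bilinear (e : Fin n ≃ Fin 2 × Fin 2) (P : GL (Fin n) F) :
    IsBilinearForm (QuadraticMap.polar (Qf e P)) where
  add_left x y v := by simp only [polar_Qf, T_add, B0_add_left]
  smul_left c x v := by simp only [polar_Qf, T_smul, B0_smul_left]
  add_right v x y := by
    simp only [polar_Qf, T_add]
    rw [B0_comm, B0_add_left, B0_comm _ (T e P v), B0_comm _ (T e P v)]
  smul_right c v x := by
    simp only [polar_Qf, T_smul]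
    rw [B0_comm, B0_smul_left, B0_comm]

theorem polar_nondeg (e : Fin n ≃ Fin 2 × Fin 2) (P : GL (Fin n) F) :
    IsNondegenerateForm (QuadraticMap.polar (Qf e P)) := by
  intro v hv
  obtain ⟨x, hx⟩ := B0_nondeg (T e P v) (T_ne_zero e P v hv)
  refine ⟨⟨Tinv e P x, ?_⟩, ⟨Tinv e P x, ?_⟩⟩
  · rw [polar_Qf, T_Tinv, B0_comm]; exact hx
  · rw [polar_Qf, T_Tinv]; exact hx

theorem Qf_act (e : Fin n ≃ Fin 2 × Fin 2) (P : GL (Fin n) F) (g : GL (Fin n) F)
    (hg : g ∈ tensorProductSubgroup 2 2 e P) :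
    ∃ c : Fˣ, ∀ v, Qf e P ((g : Matrix (Fin n) (Fin n) F) *ᵥ v) = (c : F) * Qf e P v := by
  obtain ⟨k', ⟨k, ⟨a, b, hk⟩, rfl⟩, rfl⟩ := hg
  refine ⟨Matrix.GeneralLinearGroup.det a * Matrix.GeneralLinearGroup.det b, ?_⟩
  intro v
  have := T_act e P k v
  simp only [MulEquiv.coe_toMonoidHom] at this ⊢
  rw [Qf, this, hk, Q0_kron]
  rfl

/-- **TENS3c** -/
theorem inClass_of_le_tensor22 [Fintype F] (hn : 3 ≤ n) (G : Subgroup (GL (Fin n) F))
    (e : Fin n ≃ Fin 2 × Fin 2) (P : GL (Fin n) F) (hG : G ≤ tensorProductSubgroup 2 2 e P) : InClass G := by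
  have hn4 : n = 4 := by
    have := Fintype.card_congr e
    simpa using this
  by_cases ho : Odd (Fintype.card F)
  · refine InClass.of_quadratic G (Qf e P) ⟨?_, polar_bilinear e P, polar_nondeg e P⟩ ho hn ?_
    · intro c v
      rw [Qf, T_smul, Q0_smul]
      rfl
    · intro g hg
      exact Qf_act e P g (hG hg)
  · -- characteristic `2`
    have h2 : (2 : F) = 0 := by
      have hev : Fintype.card F % 2 = 0 := by
        rcases Nat.even_or_odd (Fintype.card F) with h | h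
        · exact Nat.even_iff.mp h
        · exact absurd h ho
      have hch : ringChar F = 2 := FiniteField.even_card_iff_char_two.mpr hev
      have : CharP F 2 := by rw [← hch]; exact ringChar.charP F
      exact_mod_cast CharP.cast_eq_zero F 2
    refine InClass.of_symplectic G (QuadraticMap.polar (Qf e P))
      ⟨polar_bilinear e P, ?_, ?_, polar_nondeg e P⟩ (by rw [hn4]; decide) (by omega) ?_
    · intro v w
      rw [polar_Qf, polar_Qf, B0_comm]
      have : B0 (T e P w) (T e P v) + B0 (T e P w) (T e P v) = 0 := by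
        rw [← two_mul, h2, zero_mul]
      exact eq_neg_of_add_eq_zero_left this
    · intro v
      rw [polar_Qf, B0_self, h2, zero_mul]
    · intro g hg
      obtain ⟨c, hc⟩ := Qf_act e P g (hG hg)
      refine ⟨c, ?_⟩
      intro u v
      simp only [QuadraticMap.polar]
      rw [← Matrix.mulVec_add, hc, hc, hc]
      ring

end Cfsg.Agent.Lib.Helper26.S5630I4TENS3c
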