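import Mathlib
import Cfsg.Prelude.Def_GeometricClasses
import Cfsg.Agent.Lib.Helper11.FormCliffDefs

/-!
# Clifford theory with a form: FC-GRAM (eq_formOfGram, isUnit_det_gram) and FC-ADJ (form_mulVec_left/right) (helper26)

Pieces of helper11's generic block (`notes/FormCliffSkel_helper11.lean.txt`), exact signatures.
-/

set_option autoImplicit false

namespace Cfsg.Agent.Lib.Helper26.FCliffGRAMADJ

open Matrix Cfsg Cfsg.Geo Cfsg.Agent.Lib.Helper7.Asch Cfsg.Agent.Lib.Helper11.Cliff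
  Cfsg.Agent.Lib.Helper11.CliffAct Cfsg.Agent.Lib.Helper11.FCliff
open scoped MatrixGroups Kronecker

variable {n : ℕ} {F : Type*} [Field F] {σ : F ≃+* F} {f : (Fin n → F) → (Fin n → F) → F}

theorem sum_left (hf : RSForm σ f) {ι : Type*} (s : Finset ι) (g : ι → Fin n → F) (v : Fin n → F) :
    f (∑ i ∈ s, g i) v = ∑ i ∈ s, f (g i) v := by
  classical
  induction s using Finset.induction_on with
  | empty => simp [hf.zero_left]
  | insert a s ha ih => rw [Finset.sum_insert ha, hf.add_left, ih, Finset.sum_insert ha]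

theorem sum_right (hf : RSForm σ f) {ι : Type*} (s : Finset ι) (g : ι → Fin n → F) (v : Fin n → F) :
    f v (∑ i ∈ s, g i) = ∑ i ∈ s, f v (g i) := by
  classical
  induction s using Finset.induction_on with
  | empty => simp [hf.zero_right]
  | insert a s ha ih => rw [Finset.sum_insert ha, hf.add_right, ih, Finset.sum_insert ha]

theorem eq_sum_single (x : Fin n → F) : x = ∑ a, x a • (Pi.single a 1 : Fin n → F) := by
  ext i
  simp [Finset.sum_apply, Pi.single_apply]

/-- **FC-GRAM-a**. -/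
theorem eq_formOfGram (hf : RSForm σ f) (x y : Fin n → F) :
    f x y = formOfGram σ (gramMatrix f) x y := by
  unfold formOfGram gramMatrix
  conv_lhs => rw [eq_sum_single x, eq_sum_single y]
  rw [sum_left hf]
  refine Finset.sum_congr rfl fun a _ => ?_
  rw [sum_right hf]
  refine Finset.sum_congr rfl fun b _ => ?_
  rw [hf.smul_left, hf.smul_right]
  ring

/-- `formOfGram` as a dot product. -/
theorem formOfGram_eq_dot (τ : F → F) (G : Matrix (Fin n) (Fin n) F) (x y : Fin n → F) :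
    formOfGram τ G x y = x ⬝ᵥ (G *ᵥ (τ ∘ y)) := by
  unfold formOfGram
  simp only [dotProduct, Matrix.mulVec, Function.comp]
  refine Finset.sum_congr rfl fun a _ => ?_
  rw [Finset.mul_sum]
  refine Finset.sum_congr rfl fun b _ => ?_
  ring

theorem eq_dot (hf : RSForm σ f) (x y : Fin n → F) :
    f x y = x ⬝ᵥ (gramMatrix f *ᵥ ((σ : F → F) ∘ y)) := by
  rw [eq_formOfGram hf, formOfGram_eq_dot]

/-- **FC-GRAM-b**. -/
theorem isUnit_det_gram (hf : RSForm σ f) : IsUnit (gramMatrix f).det := by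
  rw [isUnit_iff_ne_zero]
  intro hdet
  obtain ⟨w, hw0, hw⟩ := (Matrix.exists_mulVec_eq_zero_iff).mpr hdet
  have hv0 : ((σ.symm : F → F) ∘ w) ≠ 0 := by
    intro h
    apply hw0
    ext i
    have := congrFun h i
    simpa using this
  obtain ⟨x, hx⟩ := (hf.nondeg _ hv0).1
  apply hx
  rw [eq_dot hf]
  have : ((σ : F → F) ∘ ((σ.symm : F → F) ∘ w)) = w := by
    ext i
    simp
  rw [this, hw, dotProduct_zero]

theorem comp_mulVec (B : Matrix (Fin n) (Fin n) F) (v : Fin n → F) :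
    ((σ : F → F) ∘ (B *ᵥ v)) = (B.map σ) *ᵥ ((σ : F → F) ∘ v) := by
  ext i
  simp only [Function.comp, Matrix.mulVec, dotProduct, Matrix.map_apply, map_sum, map_mul]

theorem map_symm_map (M : Matrix (Fin n) (Fin n) F) : (M.map σ.symm).map σ = M := by
  ext i j
  simp

theorem mulVec_dot (M : Matrix (Fin n) (Fin n) F) (u w : Fin n → F) :
    (M *ᵥ u) ⬝ᵥ w = u ⬝ᵥ (Mᵀ *ᵥ w) := by
  rw [Matrix.dotProduct_mulVec u, Matrix.vecMul_transpose]

/-- **FC-ADJ-a**. -/
theorem form_mulVec_left (hf : RSForm σ f) (B : Matrix (Fin n) (Fin n) F) (u v : Fin n → F) :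
    f (B *ᵥ u) v = f u (radjM σ (gramMatrix f) B *ᵥ v) := by
  have hG := isUnit_det_gram hf
  rw [eq_dot hf, eq_dot hf, comp_mulVec, mulVec_dot]
  unfold radjM
  rw [map_symm_map, Matrix.mulVec_mulVec, Matrix.mulVec_mulVec]
  congr 2
  rw [← Matrix.mul_assoc, ← Matrix.mul_assoc, Matrix.mul_nonsing_inv _ hG, Matrix.one_mul]

/-- **FC-ADJ-b**. -/
theorem form_mulVec_right (hf : RSForm σ f) (B : Matrix (Fin n) (Fin n) F) (u v : Fin n → F) :
    f u (B *ᵥ v) = f (ladjM σ (gramMatrix f) B *ᵥ u) v := by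
  have hG := isUnit_det_gram hf
  rw [eq_dot hf, eq_dot hf, comp_mulVec, mulVec_dot]
  unfold ladjM
  rw [Matrix.transpose_transpose, Matrix.mulVec_mulVec, Matrix.mulVec_mulVec]
  congr 2
  rw [Matrix.mul_assoc (_ * _), Matrix.nonsing_inv_mul _ hG, Matrix.mul_one]

end Cfsg.Agent.Lib.Helper26.FCliffGRAMADJ
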