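import Mathlib
import Cfsg.Prelude.Def_GeometricClasses
import Cfsg.Agent.Lib.Helper11.FormCliffDefs
import Cfsg.Agent.Lib.Helper26.FCliffGRAMADJ

/-!
# Clifford theory with a form: FC-FI (isFullyInvariant_perpM) (helper26)

Piece of helper11's generic block (`notes/FormCliffSkel_helper11.lean.txt`), exact signature.
-/

set_option autoImplicit false

namespace Cfsg.Agent.Lib.Helper26.FCliffFI

open Matrix Cfsg Cfsg.Geo Cfsg.Agent.Lib.Helper7.Asch Cfsg.Agent.Lib.Helper11.Cliff
  Cfsg.Agent.Lib.Helper11.CliffAct Cfsg.Agent.Lib.Helper11.FCliff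
open scoped MatrixGroups Kronecker

variable {n : ℕ} {F : Type*} [Field F] {σ : F ≃+* F} {f : (Fin n → F) → (Fin n → F) → F}

/-- the left adjoint of a matrix commuting with the isometry group `X` commutes with `X` -/
theorem ladjM_comm (hf : RSForm σ f) (X : Subgroup (GL (Fin n) F))
    (hX : FixesForm (matrixSet X) f) (M : Matrix (Fin n) (Fin n) F)
    (hM : ∀ x ∈ X, (x : Matrix (Fin n) (Fin n) F) * M = M * (x : Matrix (Fin n) (Fin n) F)) :
    ∀ x ∈ X, (x : Matrix (Fin n) (Fin n) F) * ladjM σ (gramMatrix f) M =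
      ladjM σ (gramMatrix f) M * (x : Matrix (Fin n) (Fin n) F) := by
  intro x hx
  have hxi : x⁻¹ ∈ X := X.inv_mem hx
  apply Matrix.toLin'.injective
  apply LinearMap.ext
  intro u
  rw [Matrix.toLin'_apply, Matrix.toLin'_apply]
  apply hf.eq_of_forall_right
  intro v
  -- f (x L u) v = f (L u) (x⁻¹ v) = f u (M x⁻¹ v) = f u (x⁻¹ M v) = f (x u) (M v) = f (L x u) v
  have h1 : f (((x : Matrix (Fin n) (Fin n) F) * ladjM σ (gramMatrix f) M) *ᵥ u) v =
      f (ladjM σ (gramMatrix f) M *ᵥ u) (((x⁻¹ : GL (Fin n) F) : Matrix (Fin n) (Fin n) F) *ᵥ v) := by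
    rw [Cfsg.Agent.Lib.Helper11.FCliff.form_mulVec_right hX hxi, inv_inv, Matrix.mulVec_mulVec]
  have h2 : f ((ladjM σ (gramMatrix f) M * (x : Matrix (Fin n) (Fin n) F)) *ᵥ u) v =
      f ((x : Matrix (Fin n) (Fin n) F) *ᵥ u) (M *ᵥ v) := by
    rw [← Matrix.mulVec_mulVec, ← Cfsg.Agent.Lib.Helper26.FCliffGRAMADJ.form_mulVec_right hf]
  rw [h1, h2, ← Cfsg.Agent.Lib.Helper26.FCliffGRAMADJ.form_mulVec_right hf, Matrix.mulVec_mulVec,
    ← hM x⁻¹ hxi, ← Matrix.mulVec_mulVec, Cfsg.Agent.Lib.Helper11.FCliff.form_mulVec_right hX hxi, inv_inv]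

/-- a matrix commuting with `X` commutes with the enveloping algebra -/
theorem comm_envEnd (X : Subgroup (GL (Fin n) F)) (M : Matrix (Fin n) (Fin n) F)
    (hM : ∀ x ∈ X, (x : Matrix (Fin n) (Fin n) F) * M = M * (x : Matrix (Fin n) (Fin n) F))
    (a : Module.End F (Fin n → F)) (ha : a ∈ envEnd X) (v : Fin n → F) :
    M *ᵥ (a v) = a (M *ᵥ v) := by
  have key : ∀ v, M *ᵥ (a v) = a (M *ᵥ v) := by
    refine Algebra.adjoin_induction (p := fun a _ => ∀ v, M *ᵥ (a v) = a (M *ᵥ v)) ?_ ?_ ?_ ?_ ha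
    · rintro _ ⟨x, hx, rfl⟩ v
      rw [Matrix.toLin'_apply, Matrix.toLin'_apply, Matrix.mulVec_mulVec, Matrix.mulVec_mulVec, hM x hx]
    · intro c v
      simp [Algebra.algebraMap_eq_smul_one, Matrix.mulVec_smul]
    · intro a b _ _ iha ihb v
      simp [Matrix.mulVec_add, iha v, ihb v]
    · intro a b _ _ iha ihb v
      simp [iha, ihb]
  exact key v

/-- **FC-FI**. -/
theorem isFullyInvariant_perpM (hf : RSForm σ f) {X : Subgroup (GL (Fin n) F)}
    (hX : FixesForm (matrixSet X) f) (W : SubM X) (hW : W.IsFullyInvariant) :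
    (perpM hf hX W).IsFullyInvariant := by
  intro φ v hv
  rw [Submodule.mem_comap, mem_perpM]
  intro w hw
  -- `φ` as an `F`-linear map
  have hφadd : ∀ a b, φ (a + b) = φ a + φ b := fun a b => map_add φ a b
  have hφsmul : ∀ (c : F) (a : Fin n → F), φ (c • a) = c • φ a := by
    intro c a
    have h := map_smul φ (algebraMap F (envEnd X) c) a
    have e1 : ∀ z : Fin n → F, (algebraMap F (envEnd X) c) • z = c • z := by
      intro z
      rw [smul_def']
      simp [Algebra.algebraMap_eq_smul_one]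
    rwa [e1, e1] at h
  let φF : (Fin n → F) →ₗ[F] (Fin n → F) :=
    { toFun := fun a => φ a
      map_add' := hφadd
      map_smul' := hφsmul }
  set b : Matrix (Fin n) (Fin n) F := LinearMap.toMatrix' φF with hb
  have hbv : ∀ z, b *ᵥ z = φ z := by
    intro z
    rw [hb, ← Matrix.toLin'_apply, Matrix.toLin'_toMatrix']
    rfl
  have hbX : ∀ x ∈ X, (x : Matrix (Fin n) (Fin n) F) * b = b * (x : Matrix (Fin n) (Fin n) F) := by
    intro x hx
    apply Matrix.toLin'.injective
    apply LinearMap.ext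
    intro z
    rw [Matrix.toLin'_apply, Matrix.toLin'_apply, ← Matrix.mulVec_mulVec, ← Matrix.mulVec_mulVec, hbv, hbv]
    have h := map_smul φ (⟨Matrix.toLin' (x : Matrix (Fin n) (Fin n) F), toLin_mem_envEnd hx⟩ : envEnd X) z
    rw [smul_def', smul_def'] at h
    simp only [Matrix.toLin'_apply] at h
    exact h.symm
  have hLX := ladjM_comm hf X hX b hbX
  -- `ladjM b` as an `envEnd X`-linear endomorphism
  have hLW : ladjM σ (gramMatrix f) b *ᵥ w ∈ W := by
    have h := hW
      { toFun := fun z => ladjM σ (gramMatrix f) b *ᵥ z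
        map_add' := fun y z => Matrix.mulVec_add _ y z
        map_smul' := by
          intro a z
          rw [smul_def', RingHom.id_apply, smul_def']
          exact comm_envEnd X _ hLX a.1 a.2 z } hw
    exact h
  rw [← hbv, Cfsg.Agent.Lib.Helper26.FCliffGRAMADJ.form_mulVec_right hf]
  exact hv _ hLW

end Cfsg.Agent.Lib.Helper26.FCliffFI
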