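import Mathlib
import Cfsg.Prelude.Def_GeometricClasses
import Cfsg.Agent.Lib.Helper11.FormCliffDefs
import Cfsg.Agent.Lib.Helper11.FormCliffComps
import Cfsg.Agent.Lib.Helper11.S5630I4CL2

/-!
# Clifford theory with a form: FC-DEC-B3 (nondeg_decomposition_of_pairs) (helper26)

Piece of helper11's generic block (`notes/FormCliffSkel_helper11.lean.txt`), exact signature.
-/

set_option autoImplicit false

namespace Cfsg.Agent.Lib.Helper26.FCliffDECB3

open Matrix Cfsg Cfsg.Geo Cfsg.Agent.Lib.Helper7.Asch Cfsg.Agent.Lib.Helper11.Cliff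
  Cfsg.Agent.Lib.Helper11.CliffAct Cfsg.Agent.Lib.Helper11.FCliff Cfsg.Agent.Lib.Helper11.CliffCL
open scoped MatrixGroups Kronecker

variable {n : ℕ} {F : Type*} [Field F] {σ : F ≃+* F} {f : (Fin n → F) → (Fin n → F) → F}

/-- the left kernel `{u | f u v = 0}` of a vector -/
def lker (hf : RSForm σ f) (v : Fin n → F) : Submodule F (Fin n → F) where
  carrier := {u | f u v = 0}
  add_mem' := by
    intro a b ha hb
    simp only [Set.mem_ofPred_eq] at *
    rw [hf.add_left, ha, hb, add_zero]
  zero_mem' := hf.zero_left v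
  smul_mem' := by
    intro c u hu
    simp only [Set.mem_ofPred_eq] at *
    rw [hf.smul_left, hu, mul_zero]

theorem mem_lker (hf : RSForm σ f) (v u : Fin n → F) : u ∈ lker hf v ↔ f u v = 0 := Iff.rfl

/-- **FC-DEC-B3**. -/
theorem nondeg_decomposition_of_pairs [Fintype F] (hf : RSForm σ f) {H X : Subgroup (GL (Fin n) F)} (hX : NormBy H X)
    (hXf : FixesForm (matrixSet X) f) {t m : ℕ} (ht : 2 < t) (D : Fin t → SubM X) (hc : Comps hX m D)
    (ν : Fin t → Fin t) (hν : ∀ i j, D j ≤ perpM hf hXf (D i) ↔ j ≠ ν i) (hinv : ∀ i, ν (ν i) = i)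
    (hfp : ∀ i, ν i ≠ i)
    (heq : ∀ h (hh : h ∈ H) (π : Equiv.Perm (Fin t)), (∀ i, gmap h (nzr_of_normBy hX hh) (D i) = D (π i)) →
      ∀ i, ν (π i) = π (ν i)) :
    ∃ (t' : ℕ) (E : Fin t' → Submodule F (Fin n → F)), IsNondegenerateMDecomposition f (2 * m) E ∧
      H ≤ decompositionStabilizer E := by
  classical
  set Dr : Fin t → Submodule F (Fin n → F) := fun i => (D i).restrictScalars F with hDr
  have hdec : IsMDecomposition m Dr := hc.dec
  have horth : ∀ i j, j ≠ ν i → ∀ w ∈ Dr i, ∀ v ∈ Dr j, f w v = 0 := by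
    intro i j hj w hw v hv
    have h := (hν i j).mpr hj
    exact (mem_perpM hf hXf (D i) v).mp (h ((Submodule.restrictScalars_mem F _ _).mp hv)) w
      ((Submodule.restrictScalars_mem F _ _).mp hw)
  set P : Fin t → Submodule F (Fin n → F) := fun i => Dr i ⊔ Dr (ν i) with hP
  have hPν : ∀ i, P (ν i) = P i := by
    intro i
    simp only [hP]
    rw [hinv, sup_comm]
  have hPeq : ∀ i, P i = ⨆ j ∈ ({i, ν i} : Set (Fin t)), Dr j := by
    intro i
    rw [iSup_pair]
  have hdisj : ∀ i j, j ≠ i → j ≠ ν i → Disjoint (P j) (P i) := by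
    intro i j h1 h2
    rw [hPeq, hPeq]
    refine hdec.indep.disjoint_biSup_biSup' ?_ (Set.toFinite _)
    rw [Set.disjoint_left]
    intro a ha hb
    simp only [Set.mem_insert_iff, Set.mem_singleton_iff] at ha hb
    rcases ha with rfl | rfl <;> rcases hb with h | h
    · exact h1 h
    · exact h2 h
    · apply h2
      rw [← h, hinv]
    · apply h1
      have := congrArg ν h
      rwa [hinv, hinv] at this
  have hDne : ∀ i, Dr i ≠ ⊥ := by
    intro i h
    have h1 := hdec.finrank_eq i
    rw [h, finrank_bot] at h1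
    exact absurd h1.symm hdec.pos.ne'
  have hne : ∀ i, P i ≠ ⊥ := by
    intro i h
    apply hDne i
    exact le_bot_iff.mp (h ▸ (le_sup_left : Dr i ≤ P i))
  have hPinj : ∀ i j, P i = P j → j = i ∨ j = ν i := by
    intro i j h
    by_contra hcon
    push Not at hcon
    have := hdisj i j hcon.1 hcon.2
    rw [← h] at this
    exact hne i (disjoint_self.mp this)
  -- the enumeration of the pairs
  set S : Set (Submodule F (Fin n → F)) := Set.range P with hS
  have : Finite S := Set.finite_range P
  set t' := Nat.card S with ht'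
  let e : Fin t' ≃ S := (Finite.equivFin S).symm
  have hEx : ∀ k, ∃ i, P i = (e k).1 := fun k => (e k).2
  refine ⟨t', fun k => (e k).1, ⟨⟨?_, ?_, ?_, ?_, ?_⟩, ?_, ?_⟩, ?_⟩
  · -- two_le
    have i0 : Fin t := ⟨0, by omega⟩
    obtain ⟨j0, hj1, hj2⟩ : ∃ j : Fin t, j ≠ i0 ∧ j ≠ ν i0 := by
      by_contra hno
      push Not at hno
      have hsub : (Finset.univ : Finset (Fin t)) ⊆ {i0, ν i0} := by
        intro j _
        by_cases hj : j = i0
        · simp [hj]
        · simp [hno j hj]
      have := Finset.card_le_card hsub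
      rw [Finset.card_univ, Fintype.card_fin] at this
      have h2 : ({i0, ν i0} : Finset (Fin t)).card ≤ 2 := Finset.card_le_two
      omega
    have hne2 : (⟨P i0, i0, rfl⟩ : S) ≠ ⟨P j0, j0, rfl⟩ := by
      intro h
      have := hPinj i0 j0 (congrArg Subtype.val h)
      rcases this with h | h
      · exact hj1 h
      · exact hj2 h
    have : Nontrivial S := ⟨⟨_, _, hne2⟩⟩
    exact Finite.one_lt_card_iff_nontrivial.mpr inferInstance
  · -- pos
    have := hdec.pos
    omega
  · -- finrank
    intro k
    obtain ⟨i, hi⟩ := hEx k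
    change Module.finrank F (e k).1 = 2 * m
    rw [← hi]
    have hd : Disjoint (Dr i) (Dr (ν i)) := hdec.indep.pairwiseDisjoint (hfp i).symm
    have h1 := Submodule.finrank_sup_add_finrank_inf_eq (Dr i) (Dr (ν i))
    rw [hd.eq_bot, finrank_bot, hdec.finrank_eq, hdec.finrank_eq] at h1
    change Module.finrank F ↥(Dr i ⊔ Dr (ν i)) = 2 * m
    omega
  · -- independence
    intro k
    obtain ⟨i, hi⟩ := hEx k
    change Disjoint (e k).1 (⨆ l, ⨆ (_ : l ≠ k), (e l).1)
    have hle : (⨆ l, ⨆ (_ : l ≠ k), (e l).1) ≤ ⨆ j ∈ ({i, ν i}ᶜ : Set (Fin t)), Dr j := by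
      apply iSup₂_le
      intro l hl
      obtain ⟨i', hi'⟩ := hEx l
      rw [← hi']
      have hne' : P i ≠ P i' := by
        intro h
        apply hl
        apply e.injective
        apply Subtype.ext
        rw [← hi, ← hi', h]
      have h1 : i' ≠ i := fun h => hne' (by rw [h])
      have h2 : i' ≠ ν i := fun h => hne' (by rw [h, hPν])
      have h3 : ν i' ≠ i := fun h => hne' (by rw [← h, hPν])
      have h4 : ν i' ≠ ν i := fun h => hne' (by rw [← hPν i, ← h, hPν])
      apply sup_le
      · exact le_biSup Dr (show i' ∈ ({i, ν i}ᶜ : Set (Fin t)) by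
          simp only [Set.mem_compl_iff, Set.mem_insert_iff, Set.mem_singleton_iff]
          tauto)
      · exact le_biSup Dr (show ν i' ∈ ({i, ν i}ᶜ : Set (Fin t)) by
          simp only [Set.mem_compl_iff, Set.mem_insert_iff, Set.mem_singleton_iff]
          tauto)
    refine Disjoint.mono_right hle ?_
    rw [← hi, hPeq]
    exact hdec.indep.disjoint_biSup_biSup' disjoint_compl_right (Set.toFinite _)
  · -- iSup = ⊤
    rw [eq_top_iff, ← hdec.iSup_eq_top]
    apply iSup_le
    intro i
    have : (⟨P i, i, rfl⟩ : S) = e (e.symm ⟨P i, i, rfl⟩) := by simp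
    refine le_trans (le_sup_left : Dr i ≤ P i) ?_
    refine le_trans ?_ (le_iSup (fun k => (e k).1) (e.symm ⟨P i, i, rfl⟩))
    rw [Equiv.apply_symm_apply]
  · -- nondegenerate
    intro k
    obtain ⟨i, hi⟩ := hEx k
    change IsNondegenerateOn f (e k).1
    rw [← hi]
    have key : ∀ w ∈ P i, (∀ x ∈ P i, f x w = 0) → w = 0 := by
      intro w hw hall
      by_contra hw0
      obtain ⟨x0, hx0⟩ := (hf.nondeg w hw0).1
      apply hx0
      have htop : (⊤ : Submodule F (Fin n → F)) ≤ lker hf w := by
        rw [← hdec.iSup_eq_top]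
        apply iSup_le
        intro j
        by_cases hj : j = i ∨ j = ν i
        · intro x hx
          apply hall
          rcases hj with rfl | rfl
          · exact (le_sup_left : Dr j ≤ P j) hx
          · exact (le_sup_right : Dr (ν i) ≤ P i) hx
        · push Not at hj
          intro x hx
          rw [mem_lker]
          obtain ⟨a, ha, b, hb, rfl⟩ := Submodule.mem_sup.mp hw
          rw [hf.add_right]
          have h1 : f x a = 0 := horth j i (fun h => hj.2 (by rw [h, hinv])) x hx a ha
          have h2 : f x b = 0 := horth j (ν i) (fun h => hj.1 (by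
            have := congrArg ν h
            rw [hinv, hinv] at this
            exact this.symm)) x hx b hb
          rw [h1, h2, add_zero]
      exact htop (Submodule.mem_top : x0 ∈ ⊤)
    intro w hw hw0
    constructor
    · by_contra hno
      push Not at hno
      exact hw0 (key w hw hno)
    · by_contra hno
      push Not at hno
      exact hw0 (key w hw (fun x hx => hf.refl _ _ (hno x hx)))
  · -- orthogonal
    intro k l hkl
    obtain ⟨i, hi⟩ := hEx k
    obtain ⟨i', hi'⟩ := hEx l
    change AreOrthogonalFor f (e k).1 (e l).1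
    rw [← hi, ← hi']
    have hne' : P i ≠ P i' := by
      intro h
      apply hkl
      apply e.injective
      apply Subtype.ext
      rw [← hi, ← hi', h]
    have h1 : i' ≠ i := fun h => hne' (by rw [h])
    have h2 : i' ≠ ν i := fun h => hne' (by rw [h, hPν])
    have h3 : ν i' ≠ i := fun h => hne' (by rw [← h, hPν])
    have h4 : ν i' ≠ ν i := fun h => hne' (by rw [← hPν i, ← h, hPν])
    intro u hu v hv
    obtain ⟨a, ha, b, hb, rfl⟩ := Submodule.mem_sup.mp hu
    obtain ⟨c, hc', d, hd, rfl⟩ := Submodule.mem_sup.mp hv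
    rw [hf.add_left, hf.add_right, hf.add_right]
    rw [horth i i' h2 a ha c hc', horth i (ν i') h4 a ha d hd,
      horth (ν i) i' (by rw [hinv]; exact h1) b hb c hc',
      horth (ν i) (ν i') (by rw [hinv]; exact h3) b hb d hd]
    simp
  · -- H permutes
    intro h hh
    obtain ⟨π, hπ⟩ := hc.perm h hh
    have hνπ := heq h hh π hπ
    have hmapD : ∀ i, (Dr i).map (Matrix.toLin' (h : Matrix (Fin n) (Fin n) F)) = Dr (π i) := by
      intro i
      change ((D i).restrictScalars F).map _ = (D (π i)).restrictScalars F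
      rw [map_restrictScalars_eq (nzr_of_normBy hX hh), hπ]
    have hmapP : ∀ i, (P i).map (Matrix.toLin' (h : Matrix (Fin n) (Fin n) F)) = P (π i) := by
      intro i
      change (Dr i ⊔ Dr (ν i)).map _ = Dr (π i) ⊔ Dr (ν (π i))
      rw [Submodule.map_sup, hmapD, hmapD, hνπ]
    have hinjmap : Function.Injective (Submodule.map (Matrix.toLin' (h : Matrix (Fin n) (Fin n) F))) := by
      apply Submodule.map_injective_of_injective
      rw [toLin'_eq_gl]
      exact (gl h).injective
    let τ : S → S := fun s => ⟨s.1.map (Matrix.toLin' (h : Matrix (Fin n) (Fin n) F)), by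
      obtain ⟨i, hi⟩ := s.2
      exact ⟨π i, by rw [← hi, hmapP]⟩⟩
    have hτinj : Function.Injective τ := by
      intro s s' hss
      apply Subtype.ext
      apply hinjmap
      exact congrArg Subtype.val hss
    have hτbij : Function.Bijective τ := Finite.injective_iff_bijective.mp hτinj
    refine ⟨(e.trans (Equiv.ofBijective τ hτbij)).trans e.symm, ?_⟩
    intro k
    simp [τ]

end Cfsg.Agent.Lib.Helper26.FCliffDECB3
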