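import Mathlib

/-!
Farm-out lemmas FO-C for helper11's S0434 (helper26): the class equation for a list of pairwise
non-conjugate elements of a finite group.
-/

set_option autoImplicit false
set_option linter.style.haveILetI false
set_option linter.unusedSectionVars false

namespace Cfsg.Agent.Lib.Helper26.ClassEq

open Subgroup

variable {G : Type*} [Group G] [Finite G]

/-- the size of the conjugacy class of `g` is the index of its centralizer -/
theorem ncard_carrier_mk (g : G) :
    (ConjClasses.mk g).carrier.ncard = (centralizer ({g} : Set G)).index := by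
  have h1 : (ConjClasses.mk g).carrier = MulAction.orbit (ConjAct G) g :=
    (ConjAct.orbit_eq_carrier_conjClasses g).symm
  have h2 : (MulAction.stabilizer (ConjAct G) g).index = (MulAction.orbit (ConjAct G) g).ncard :=
    MulAction.index_stabilizer (ConjAct G) g
  have h3 : centralizer ({g} : Set G) = Subgroup.comap ConjAct.toConjAct.toMonoidHom
      (MulAction.stabilizer (ConjAct G) g) := Subgroup.centralizer_eq_comap_stabilizer g
  have h4 : (Subgroup.comap (ConjAct.toConjAct (G := G)).toMonoidHom
      (MulAction.stabilizer (ConjAct G) g)).index = (MulAction.stabilizer (ConjAct G) g).index :=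
    Subgroup.index_comap_of_surjective _ (ConjAct.toConjAct (G := G)).surjective
  rw [h1, ← h2, h3]
  exact h4.symm

/-- the size of the conjugacy class of `g` -/
theorem ncard_carrier_mk' (g : G) :
    (ConjClasses.mk g).carrier.ncard = Nat.card G / Nat.card (centralizer ({g} : Set G)) := by
  rw [ncard_carrier_mk]
  have h := Subgroup.index_mul_card (centralizer ({g} : Set G))
  have hpos : 0 < Nat.card (centralizer ({g} : Set G)) := Nat.card_pos
  exact Nat.eq_div_of_mul_eq_left hpos.ne' h

/-- the class equation as a finite sum -/
theorem sum_ncard_carrier [Fintype (ConjClasses G)] :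
    ∑ c : ConjClasses G, c.carrier.ncard = Nat.card G := by
  rw [← Group.sum_card_conj_classes_eq_card G, finsum_eq_sum_of_fintype]

theorem nodup_map_mk (l : List G) (hl : l.Pairwise (fun g h => ¬ IsConj g h)) :
    (l.map (ConjClasses.mk (α := G))).Nodup := by
  rw [List.Nodup, List.pairwise_map]
  refine hl.imp ?_
  intro a b hab h
  exact hab (ConjClasses.mk_eq_mk_iff_isConj.1 h)

theorem length_le_card_conjClasses (l : List G) (hl : l.Pairwise (fun g h => ¬ IsConj g h)) :
    l.length ≤ Nat.card (ConjClasses G) := by
  classical
  letI : Fintype (ConjClasses G) := Fintype.ofFinite _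
  have h := (nodup_map_mk l hl).length_le_card
  rw [List.length_map] at h
  rw [Nat.card_eq_fintype_card]
  exact h

open Classical in
theorem map_sum_eq (l : List G) (hl : l.Pairwise (fun g h => ¬ IsConj g h)) :
    (l.map (fun g => Nat.card G / Nat.card (centralizer ({g} : Set G)))).sum =
      ∑ c ∈ (l.map (ConjClasses.mk (α := G))).toFinset, c.carrier.ncard := by
  classical
  rw [List.sum_toFinset _ (nodup_map_mk l hl), List.map_map]
  congr 1
  apply List.map_congr_left
  intro g _
  exact (ncard_carrier_mk' g).symm

theorem sum_class_sizes (l : List G) (hl : l.Pairwise (fun g h => ¬ IsConj g h))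
    (hk : Nat.card (ConjClasses G) = l.length) :
    (l.map (fun g => Nat.card G / Nat.card (centralizer ({g} : Set G)))).sum = Nat.card G := by
  classical
  letI : Fintype (ConjClasses G) := Fintype.ofFinite _
  rw [map_sum_eq l hl]
  have hcard : ((l.map (ConjClasses.mk (α := G))).toFinset).card =
      (Finset.univ : Finset (ConjClasses G)).card := by
    rw [List.toFinset_card_of_nodup (nodup_map_mk l hl), List.length_map, Finset.card_univ,
      ← Nat.card_eq_fintype_card, hk]
  have huniv : (l.map (ConjClasses.mk (α := G))).toFinset = Finset.univ :=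
    Finset.eq_univ_of_card _ (by rw [hcard, Finset.card_univ])
  rw [huniv]
  exact sum_ncard_carrier

theorem sum_class_sizes_succ (l : List G) (hl : l.Pairwise (fun g h => ¬ IsConj g h))
    (hk : Nat.card (ConjClasses G) = l.length + 1) :
    ∃ g : G, (l.map (fun g => Nat.card G / Nat.card (centralizer ({g} : Set G)))).sum +
      Nat.card G / Nat.card (centralizer ({g} : Set G)) = Nat.card G := by
  classical
  letI : Fintype (ConjClasses G) := Fintype.ofFinite _
  set S := (l.map (ConjClasses.mk (α := G))).toFinset with hS
  have hScard : S.card = l.length := by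
    rw [hS, List.toFinset_card_of_nodup (nodup_map_mk l hl), List.length_map]
  have hcompl : (Sᶜ).card = 1 := by
    rw [Finset.card_compl, ← Nat.card_eq_fintype_card, hk, hScard]
    omega
  obtain ⟨c₀, hc₀⟩ := Finset.card_eq_one.1 hcompl
  obtain ⟨g, rfl⟩ := ConjClasses.exists_rep c₀
  refine ⟨g, ?_⟩
  rw [map_sum_eq l hl, ← ncard_carrier_mk' g]
  have h := sum_ncard_carrier (G := G)
  rw [← Finset.sum_add_sum_compl S, hc₀, Finset.sum_singleton] at h
  exact h

end Cfsg.Agent.Lib.Helper26.ClassEq
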