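import Mathlib
import Cfsg.Prelude.Def_GeometricClasses
import Cfsg.Agent.Lib.Helper13.SUMax
import Cfsg.Agent.Lib.Helper1.SpCorB4

/-!
# SU corollary family: a unitary transvection inside `SU_n(q) ≤ GL_n`, and PU4 (helper26)

* `exists_su_gtv` : for `n ≥ 2` there is `g ∈ GU ⊓ SL` acting as `u ↦ u + φ u • x` with `x ≠ 0`, `φ ≠ 0` linear;
* `gtv_not_mem_tensorProductSubgroup` : such an element lies in no tensor product subgroup (`n₁, n₂ ≥ 2`), index-generic;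
* **PU4** `not_su_le_tensorProductSubgroup` (exact signature of notes/SUCorSkel_helper9.lean.txt).
-/

set_option autoImplicit false

namespace Cfsg.Agent.Lib.Helper26.SUCorTv

open Cfsg Cfsg.Geo
open scoped MatrixGroups Matrix Kronecker

variable {F : Type*} [Field F] [Fintype F] {n q : ℕ}

/-- a unitary transvection inside `SU_n(q) ≤ GL_n`, with its centre `v` and its parameter `c` -/
theorem exists_su_tv (hF : Fintype.card F = q ^ 2) (hn : 2 ≤ n) :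
    ∃ (g : GL (Fin n) F) (v : Fin n → F) (c : F), g ∈ GU n F q ⊓ specialLinear (Fin n) F ∧ v ≠ 0 ∧ c ≠ 0 ∧
      hermForm n F q v v = 0 ∧ c ^ q = -c ∧
      ∀ x, (g : Matrix (Fin n) (Fin n) F) *ᵥ x = x + (c * hermForm n F q x v) • v := by
  obtain ⟨v, hv0, hvv⟩ := Cfsg.Agent.S0781.exists_iso_vec hF hn
  obtain ⟨c, hc0, hc⟩ := Cfsg.Agent.Lib.Helper6.SUG.exists_trace_zero hF
  refine ⟨Cfsg.Agent.Lib.Helper13.suGL n F q (Cfsg.Agent.Lib.Helper6.SUG.tv hF v c hvv hc), v, c,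
    Cfsg.Agent.Lib.Helper13.suGL_mem _, hv0, hc0, hvv, hc, ?_⟩
  intro x
  rw [Cfsg.Agent.Lib.Helper13.suGL_mulVec, Cfsg.Agent.Lib.Helper6.SUG.av_tv]

/-- a "generalised transvection" `u ↦ u + φ u • x` inside `SU_n(q) ≤ GL_n` -/
theorem exists_su_gtv (hF : Fintype.card F = q ^ 2) (hn : 2 ≤ n) :
    ∃ (g : GL (Fin n) F) (x : Fin n → F) (φ : (Fin n → F) →ₗ[F] F),
      g ∈ GU n F q ⊓ specialLinear (Fin n) F ∧ x ≠ 0 ∧ φ ≠ 0 ∧
      ∀ u, (g : Matrix (Fin n) (Fin n) F) *ᵥ u = u + φ u • x := by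
  obtain ⟨g, v, c, hg, hv0, hc0, hvv, hc, hact⟩ := exists_su_tv hF hn
  let φ : (Fin n → F) →ₗ[F] F :=
    { toFun := fun u => c * hermForm n F q u v
      map_add' := by
        intro a b
        rw [Cfsg.Agent.S0779.herm_add_left, mul_add]
      map_smul' := by
        intro a b
        rw [Cfsg.Agent.S0779.herm_smul_left, RingHom.id_apply, smul_eq_mul]
        ring }
  refine ⟨g, v, φ, hg, hv0, ?_, fun u => hact u⟩
  intro h0
  obtain ⟨v', hv'v, _, _⟩ := Cfsg.Agent.Lib.Helper6.exists_herm_partner hF v hv0 hvv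
  have h1 : φ v' = c * hermForm n F q v' v := rfl
  rw [h0, LinearMap.zero_apply, hv'v, mul_one] at h1
  exact hc0 h1.symm

end Cfsg.Agent.Lib.Helper26.SUCorTv

namespace Cfsg.Agent.Lib.Helper26.SUCorTv

open Cfsg Cfsg.Geo
open scoped MatrixGroups Matrix Kronecker

/-- a generalised transvection lies in no tensor product subgroup (index-generic) -/
theorem gtv_not_mem_tensorProductSubgroup {K : Type*} [Field K] {ι : Type} [Fintype ι] [DecidableEq ι]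
    {n₁ n₂ : ℕ} (h1 : 2 ≤ n₁) (h2 : 2 ≤ n₂)
    (e : ι ≃ Fin n₁ × Fin n₂) (P : GL ι K) (g : GL ι K) (x : ι → K) (hx : x ≠ 0) (φ : (ι → K) →ₗ[K] K) (hφ : φ ≠ 0)
    (hact : ∀ u, (g : Matrix ι ι K) *ᵥ u = u + φ u • x) : g ∉ tensorProductSubgroup n₁ n₂ e P := by
  intro ht
  obtain ⟨y', ⟨k, hk, rfl⟩, hy'⟩ := ht
  obtain ⟨A, B, hAB⟩ := hk
  have hmat : (g : Matrix ι ι K) = (P : Matrix ι ι K) *
        Matrix.reindex e.symm e.symm (k : Matrix (Fin n₁ × Fin n₂) (Fin n₁ × Fin n₂) K) *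
        ((P⁻¹ : GL ι K) : Matrix ι ι K) := by
    rw [← hy']
    rfl
  have hPP : ∀ v : ι → K, ((P⁻¹ : GL ι K) : Matrix ι ι K) *ᵥ ((P : Matrix ι ι K) *ᵥ v) = v := by
    intro v
    rw [Matrix.mulVec_mulVec, ← Units.val_mul, inv_mul_cancel, Units.val_one, Matrix.one_mulVec]
  have hPP' : ∀ v : ι → K, (P : Matrix ι ι K) *ᵥ (((P⁻¹ : GL ι K) : Matrix ι ι K) *ᵥ v) = v := by
    intro v
    rw [Matrix.mulVec_mulVec, ← Units.val_mul, mul_inv_cancel, Units.val_one, Matrix.one_mulVec]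
  -- the action of `k` in Kronecker coordinates
  have hkact : ∀ v' : Fin n₁ × Fin n₂ → K,
      (k : Matrix (Fin n₁ × Fin n₂) (Fin n₁ × Fin n₂) K) *ᵥ v' =
        v' + φ ((P : Matrix ι ι K) *ᵥ (v' ∘ e)) • ((((P⁻¹ : GL ι K) : Matrix ι ι K) *ᵥ x) ∘ e.symm) := by
    intro v'
    have h3 := hact ((P : Matrix ι ι K) *ᵥ (v' ∘ e))
    rw [hmat, ← Matrix.mulVec_mulVec, ← Matrix.mulVec_mulVec, hPP] at h3
    have h4 : Matrix.reindex e.symm e.symm (k : Matrix (Fin n₁ × Fin n₂) (Fin n₁ × Fin n₂) K) *ᵥ (v' ∘ e) =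
        ((k : Matrix (Fin n₁ × Fin n₂) (Fin n₁ × Fin n₂) K) *ᵥ v') ∘ e := by
      rw [Matrix.reindex_apply, Equiv.symm_symm, Matrix.submatrix_mulVec_equiv]
      congr 2
      funext p
      simp
    rw [h4] at h3
    have h5 := congrArg (fun z => ((P⁻¹ : GL ι K) : Matrix ι ι K) *ᵥ z) h3
    simp only [hPP, Matrix.mulVec_add, Matrix.mulVec_smul] at h5
    have h6 := congrArg (fun z : ι → K => z ∘ e.symm) h5
    funext p
    have h7 := congrFun h6 p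
    simp only [Function.comp_apply, Equiv.apply_symm_apply, Pi.add_apply, Pi.smul_apply] at h7
    simp only [Pi.add_apply, Pi.smul_apply, Function.comp_apply]
    exact h7
  -- the functional in Kronecker coordinates
  let ψ : (Fin n₁ × Fin n₂ → K) →ₗ[K] K :=
    φ ∘ₗ (Matrix.toLin' (P : Matrix ι ι K)) ∘ₗ (LinearMap.funLeft K K e)
  have hψv : ∀ v', ψ v' = φ ((P : Matrix ι ι K) *ᵥ (v' ∘ e)) := fun v' => rfl
  have hψ : ψ ≠ 0 := by
    intro h0
    apply hφ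
    apply LinearMap.ext
    intro y
    have h8 := hψv ((((P⁻¹ : GL ι K) : Matrix ι ι K) *ᵥ y) ∘ e.symm)
    rw [h0, LinearMap.zero_apply] at h8
    have h9 : ((((P⁻¹ : GL ι K) : Matrix ι ι K) *ᵥ y) ∘ e.symm) ∘ e = ((P⁻¹ : GL ι K) : Matrix ι ι K) *ᵥ y := by
      funext p
      simp
    rw [h9, hPP'] at h8
    rw [LinearMap.zero_apply]
    exact h8.symm
  have hx' : ((((P⁻¹ : GL ι K) : Matrix ι ι K) *ᵥ x) ∘ e.symm) ≠ 0 := by
    intro h0
    apply hx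
    have h10 : ((P⁻¹ : GL ι K) : Matrix ι ι K) *ᵥ x = 0 := by
      funext p
      have := congrFun h0 (e p)
      simpa using this
    rw [← hPP' x, h10, Matrix.mulVec_zero]
  refine Cfsg.Agent.Lib.Helper1.SpCorB4.kron_ne_transvection h1 h2 (A : Matrix (Fin n₁) (Fin n₁) K)
    (B : Matrix (Fin n₂) (Fin n₂) K) _ hx' ψ hψ ?_
  intro v
  rw [← hAB, hkact v, hψv]

variable {F : Type*} [Field F] [Fintype F] {n q : ℕ}

/-- **PU4** `SU_n(q)` lies in no tensor product subgroup -/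
theorem not_su_le_tensorProductSubgroup (hF : Fintype.card F = q ^ 2) (hn : 3 ≤ n) (hex : ¬ (n = 3 ∧ q = 2))
    (n₁ n₂ : ℕ) (e : Fin n ≃ Fin n₁ × Fin n₂) (P : GL (Fin n) F) (h1 : 2 ≤ n₁) (h2 : 2 ≤ n₂) :
    ¬ GU n F q ⊓ specialLinear (Fin n) F ≤ tensorProductSubgroup n₁ n₂ e P := by
  intro hle
  obtain ⟨g, x, φ, hg, hx, hφ, hact⟩ := exists_su_gtv (n := n) hF (by omega)
  exact gtv_not_mem_tensorProductSubgroup h1 h2 e P g x hx φ hφ hact (hle hg)

end Cfsg.Agent.Lib.Helper26.SUCorTv
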