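import Mathlib
import Cfsg.Prelude.Def_GeometricClasses
import Cfsg.Agent.Lib.Helper26.SUCorTv
import Cfsg.Agent.Lib.Helper13.SpCorP6
import Cfsg.Agent.H5.HubCorP4

/-!
# SU corollary family, piece PU7 (helper26): `SU_n(q)` lies in no tensor wreath subgroup (`k ≥ 3`, `t ≥ 2`)

Exact signature of notes/SUCorSkel_helper9.lean.txt (with `hk : 3 ≤ k`).  A generalised transvection `u ↦ u + φ u • x`
is not of the shape `wm σ gs` ("pure tensor followed by a permutation of the factors") when `k ≥ 3`, `t ≥ 2`.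
-/

set_option autoImplicit false

namespace Cfsg.Agent.Lib.Helper26.SUCorPU7

open Cfsg Cfsg.Geo Matrix
open Cfsg.H5.HubCor (wm wm_apply exists_wm_of_mem)
open scoped MatrixGroups Kronecker

section core

variable {K : Type*} [Field K] {k t : ℕ}

/-- the pure tensor with factors `v i` -/
def pv (v : Fin t → Fin k → K) : (Fin t → Fin k) → K := fun a => ∏ i, v i (a i)

theorem wm_pv (σ : Equiv.Perm (Fin t)) (gs : Fin t → Matrix (Fin k) (Fin k) K) (v : Fin t → Fin k → K) :
    wm k t σ gs *ᵥ pv v = pv (fun i => gs i *ᵥ v (σ i)) := by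
  funext x
  show ∑ y, wm k t σ gs x y * pv v y = ∏ i, ∑ b, gs i (x i) b * v (σ i) b
  rw [Fintype.prod_sum]
  apply Fintype.sum_equiv (Equiv.arrowCongr σ.symm (Equiv.refl (Fin k)))
  intro y
  have hz : ∀ i, (Equiv.arrowCongr σ.symm (Equiv.refl (Fin k)) y) i = y (σ i) := fun i => by
    simp [Equiv.arrowCongr]
  simp only [hz]
  rw [Finset.prod_mul_distrib, Equiv.prod_comp σ (fun j => v j (y j)), wm_apply]
  rfl

theorem pv_update (v : Fin t → Fin k → K) (m : Fin t) (z : Fin k → K) (a : Fin t → Fin k) :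
    pv (Function.update v m z) a = z (a m) * ∏ i ∈ Finset.univ.erase m, v i (a i) := by
  unfold pv
  rw [← Finset.mul_prod_erase Finset.univ _ (Finset.mem_univ m), Function.update_self]
  congr 1
  exact Finset.prod_congr rfl fun i hi => by rw [Function.update_of_ne (Finset.ne_of_mem_erase hi)]

theorem pv_at_update (u : Fin t → Fin k → K) (y : Fin t → Fin k) (i : Fin t) (s : Fin k) :
    pv u (Function.update y i s) = u i s * ∏ l ∈ Finset.univ.erase i, u l (y l) := by
  unfold pv
  rw [← Finset.mul_prod_erase Finset.univ _ (Finset.mem_univ i), Function.update_self]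
  congr 1
  exact Finset.prod_congr rfl fun l hl => by rw [Function.update_of_ne (Finset.ne_of_mem_erase hl)]

/-- `z ↦ pv (update v m z)` is linear -/
def slotLin (v : Fin t → Fin k → K) (m : Fin t) : (Fin k → K) →ₗ[K] ((Fin t → Fin k) → K) where
  toFun z := pv (Function.update v m z)
  map_add' z z' := by
    funext a
    rw [Pi.add_apply, pv_update, pv_update, pv_update, Pi.add_apply]
    ring
  map_smul' c z := by
    funext a
    rw [Pi.smul_apply, pv_update, pv_update, Pi.smul_apply, RingHom.id_apply, smul_eq_mul, smul_eq_mul]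
    ring

theorem slotLin_apply (v : Fin t → Fin k → K) (m : Fin t) (z : Fin k → K) :
    slotLin v m z = pv (Function.update v m z) := rfl

theorem pv_ne_zero (v : Fin t → Fin k → K) (hv : ∀ l, v l ≠ 0) : pv v ≠ 0 := by
  have h1 : ∀ l, ∃ s, v l s ≠ 0 := fun l => Function.ne_iff.mp (hv l)
  choose y hy using h1
  intro h
  have h2 := congrFun h y
  unfold pv at h2
  rw [Pi.zero_apply, Finset.prod_eq_zero_iff] at h2
  obtain ⟨l, _, hl⟩ := h2
  exact hy l hl

theorem pv_eq_zero (u : Fin t → Fin k → K) (i : Fin t) (hi : u i = 0) : pv u = 0 := by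
  funext a
  unfold pv
  rw [Pi.zero_apply]
  exact Finset.prod_eq_zero (Finset.mem_univ i) (by rw [hi]; rfl)

theorem pv_eq_imp (u v : Fin t → Fin k → K) (h : pv u = pv v) (hv : ∀ l, v l ≠ 0) (i : Fin t) :
    ∃ c : K, u i = c • v i := by
  have h1 : ∀ l, ∃ s, v l s ≠ 0 := fun l => Function.ne_iff.mp (hv l)
  choose y hy using h1
  set R : K := ∏ l ∈ Finset.univ.erase i, v l (y l) with hR
  set R' : K := ∏ l ∈ Finset.univ.erase i, u l (y l) with hR'
  have hR0 : R ≠ 0 := by
    rw [hR, Finset.prod_ne_zero_iff]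
    exact fun l _ => hy l
  have hs : ∀ s, u i s * R' = v i s * R := by
    intro s
    have := congrFun h (Function.update y i s)
    rwa [pv_at_update, pv_at_update] at this
  have hR'0 : R' ≠ 0 := by
    intro h0
    have := hs (y i)
    rw [h0, mul_zero] at this
    exact mul_ne_zero (hy i) hR0 this.symm
  refine ⟨R / R', ?_⟩
  funext s
  rw [Pi.smul_apply, smul_eq_mul]
  have := hs s
  field_simp
  linear_combination this

theorem pv_smul (c : Fin t → K) (v : Fin t → Fin k → K) : pv (fun i => c i • v i) = (∏ i, c i) • pv v := by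
  funext a
  unfold pv
  simp only [Pi.smul_apply, smul_eq_mul]
  rw [Finset.prod_mul_distrib]

theorem pv_single (y : Fin t → Fin k) : pv (fun i => (Pi.single (y i) (1 : K) : Fin k → K)) = Pi.single y 1 := by
  classical
  funext x
  unfold pv
  by_cases h : x = y
  · subst h
    simp
  · rw [Pi.single_eq_of_ne h]
    obtain ⟨i, hi⟩ := Function.ne_iff.mp h
    exact Finset.prod_eq_zero (Finset.mem_univ i) (Pi.single_eq_of_ne hi _)

/-- two "independent" vectors in the kernel of a functional on `K^k`, `k ≥ 3` -/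
theorem exists_two_ker (hk : 3 ≤ k) (l : (Fin k → K) →ₗ[K] K) :
    ∃ a a' : Fin k → K, l a = 0 ∧ l a' = 0 ∧ a ≠ 0 ∧ a' ≠ 0 ∧ ∀ c c' : K, c • a = c' • a' → c = 0 ∧ c' = 0 := by
  have h1 : Module.finrank K (LinearMap.range l) ≤ 1 := by
    have := Submodule.finrank_le (LinearMap.range l)
    rwa [Module.finrank_self] at this
  have h2 := LinearMap.finrank_range_add_finrank_ker l
  rw [Module.finrank_fin_fun] at h2
  have h3 : 1 < Module.finrank K (LinearMap.ker l) := by omega
  obtain ⟨a, a', hlin⟩ : ∃ a a' : LinearMap.ker l, LinearIndependent K ![a, a'] := by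
    have h4 : ∃ a : LinearMap.ker l, a ≠ 0 := by
      by_contra hno
      push Not at hno
      have hsub : Subsingleton (LinearMap.ker l) := ⟨fun p q => by rw [hno p, hno q]⟩
      have := Module.finrank_zero_of_subsingleton (R := K) (M := LinearMap.ker l)
      omega
    obtain ⟨a, ha⟩ := h4
    obtain ⟨a', ha'⟩ := exists_linearIndependent_pair_of_one_lt_finrank h3 ha
    exact ⟨a, a', ha'⟩
  rw [LinearIndependent.pair_iff] at hlin
  have key : ∀ c c' : K, c • (a : Fin k → K) = c' • (a' : Fin k → K) → c = 0 ∧ c' = 0 := by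
    intro c c' h
    have h5 : c • a + (-c') • a' = 0 := by
      apply Subtype.ext
      simp only [Submodule.coe_add, Submodule.coe_smul, Submodule.coe_zero]
      rw [h, neg_smul, add_neg_cancel]
    obtain ⟨h6, h7⟩ := hlin c (-c') h5
    exact ⟨h6, neg_eq_zero.mp h7⟩
  refine ⟨a.1, a'.1, LinearMap.mem_ker.mp a.2, LinearMap.mem_ker.mp a'.2, ?_, ?_, key⟩
  · intro h0
    have := key 1 0 (by rw [h0, smul_zero, zero_smul])
    exact one_ne_zero this.1
  · intro h0
    have := key 0 1 (by rw [h0, smul_zero, zero_smul])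
    exact one_ne_zero this.2

/-- a matrix all of whose non-zero vectors are eigenvectors is scalar -/
theorem scalar_of_eigen (hk : 1 ≤ k) (A : Matrix (Fin k) (Fin k) K)
    (h : ∀ a : Fin k → K, a ≠ 0 → ∃ c : K, A *ᵥ a = c • a) : ∃ lam : K, ∀ a : Fin k → K, A *ᵥ a = lam • a := by
  classical
  have hsne : ∀ s : Fin k, (Pi.single s (1 : K) : Fin k → K) ≠ 0 := by
    intro s h0
    have := congrFun h0 s
    simp at this
  have h1 : ∀ s : Fin k, ∃ c : K, A *ᵥ (Pi.single s 1) = c • (Pi.single s 1 : Fin k → K) := fun s => h _ (hsne s)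
  choose c hc using h1
  have hceq : ∀ s s' : Fin k, c s = c s' := by
    intro s s'
    by_cases hss : s = s'
    · rw [hss]
    · have hne : (Pi.single s (1 : K) + Pi.single s' 1 : Fin k → K) ≠ 0 := by
        intro h0
        have := congrFun h0 s
        simp [Pi.single_eq_of_ne hss] at this
      obtain ⟨d, hd⟩ := h _ hne
      rw [Matrix.mulVec_add, hc, hc] at hd
      have e1 := congrFun hd s
      have e2 := congrFun hd s'
      simp [Pi.single_eq_of_ne hss, Pi.single_eq_of_ne (Ne.symm hss)] at e1 e2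
      rw [e1, e2]
  refine ⟨c ⟨0, by omega⟩, fun a => ?_⟩
  have hA : A = c ⟨0, by omega⟩ • (1 : Matrix (Fin k) (Fin k) K) := by
    ext i j
    have := congrFun (hc j) i
    rw [Matrix.mulVec_single_one] at this
    rw [Matrix.smul_apply, Matrix.one_apply, smul_eq_mul]
    simp only [Matrix.col_apply, Pi.smul_apply, smul_eq_mul, Pi.single_apply] at this
    rw [this, hceq j ⟨0, by omega⟩]
  rw [hA, Matrix.smul_mulVec, Matrix.one_mulVec]

/-- **core**: a generalised transvection is not a `wm σ gs` (`k ≥ 3`, `t ≥ 2`) -/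
theorem wm_ne_gtv (hk : 3 ≤ k) (ht : 2 ≤ t) (σ : Equiv.Perm (Fin t)) (gs : Fin t → Matrix (Fin k) (Fin k) K)
    (x : (Fin t → Fin k) → K) (hx : x ≠ 0) (ψ : ((Fin t → Fin k) → K) →ₗ[K] K) (hψ : ψ ≠ 0)
    (h : ∀ w, wm k t σ gs *ᵥ w = w + ψ w • x) : False := by
  classical
  set e0 : Fin k → K := Pi.single ⟨0, by omega⟩ 1 with he0
  have he0ne : e0 ≠ 0 := by
    intro h0
    have := congrFun h0 ⟨0, by omega⟩
    simp [he0] at this
  -- pure tensors in the kernel of `ψ` are fixed
  have hfix : ∀ V : Fin t → Fin k → K, ψ (pv V) = 0 → pv (fun l => gs l *ᵥ V (σ l)) = pv V := by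
    intro V hV
    rw [← wm_pv, h, hV, zero_smul, add_zero]
  by_cases hσ : ∃ i, σ i ≠ i
  · -- a factor is moved
    obtain ⟨i, hi⟩ := hσ
    set V0 : Fin t → Fin k → K := fun _ => e0 with hV0
    obtain ⟨a, a', ha, ha', ha0, ha'0, hind⟩ := exists_two_ker hk (ψ ∘ₗ slotLin V0 i)
    have hVne : ∀ z : Fin k → K, z ≠ 0 → ∀ l, Function.update V0 i z l ≠ 0 := by
      intro z hz l
      by_cases hl : l = i
      · rw [hl, Function.update_self]; exact hz
      · rw [Function.update_of_ne hl]; exact he0ne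
    have hslot : ∀ z : Fin k → K, z ≠ 0 → (ψ ∘ₗ slotLin V0 i) z = 0 → ∃ c : K, gs i *ᵥ e0 = c • z := by
      intro z hz hker
      have h1 := hfix (Function.update V0 i z) hker
      obtain ⟨c, hc⟩ := pv_eq_imp _ _ h1 (hVne z hz) i
      refine ⟨c, ?_⟩
      simp only [Function.update_self, Function.update_of_ne hi] at hc
      exact hc
    obtain ⟨c, hc⟩ := hslot a ha0 ha
    obtain ⟨c', hc'⟩ := hslot a' ha'0 ha'
    have hcc := hind c c' (by rw [← hc, ← hc'])
    have hzero : gs i *ᵥ e0 = 0 := by rw [hc, hcc.1, zero_smul]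
    have h1 := hfix (Function.update V0 i a) ha
    have h2 : pv (fun l => gs l *ᵥ Function.update V0 i a (σ l)) = 0 := by
      apply pv_eq_zero _ i
      simp only [Function.update_of_ne hi]
      exact hzero
    rw [h2] at h1
    exact pv_ne_zero _ (hVne a ha0) h1.symm
  · -- no factor is moved
    push Not at hσ
    have heig : ∀ i, ∃ lam : K, ∀ a : Fin k → K, gs i *ᵥ a = lam • a := by
      intro i
      apply scalar_of_eigen (by omega)
      intro a ha
      obtain ⟨m, hm⟩ : ∃ m : Fin t, m ≠ i := by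
        by_cases h0 : i = ⟨0, by omega⟩
        · refine ⟨⟨1, by omega⟩, ?_⟩
          rw [h0]
          intro h'
          simpa using congrArg Fin.val h'
        · exact ⟨⟨0, by omega⟩, fun h' => h0 h'.symm⟩
      set V0 : Fin t → Fin k → K := Function.update (fun _ => e0) i a with hV0
      obtain ⟨z, hz0, hz⟩ := Cfsg.Agent.Lib.Helper1.SpCorB4.exists_ker_ne_zero (by omega : 2 ≤ k) (ψ ∘ₗ slotLin V0 m)
      have hVne : ∀ l, Function.update V0 m z l ≠ 0 := by
        intro l
        by_cases hl : l = m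
        · rw [hl, Function.update_self]; exact hz0
        · rw [Function.update_of_ne hl, hV0]
          by_cases hli : l = i
          · rw [hli, Function.update_self]; exact ha
          · rw [Function.update_of_ne hli]; exact he0ne
      have h1 := hfix (Function.update V0 m z) hz
      obtain ⟨c, hc⟩ := pv_eq_imp _ _ h1 hVne i
      refine ⟨c, ?_⟩
      simp only [hσ i, Function.update_of_ne hm.symm, hV0, Function.update_self] at hc
      exact hc
    choose lam hlam using heig
    set Lam : K := ∏ i, lam i with hLam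
    have hsingle : ∀ y : Fin t → Fin k, (Lam - 1) • (Pi.single y (1 : K) : (Fin t → Fin k) → K) = ψ (Pi.single y 1) • x := by
      intro y
      have h1 := h (Pi.single y 1)
      rw [← pv_single y, wm_pv] at h1
      have h2 : (fun i => gs i *ᵥ (Pi.single (y (σ i)) (1 : K) : Fin k → K)) =
          fun i => lam i • (Pi.single (y i) (1 : K) : Fin k → K) := by
        funext i
        rw [hlam, hσ i]
      rw [h2, pv_smul, pv_single] at h1
      rw [sub_smul, one_smul, h1, add_sub_cancel_left]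
    by_cases hL : Lam = 1
    · apply hψ
      apply (Pi.basisFun K (Fin t → Fin k)).ext
      intro y
      rw [Pi.basisFun_apply, LinearMap.zero_apply]
      have h1 := hsingle y
      rw [hL, sub_self, zero_smul] at h1
      rcases smul_eq_zero.mp h1.symm with h2 | h2
      · exact h2
      · exact absurd h2 hx
    · have hL' : Lam - 1 ≠ 0 := sub_ne_zero.mpr hL
      set y0 : Fin t → Fin k := fun _ => ⟨0, by omega⟩ with hy0
      set y1 : Fin t → Fin k := fun _ => ⟨1, by omega⟩ with hy1
      have hy01 : y0 ≠ y1 := by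
        intro h'
        have := congrFun h' ⟨0, by omega⟩
        simp [hy0, hy1] at this
      have e1 := congrFun (hsingle y0) y1
      have e2 := congrFun (hsingle y1) y1
      simp only [Pi.smul_apply, smul_eq_mul, Pi.single_eq_of_ne hy01.symm, mul_zero, Pi.single_eq_same, mul_one] at e1 e2
      have hx1 : x y1 ≠ 0 := by
        intro h0
        rw [h0, mul_zero] at e2
        exact hL' e2
      have hψ0 : ψ (Pi.single y0 1) = 0 := by
        rcases mul_eq_zero.mp e1.symm with h0 | h0
        · exact h0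
        · exact absurd h0 hx1
      have e3 := congrFun (hsingle y0) y0
      simp only [Pi.smul_apply, smul_eq_mul, Pi.single_eq_same, mul_one, hψ0, zero_mul] at e3
      exact hL' e3

end core

/-- a generalised transvection lies in no tensor wreath subgroup with `k ≥ 3`, `t ≥ 2` (index-generic) -/
theorem gtv_not_mem_tensorWreathSubgroup {K : Type*} [Field K] {ι : Type} [Fintype ι] [DecidableEq ι]
    {k t : ℕ} (hk : 3 ≤ k) (ht : 2 ≤ t)
    (e : ι ≃ (Fin t → Fin k)) (P : GL ι K) (g : GL ι K) (x : ι → K) (hx : x ≠ 0) (φ : (ι → K) →ₗ[K] K) (hφ : φ ≠ 0)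
    (hact : ∀ u, (g : Matrix ι ι K) *ᵥ u = u + φ u • x) : g ∉ tensorWreathSubgroup k t e P := by
  intro hg
  obtain ⟨σ, gs, hwm⟩ := Cfsg.Agent.Lib.Helper13.SpCorP6.exists_of_mem e P g hg
  have hPP : ∀ v : ι → K, ((P⁻¹ : GL ι K) : Matrix ι ι K) *ᵥ ((P : Matrix ι ι K) *ᵥ v) = v := by
    intro v
    rw [Matrix.mulVec_mulVec, ← Units.val_mul, inv_mul_cancel, Units.val_one, Matrix.one_mulVec]
  have hPP' : ∀ v : ι → K, (P : Matrix ι ι K) *ᵥ (((P⁻¹ : GL ι K) : Matrix ι ι K) *ᵥ v) = v := by
    intro v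
    rw [Matrix.mulVec_mulVec, ← Units.val_mul, mul_inv_cancel, Units.val_one, Matrix.one_mulVec]
  let ψ : ((Fin t → Fin k) → K) →ₗ[K] K :=
    φ ∘ₗ (Matrix.toLin' (P : Matrix ι ι K)) ∘ₗ (LinearMap.funLeft K K e)
  have hψv : ∀ w, ψ w = φ ((P : Matrix ι ι K) *ᵥ (w ∘ e)) := fun w => rfl
  have hψ : ψ ≠ 0 := by
    intro h0
    apply hφ
    apply LinearMap.ext
    intro y
    have h8 := hψv ((((P⁻¹ : GL ι K) : Matrix ι ι K) *ᵥ y) ∘ e.symm)
    rw [h0, LinearMap.zero_apply] at h8
    have h9 : ((((P⁻¹ : GL ι K) : Matrix ι ι K) *ᵥ y) ∘ e.symm) ∘ e = ((P⁻¹ : GL ι K) : Matrix ι ι K) *ᵥ y := by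
      funext p
      simp
    rw [h9, hPP'] at h8
    rw [LinearMap.zero_apply]
    exact h8.symm
  have hx' : ((((P⁻¹ : GL ι K) : Matrix ι ι K) *ᵥ x) ∘ e.symm) ≠ 0 := by
    intro h0
    apply hx
    have h10 : ((P⁻¹ : GL ι K) : Matrix ι ι K) *ᵥ x = 0 := by
      funext p
      have := congrFun h0 (e p)
      simpa using this
    rw [← hPP' x, h10, Matrix.mulVec_zero]
  refine wm_ne_gtv hk ht σ gs _ hx' ψ hψ ?_
  intro w
  have h3 := hwm w
  rw [hact] at h3
  have h5 := congrArg (fun z => ((P⁻¹ : GL ι K) : Matrix ι ι K) *ᵥ z) h3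
  simp only [hPP, Matrix.mulVec_add, Matrix.mulVec_smul] at h5
  funext p
  have h7 := congrFun h5 (e.symm p)
  simp only [Function.comp_apply, Equiv.apply_symm_apply, Pi.add_apply, Pi.smul_apply] at h7
  simp only [Pi.add_apply, Pi.smul_apply, Function.comp_apply, hψv]
  exact h7.symm

variable {F : Type*} [Field F] [Fintype F] {n q : ℕ}

/-- **PU7** `SU_n(q)` lies in no tensor wreath subgroup -/
theorem not_su_le_tensorWreathSubgroup (hF : Fintype.card F = q ^ 2) (hn : 3 ≤ n) (hex : ¬ (n = 3 ∧ q = 2))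
    (k t : ℕ) (e : Fin n ≃ (Fin t → Fin k)) (P : GL (Fin n) F) (hk : 3 ≤ k) (ht : 2 ≤ t) :
    ¬ GU n F q ⊓ specialLinear (Fin n) F ≤ tensorWreathSubgroup k t e P := by
  intro hle
  obtain ⟨g, x, φ, hg, hx, hφ, hact⟩ := Cfsg.Agent.Lib.Helper26.SUCorTv.exists_su_gtv (n := n) hF (by omega)
  exact gtv_not_mem_tensorWreathSubgroup hk ht e P g x hx φ hφ hact (hle hg)

end Cfsg.Agent.Lib.Helper26.SUCorPU7
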