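import Mathlib

set_option autoImplicit false

/-!
Generic lemmas for the determination of the subgroups of index 253 of `M23` (helper26):
conjugating a `p`-subgroup into a subgroup of index prime to `p`, a bound for the order of a set
stabilizer by the order of the pointwise stabilizer, and a Boolean counting lemma.
-/

namespace Cfsg.Agent.H26.M23Idx

open MulAction
open scoped Pointwise

/-- a `p`-subgroup is conjugate into any subgroup of index prime to `p` -/
theorem exists_conj_le_of_isPGroup {G : Type*} [Group G] [Finite G] {p : ℕ} [Fact p.Prime]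
    (T K : Subgroup G) (hT : IsPGroup p T) (hK : ¬ p ∣ K.index) :
    ∃ g : G, ∀ t ∈ T, g⁻¹ * t * g ∈ K := by
  obtain ⟨a, ha⟩ := hT.nonempty_fixed_point_of_prime_not_dvd_card (G ⧸ K) (by
    rwa [← Subgroup.index_eq_card])
  induction a using QuotientGroup.induction_on with | _ g => ?_
  refine ⟨g, fun m hm => ?_⟩
  have h1 := ha ⟨m, hm⟩
  have h2 : ((m * g : G) : G ⧸ K) = (g : G ⧸ K) := h1
  rw [QuotientGroup.eq] at h2
  have h3 := K.inv_mem h2
  have h4 : ((m * g)⁻¹ * g)⁻¹ = g⁻¹ * m * g := by group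
  rwa [h4] at h3

/-- transport of a subgroup of index prime to `p` of a point stabilizer to a standard position in
which it contains a given `p`-subgroup of the stabilizer of a base point -/
theorem transport_abstract {G α β : Type*} [Group G] [Finite G] [MulAction G α] [MulAction G β]
    {p : ℕ} [Fact p.Prime] (x x0 : α) (g0 : G) (hg0 : g0 • x0 = x)
    (H : Subgroup ↥(stabilizer G x)) (hH : ¬ p ∣ H.index)
    (T0 : Subgroup G) (hT0 : IsPGroup p T0) (hT0x : T0 ≤ stabilizer G x0) :
    ∃ (m : G) (K' : Subgroup G), m • x0 = x ∧ T0 ≤ K' ∧ K' ≤ stabilizer G x0 ∧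
      Nat.card K' = Nat.card H ∧
      ∀ s : β, K' = stabilizer G x0 ⊓ stabilizer G s →
        ∀ h : ↥(stabilizer G x), h ∈ H ↔ (h : G) • (m • s) = m • s := by
  have hT1p : IsPGroup p ↥((T0.map (MulAut.conj g0).toMonoidHom).subgroupOf (stabilizer G x)) :=
    (hT0.map _).comap_subtype
  obtain ⟨n, hn⟩ := exists_conj_le_of_isPGroup _ H hT1p hH
  have hnx : (n : G) • x = x := n.2
  have hmx : ((n : G)⁻¹ * g0) • x0 = x := by rw [mul_smul, hg0, inv_smul_eq_iff, hnx]
  generalize hm : (n : G)⁻¹ * g0 = m at hmx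
  have hKmem : ∀ y : G, y ∈ H.map (stabilizer G x).subtype ↔
      ∃ hy : y ∈ stabilizer G x, (⟨y, hy⟩ : ↥(stabilizer G x)) ∈ H := by
    intro y
    rw [Subgroup.mem_map]
    constructor
    · rintro ⟨h, hh, rfl⟩
      exact ⟨h.2, hh⟩
    · rintro ⟨hy, hh⟩
      exact ⟨⟨y, hy⟩, hh, rfl⟩
  have hcardK : Nat.card ↥(H.map (stabilizer G x).subtype) = Nat.card H :=
    Subgroup.card_map_of_injective (Subgroup.subtype_injective _)
  have hK'mem : ∀ k, k ∈ (H.map (stabilizer G x).subtype).comap (MulAut.conj m).toMonoidHom ↔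
      m * k * m⁻¹ ∈ H.map (stabilizer G x).subtype := fun k => Iff.rfl
  refine ⟨m, (H.map (stabilizer G x).subtype).comap (MulAut.conj m).toMonoidHom, hmx, ?_, ?_, ?_,
    ?_⟩
  · intro t ht
    have ht5 : t • x0 = x0 := hT0x ht
    have hc : g0 * t * g0⁻¹ ∈ T0.map (MulAut.conj g0).toMonoidHom :=
      Subgroup.mem_map.mpr ⟨t, ht, rfl⟩
    have hM : g0 * t * g0⁻¹ ∈ stabilizer G x := by
      rw [mem_stabilizer_iff, ← hg0, mul_smul, mul_smul, inv_smul_smul, ht5]
    have h1 := hn ⟨_, hM⟩ (Subgroup.mem_subgroupOf.mpr hc)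
    rw [hK'mem]
    refine Subgroup.mem_map.mpr ⟨_, h1, ?_⟩
    simp only [Subgroup.coe_subtype, Subgroup.coe_mul, InvMemClass.coe_inv]
    rw [← hm]
    group
  · intro k hk
    obtain ⟨hy, -⟩ := (hKmem _).mp ((hK'mem k).mp hk)
    have h1 : (m * k * m⁻¹) • x = x := hy
    rw [← hmx, mul_smul, mul_smul, inv_smul_smul] at h1
    exact mem_stabilizer_iff.mpr (smul_left_cancel m h1)
  · rw [← hcardK]
    apply Nat.card_congr
    refine ⟨fun k => ⟨m * k.1 * m⁻¹, (hK'mem k.1).mp k.2⟩,
      fun y => ⟨m⁻¹ * y.1 * m, (hK'mem _).mpr (by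
        have e : m * (m⁻¹ * y.1 * m) * m⁻¹ = y.1 := by group
        rw [e]; exact y.2)⟩, ?_, ?_⟩
    · intro k
      apply Subtype.ext
      show m⁻¹ * (m * k.1 * m⁻¹) * m = k.1
      group
    · intro y
      apply Subtype.ext
      show m * (m⁻¹ * y.1 * m) * m⁻¹ = y.1
      group
  · intro s hK' h
    have h1 : h ∈ H ↔
        m⁻¹ * (h : G) * m ∈ (H.map (stabilizer G x).subtype).comap (MulAut.conj m).toMonoidHom := by
      rw [hK'mem, hKmem]
      have e : m * (m⁻¹ * (h : G) * m) * m⁻¹ = (h : G) := by group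
      rw [e]
      constructor
      · intro hh
        exact ⟨h.2, hh⟩
      · rintro ⟨_, hh⟩
        exact hh
    have hhx : (h : G) • x = x := h.2
    rw [h1, hK', Subgroup.mem_inf, mem_stabilizer_iff, mem_stabilizer_iff]
    have e1 : (m⁻¹ * (h : G) * m) • x0 = x0 := by
      rw [mul_smul, mul_smul, hmx, hhx, inv_smul_eq_iff, hmx]
    have e2 : (m⁻¹ * (h : G) * m) • s = s ↔ (h : G) • (m • s) = m • s := by
      rw [mul_smul, mul_smul, inv_smul_eq_iff]
    rw [e2]
    exact ⟨fun hh => hh.2, fun hh => ⟨e1, hh⟩⟩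

/-- the order of a subgroup stabilizing a finite set `S` is at most `|S|!` times the order of any
subgroup containing its elements fixing `S` pointwise -/
theorem card_le_factorial_mul {G α : Type*} [Group G] [Finite G] [MulAction G α] [DecidableEq α]
    (S : Finset α) (D F : Subgroup G) (hD : ∀ d ∈ D, ∀ p, d • p ∈ S ↔ p ∈ S)
    (hF : ∀ d ∈ D, (∀ p ∈ S, d • p = p) → d ∈ F) :
    Nat.card D ≤ S.card.factorial * Nat.card F := by
  classical
  let φ : D →* Equiv.Perm {p // p ∈ S} :=
    { toFun := fun d => (MulAction.toPerm (d : G) : Equiv.Perm α).subtypePerm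
        (fun p => hD d.1 d.2 p)
      map_one' := by
        ext p
        simp
      map_mul' := fun a b => by
        ext p
        show ((a * b : D) : G) • (p : α) = (a : G) • ((b : G) • (p : α))
        rw [Subgroup.coe_mul, mul_smul] }
  have hker : Nat.card φ.ker ≤ Nat.card F := by
    have hmem : ∀ d : φ.ker, (d.1 : G) ∈ F := by
      intro d
      apply hF _ d.1.2
      intro p hp
      have h1 : φ d.1 = 1 := d.2
      have h2 := congrArg (fun σ : Equiv.Perm {p // p ∈ S} => ((σ ⟨p, hp⟩ : {p // p ∈ S}) : α)) h1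
      exact h2
    apply Nat.card_le_card_of_injective (fun d : φ.ker => (⟨(d.1 : G), hmem d⟩ : F))
    intro a b hab
    have : ((a.1 : D) : G) = ((b.1 : D) : G) := congrArg (fun z : F => (z : G)) hab
    exact Subtype.ext (Subtype.ext this)
  have hrange : Nat.card φ.range ≤ S.card.factorial := by
    calc Nat.card φ.range ≤ Nat.card (Equiv.Perm {p // p ∈ S}) :=
          Nat.card_le_card_of_injective _ Subtype.val_injective
      _ = S.card.factorial := by
          rw [Nat.card_eq_fintype_card, Fintype.card_perm, Fintype.card_coe]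
  have h1 : Nat.card φ.ker * φ.ker.index = Nat.card D := Subgroup.card_mul_index _
  rw [Subgroup.index_ker] at h1
  calc Nat.card D = Nat.card φ.ker * Nat.card φ.range := h1.symm
    _ ≤ Nat.card F * S.card.factorial := Nat.mul_le_mul hker hrange
    _ = S.card.factorial * Nat.card F := Nat.mul_comm _ _

/-- selection of one of five Boolean values according to the block of the point `a` -/
def sel (v5 v19 v17 v8 v0 : Bool) (a : ℕ) : Bool :=
  if a = 5 then v5 else if a = 19 then v19 else if a = 17 ∨ a = 21 then v17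
  else if a = 8 ∨ a = 10 ∨ a = 12 ∨ a = 20 then v8 else v0

/-- the block representative of the point `a` -/
def rep (a : ℕ) : ℕ :=
  if a = 5 then 5 else if a = 19 then 19 else if a = 17 ∨ a = 21 then 17
  else if a = 8 ∨ a = 10 ∨ a = 12 ∨ a = 20 then 8 else 0

theorem sel_count : ∀ v5 v19 v17 v8 v0 : Bool,
    ((List.range 24).filter (sel v5 v19 v17 v8 v0)).length =
      (if v5 then 1 else 0) + (if v19 then 1 else 0) + (if v17 then 2 else 0) +
      (if v8 then 4 else 0) + (if v0 then 16 else 0) := by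
  decide

theorem eq_sel_of_rep (f : ℕ → Bool) (h : ∀ a, a < 24 → f a = f (rep a)) (a : ℕ) (ha : a < 24) :
    f a = sel (f 5) (f 19) (f 17) (f 8) (f 0) a := by
  rw [h a ha]
  unfold rep sel
  split_ifs <;> rfl

end Cfsg.Agent.H26.M23Idx
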