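import Mathlib
import Cfsg.Agent.Lib.Helper13.TensSODefs
import Cfsg.Agent.Lib.Helper20.S5666ExitDefs
import Cfsg.Agent.Lib.Helper13.S5666FOAPI

/-!
# S5666 exit (a ≥ 4), piece T3-CONJ (helper26; sub-architect helper20): the conjugation formula `conj_zU`
-/

set_option autoImplicit false
set_option linter.unusedSectionVars false
set_option linter.unusedVariables false

namespace Cfsg.Agent.Lib.Helper26.S5666ET3CONJ

open Matrix Module
open Cfsg.Agent.Lib.Helper16.Tens Cfsg.Agent.Lib.Helper10.TensFund Cfsg.Agent.Lib.Helper13.TensSO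
open Cfsg.Agent.Lib.Helper28.TensU (ctrL ctrL_apply ctrL_pur hypL mem_hypL_iff ptL mem_ptL_iff pur_mem_ptL rootGLL
  rootGLL_val act_rootGLL rootGLL_mem_SL rootGLL_mem_kron)
open Cfsg.Agent.Lib.Helper3.SpT (bf SympG E E_mulVec E_mul_E uni uni_val uni_inv_val bf_add_left bf_add_right
  bf_sub_left bf_sub_right)
open Cfsg.Agent.Lib.Helper20.S5666Exit
open Cfsg.Agent.Lib.Helper13.S5666API (bf_kron_pur_right')
open scoped Kronecker

variable {F : Type*} [Field F] [Fintype F] {a b : ℕ}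
variable {J1 : Matrix (Fin a) (Fin a) F} {J2 : Matrix (Fin b) (Fin b) F}

local notation "V" => (Fin a × Fin b → F)

/-- T3-Z (h): THE CONJUGATION FORMULA: `h (u₀ ⊗ w) = u₀' ⊗ g w`, `g'` the adjoint of `g` -/
theorem conj_zU (hS : SetupSO J1 J2) (h : GL (Fin a × Fin b) F) (hh : h ∈ IsoG (J1 ⊗ₖ J2)) (u₀ u₀' : Fin a → F)
    (g g' : Matrix (Fin b) (Fin b) F) (hact : ∀ w, act h (pur u₀ w) = pur u₀' (g *ᵥ w))
    (hadj : ∀ w w', bf J2 (g *ᵥ w) w' = bf J2 w (g' *ᵥ w')) (σ : Matrix (Fin b) (Fin b) F) :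
    h * zU J1 hS.h1 u₀ σ * h⁻¹ = zU J1 hS.h1 u₀' (g * σ * g') := by
  apply Cfsg.Agent.Lib.Helper13.S5666T4.gl_ext
  intro v
  -- the key identity
  have key : ctrL (J1 *ᵥ u₀) (act h⁻¹ v) = g' *ᵥ ctrL (J1 *ᵥ u₀') v := by
    have hsub : ctrL (J1 *ᵥ u₀) (act h⁻¹ v) - g' *ᵥ ctrL (J1 *ᵥ u₀') v = 0 := by
      apply hS.h2.nondeg
      intro w
      rw [bf_sub_left, ← bf_kron_pur_right']
      have e1 : bf (J1 ⊗ₖ J2) (act h⁻¹ v) (pur u₀ w) = bf (J1 ⊗ₖ J2) v (pur u₀' (g *ᵥ w)) := by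
        have := hh (act h⁻¹ v) (pur u₀ w)
        rw [← act_apply, ← act_apply, act_act_inv, hact] at this
        exact this.symm
      rw [e1, bf_kron_pur_right', hS.h2.symm _ (g *ᵥ w), hadj, hS.h2.symm, sub_self]
    exact sub_eq_zero.mp hsub
  rw [act_mul, act_mul, act_zU, act_zU, map_add, act_act_inv, hact, key, ← Matrix.mulVec_mulVec,
    ← Matrix.mulVec_mulVec]

end Cfsg.Agent.Lib.Helper26.S5666ET3CONJ
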