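import Mathlib
import Cfsg.Agent.Lib.Helper13.TensSODefs
import Cfsg.Agent.Lib.Helper20.S5666ExitDefs
import Cfsg.Agent.Lib.Helper13.S5666FOAPI
import Cfsg.Agent.Lib.Helper26.S5666EC

/-!
# S5666 exit (a ≥ 4), piece E-CLS1 (helper26; sub-architect helper20): `cls_conj_rU`, `cls_conj_refl`
-/

set_option autoImplicit false
set_option linter.unusedSectionVars false
set_option linter.unusedVariables false

namespace Cfsg.Agent.Lib.Helper26.S5666ECLS1

open Matrix Module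
open Cfsg.Agent.Lib.Helper16.Tens Cfsg.Agent.Lib.Helper10.TensFund Cfsg.Agent.Lib.Helper13.TensSO
open Cfsg.Agent.Lib.Helper28.TensU (ctrL ctrL_apply ctrL_pur hypL mem_hypL_iff ptL mem_ptL_iff pur_mem_ptL rootGLL
  rootGLL_val act_rootGLL rootGLL_mem_SL rootGLL_mem_kron)
open Cfsg.Agent.Lib.Helper3.SpT (bf SympG E E_mulVec E_mul_E uni uni_val uni_inv_val bf_add_left bf_add_right
  bf_sub_left bf_sub_right bf_smul_left bf_smul_right bf_kron_pur)
open Cfsg.Agent.Lib.Helper23.S5637T3b (kronGL kronGL_val kronGL_mem_kron)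
open Cfsg.Agent.Lib.Helper20.S5666Exit
open Cfsg.Agent.Lib.Helper13.S5666API (rU_mem_iso rU_mul rU_zero)
open Cfsg.Agent.Lib.Helper26.S5666EC
open scoped Kronecker

variable {F : Type*} [Field F] [Fintype F] {a b : ℕ}
variable {J1 : Matrix (Fin a) (Fin a) F} {J2 : Matrix (Fin b) (Fin b) F}

local notation "V" => (Fin a × Fin b → F)

omit [Fintype F] in
/-- an element fixing `P` pointwise stabilises `P` -/
theorem img_eq_of_fix (r : GL (Fin a × Fin b) F) (P : Submodule F V) (h : ∀ v ∈ P, act r v = v) :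
    img r P = P := by
  ext v
  rw [mem_img_iff]
  constructor
  · intro hv
    have := h _ hv
    rw [act_act_inv] at this
    rw [this]; exact hv
  · intro hv
    have := h v hv
    have h2 : act r⁻¹ v = v := by
      calc act r⁻¹ v = act r⁻¹ (act r v) := by rw [this]
        _ = v := act_inv_act r v
    rw [h2]; exact hv

omit [Fintype F] in
theorem act_rU_pur (hJ1 : SympG J1) (x : Fin a → F) (c : F) (y : Fin a → F) (w : Fin b → F) :
    act (rU (b := b) J1 hJ1 x c) (pur y w) = pur (y + (c * bf J1 y x) • x) w := by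
  rw [act_rU, ctrL_J_pur, pur_smul_right, ← smul_assoc, smul_eq_mul, pur_add_left, pur_smul_left]

omit [Fintype F] in
theorem rU_inv (hJ1 : SympG J1) (x : Fin a → F) (c : F) :
    (rU (b := b) J1 hJ1 x c)⁻¹ = rU J1 hJ1 x (-c) := by
  rw [inv_eq_iff_mul_eq_one, rU_mul, add_neg_cancel, rU_zero]

/-- E-CLS (5): conjugation by `t_{x,c} ⊗ 1`, `x ⟂ u₀` -/
theorem cls_conj_rU (hS : SetupSO J1 J2) {u₀ : Fin a → F} {g : GL (Fin a × Fin b) F}
    {D : (Fin a → F) → Matrix (Fin b) (Fin b) F} (h : Cls J1 J2 u₀ g D) (x : Fin a → F) (c : F)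
    (hx : bf J1 x u₀ = 0) :
    Cls J1 J2 u₀ (rU J1 hS.h1 x c * g * (rU J1 hS.h1 x c)⁻¹) (fun y => D (y - (c * bf J1 y x) • x)) := by
  have hrI : rU (b := b) J1 hS.h1 x c ∈ IsoG (J1 ⊗ₖ J2) := rU_mem_iso hS.h1 x c
  have hux : bf J1 u₀ x = 0 := hS.h1.eq_zero_comm hx
  have hfix : ∀ v ∈ ptL (b := b) u₀, act (rU (b := b) J1 hS.h1 x c) v = v := by
    intro v hv
    obtain ⟨p, rfl⟩ := (mem_ptL_iff u₀ v).1 hv
    rw [act_rU_pur, hux, mul_zero, zero_smul, add_zero]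
  have hstab := img_eq_of_fix _ _ hfix
  refine ⟨?_, conj_inRadL hS _ hrI u₀ hstab g h.rad, ?_⟩
  · exact (IsoG (J1 ⊗ₖ J2)).mul_mem ((IsoG (J1 ⊗ₖ J2)).mul_mem hrI h.iso) ((IsoG (J1 ⊗ₖ J2)).inv_mem hrI)
  · intro y hy w
    have hy' : bf J1 (y - (c * bf J1 y x) • x) u₀ = 0 := by
      rw [bf_sub_left, bf_smul_left, hy, hx, mul_zero, sub_zero]
    have e1 : act (rU (b := b) J1 hS.h1 x c)⁻¹ (pur y w) = pur (y - (c * bf J1 y x) • x) w := by
      rw [rU_inv, act_rU_pur]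
      congr 1
      rw [neg_mul, neg_smul, sub_eq_add_neg]
    have e2 : act (rU (b := b) J1 hS.h1 x c) (pur (y - (c * bf J1 y x) • x) w) = pur y w := by
      rw [← e1, act_act_inv]
    rw [act_mul, act_mul, e1, h.eq _ hy' w, map_add, e2, hfix _ (pur_mem_ptL u₀ _)]

omit [Fintype F] in
/-- the reflection is an isometry of `f₂` (local version of E-ISO (c)) -/
theorem reflM_iso' (hJ2 : OrthG J2) (w : Fin b → F) (hw : bf J2 w w ≠ 0) (x y : Fin b → F) :
    bf J2 (reflM J2 w *ᵥ x) (reflM J2 w *ᵥ y) = bf J2 x y := by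
  rw [reflM_mulVec, reflM_mulVec]
  simp only [bf_sub_left, bf_sub_right, bf_smul_left, bf_smul_right]
  rw [hJ2.symm w y]
  field_simp
  ring

/-- local version of E-ISO (d) -/
theorem reflK_mem_iso' (hS : SetupSO J1 J2) (w : Fin b → F) (hw : bf J2 w w ≠ 0) :
    reflK (a := a) J2 w hw ∈ IsoG (J1 ⊗ₖ J2) := by
  apply Cfsg.Agent.Lib.Helper13.S5666T4.mem_IsoG_of_pur
  intro u u' p p'
  rw [act_reflK_pur, act_reflK_pur, bf_kron_pur, bf_kron_pur, reflM_iso' hS.h2 w hw]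

omit [Fintype F] in
theorem reflM_reflM (w : Fin b → F) (hw : bf J2 w w ≠ 0) (p : Fin b → F) :
    reflM J2 w *ᵥ (reflM J2 w *ᵥ p) = p := by
  rw [Matrix.mulVec_mulVec, reflM_mul_self J2 w hw, Matrix.one_mulVec]

omit [Fintype F] in
theorem act_reflK_inv_pur (w : Fin b → F) (hw : bf J2 w w ≠ 0) (u : Fin a → F) (p : Fin b → F) :
    act (reflK (a := a) J2 w hw)⁻¹ (pur u p) = pur u (reflM J2 w *ᵥ p) := by
  have h1 : act (reflK (a := a) J2 w hw) (pur u (reflM J2 w *ᵥ p)) = pur u p := by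
    rw [act_reflK_pur, reflM_reflM w hw]
  rw [← h1, act_inv_act]

/-- E-CLS (6): conjugation by `1 ⊗ r_w` -/
theorem cls_conj_refl (hS : SetupSO J1 J2) {u₀ : Fin a → F} {g : GL (Fin a × Fin b) F}
    {D : (Fin a → F) → Matrix (Fin b) (Fin b) F} (h : Cls J1 J2 u₀ g D) (w : Fin b → F) (hw : bf J2 w w ≠ 0) :
    Cls J1 J2 u₀ (reflK J2 w hw * g * (reflK J2 w hw)⁻¹) (fun y => reflM J2 w * D y * reflM J2 w) := by
  have hrI : reflK (a := a) J2 w hw ∈ IsoG (J1 ⊗ₖ J2) := reflK_mem_iso' hS w hw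
  have hstab : img (reflK (a := a) J2 w hw) (ptL (b := b) u₀) = ptL u₀ := by
    ext v
    rw [mem_img_iff]
    constructor
    · intro hv
      obtain ⟨p, hp⟩ := (mem_ptL_iff u₀ _).1 hv
      have : v = act (reflK (a := a) J2 w hw) (pur u₀ p) := by
        rw [hp, act_act_inv]
      rw [this, act_reflK_pur]
      exact pur_mem_ptL u₀ _
    · intro hv
      obtain ⟨p, rfl⟩ := (mem_ptL_iff u₀ v).1 hv
      rw [act_reflK_inv_pur]
      exact pur_mem_ptL u₀ _
  refine ⟨?_, conj_inRadL hS _ hrI u₀ hstab g h.rad, ?_⟩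
  · exact (IsoG (J1 ⊗ₖ J2)).mul_mem ((IsoG (J1 ⊗ₖ J2)).mul_mem hrI h.iso) ((IsoG (J1 ⊗ₖ J2)).inv_mem hrI)
  · intro y hy p
    rw [act_mul, act_mul, act_reflK_inv_pur, h.eq y hy, map_add, act_reflK_pur, act_reflK_pur,
      reflM_reflM w hw, Matrix.mulVec_mulVec, Matrix.mulVec_mulVec]

end Cfsg.Agent.Lib.Helper26.S5666ECLS1
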