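import Mathlib
import Cfsg.Agent.Lib.Helper13.TensSODefs
import Cfsg.Agent.Lib.Helper20.S5666ExitDefs
import Cfsg.Agent.Lib.Helper13.S5666FOAPI
import Cfsg.Agent.Lib.Helper23.S5670FOLEFT

/-!
# S5666 exit (a ≥ 4), piece E-NK (helper26's own version, spare): `fix_kron`
-/

set_option autoImplicit false
set_option linter.unusedSectionVars false
set_option linter.unusedVariables false

namespace Cfsg.Agent.Lib.Helper26.S5666ENK

open Matrix Module
open Cfsg.Agent.Lib.Helper16.Tens Cfsg.Agent.Lib.Helper10.TensFund Cfsg.Agent.Lib.Helper13.TensSO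
open Cfsg.Agent.Lib.Helper28.TensU (ctrL ctrL_apply ctrL_pur hypL mem_hypL_iff ptL mem_ptL_iff pur_mem_ptL rootGLL
  rootGLL_val act_rootGLL rootGLL_mem_SL rootGLL_mem_kron)
open Cfsg.Agent.Lib.Helper3.SpT (bf SympG bf_add_left bf_sub_left bf_smul_left pur_induction)
open Cfsg.Agent.Lib.Helper20.S5666Exit
open Cfsg.Agent.Lib.Helper13.S5666API (exists_bf_eq_one)
open scoped Kronecker

variable {F : Type*} [Field F] [Fintype F] {a b : ℕ}
variable {J1 : Matrix (Fin a) (Fin a) F} {J2 : Matrix (Fin b) (Fin b) F}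

local notation "K" => Cfsg.Geo.kroneckerSubgroup a b F
local notation "V" => (Fin a × Fin b → F)

omit [Fintype F] in
/-- E-NK -/
theorem fix_kron (hJ1 : SympG J1) (hb : 1 ≤ b) (u₀ : Fin a → F) (hu0 : u₀ ≠ 0) (z : GL (Fin a × Fin b) F) (hzK : z ∈ K)
    (hfix : ∀ v ∈ hypL (b := b) (J1 *ᵥ u₀), act z v = v) :
    ∃ d : Fin a → F, ∀ v : V, act z v = v + pur d (ctrL (J1 *ᵥ u₀) v) := by
  classical
  obtain ⟨A, B, hAB⟩ := (mem_kron_iff z).1 hzK
  have hact : ∀ (y : Fin a → F) (w : Fin b → F), act z (pur y w) =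
      pur ((A : Matrix (Fin a) (Fin a) F) *ᵥ y) ((B : Matrix (Fin b) (Fin b) F) *ᵥ w) := by
    intro y w
    rw [act_apply, hAB, kron_mulVec_pur]
  have hmem : ∀ (y : Fin a → F) (w : Fin b → F), bf J1 y u₀ = 0 → pur y w ∈ hypL (b := b) (J1 *ᵥ u₀) := by
    intro y w hy
    rw [mem_hypL_iff, ctrL_J_pur, hy, zero_smul]
  -- a non-zero vector of `W`
  set w₀ : Fin b → F := Pi.single ⟨0, by omega⟩ 1 with hw₀
  have hw₀0 : w₀ ≠ 0 := by
    intro h
    have := congrFun h ⟨0, by omega⟩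
    simp [hw₀] at this
  have hw₀1 : w₀ ⟨0, by omega⟩ = 1 := by simp [hw₀]
  -- `A u₀ = c u₀`, `B = c⁻¹`
  have h1 : pur u₀ w₀ = pur ((A : Matrix (Fin a) (Fin a) F) *ᵥ u₀) ((B : Matrix (Fin b) (Fin b) F) *ᵥ w₀) := by
    rw [← hact, hfix _ (hmem u₀ w₀ (hJ1.alt u₀))]
  obtain ⟨c, hc0, hAu, -⟩ := Cfsg.Agent.Lib.Helper23.S5670LEFT.pur_eq_pur u₀ _ w₀ _ h1 hu0 hw₀0
  have hinj : ∀ p p' : Fin b → F, pur u₀ p = pur u₀ p' → p = p' := by
    intro p p' h
    obtain ⟨i₀, hi₀⟩ : ∃ i, u₀ i ≠ 0 := by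
      by_contra hall; push Not at hall; exact hu0 (funext hall)
    funext j
    have := congrFun h (i₀, j)
    simp only [pur_apply] at this
    exact mul_left_cancel₀ hi₀ this
  have hB : ∀ w : Fin b → F, (B : Matrix (Fin b) (Fin b) F) *ᵥ w = c⁻¹ • w := by
    intro w
    have h2 : pur u₀ w = pur ((A : Matrix (Fin a) (Fin a) F) *ᵥ u₀) ((B : Matrix (Fin b) (Fin b) F) *ᵥ w) := by
      rw [← hact, hfix _ (hmem u₀ w (hJ1.alt u₀))]
    rw [hAu, pur_smul_left, ← pur_smul_right] at h2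
    have h3 := hinj _ _ h2
    calc (B : Matrix (Fin b) (Fin b) F) *ᵥ w
        = c⁻¹ • (c • ((B : Matrix (Fin b) (Fin b) F) *ᵥ w)) := by
          rw [smul_smul, inv_mul_cancel₀ hc0, one_smul]
      _ = c⁻¹ • w := by rw [← h3]
  -- `c⁻¹ A` fixes `u₀^⊥` pointwise
  have hA : ∀ y : Fin a → F, bf J1 y u₀ = 0 → c⁻¹ • ((A : Matrix (Fin a) (Fin a) F) *ᵥ y) = y := by
    intro y hy
    have h2 := hfix _ (hmem y w₀ hy)
    rw [hact, hB, pur_smul_right, ← pur_smul_left] at h2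
    funext i
    have := congrFun h2 (i, ⟨0, by omega⟩)
    simp only [pur_apply, hw₀1, mul_one] at this
    exact this
  obtain ⟨u₁, hu₁⟩ := exists_bf_eq_one hJ1 u₀ hu0
  refine ⟨c⁻¹ • ((A : Matrix (Fin a) (Fin a) F) *ᵥ u₁) - u₁, ?_⟩
  intro v
  refine pur_induction (p := fun v => act z v = v + pur (c⁻¹ • ((A : Matrix (Fin a) (Fin a) F) *ᵥ u₁) - u₁)
    (ctrL (J1 *ᵥ u₀) v)) ?_ ?_ ?_ v
  · simp
  · intro x y hx hy
    rw [map_add, hx, hy, map_add, pur_add_right]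
    abel
  · intro y w
    have hy' : bf J1 (y - bf J1 y u₀ • u₁) u₀ = 0 := by
      rw [bf_sub_left, bf_smul_left, hu₁, mul_one, sub_self]
    have h3 := hA _ hy'
    rw [Matrix.mulVec_sub, Matrix.mulVec_smul, smul_sub] at h3
    have h4 : c⁻¹ • ((A : Matrix (Fin a) (Fin a) F) *ᵥ y) =
        y + bf J1 y u₀ • (c⁻¹ • ((A : Matrix (Fin a) (Fin a) F) *ᵥ u₁) - u₁) := by
      rw [smul_sub, smul_comm (bf J1 y u₀) c⁻¹]
      rw [sub_eq_iff_eq_add] at h3
      rw [h3]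
      abel
    rw [hact, hB, pur_smul_right, ← pur_smul_left, h4, ctrL_J_pur, pur_add_left, pur_smul_left, pur_smul_right]

end Cfsg.Agent.Lib.Helper26.S5666ENK
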