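import Mathlib
import Cfsg.Agent.Lib.Helper13.TensSODefs
import Cfsg.Agent.Lib.Helper20.S5666ExitDefs
import Cfsg.Agent.Lib.Helper13.S5666FOAPI
import Cfsg.Agent.Lib.Helper20.S5666ECLS0
import Cfsg.Agent.Lib.Helper20.S5666ES
import Cfsg.Agent.Lib.Helper20.S5666ECOMM
import Cfsg.Agent.Lib.Helper18.S5666EALG
import Cfsg.Agent.Lib.Helper26.S5666EC
import Cfsg.Agent.Lib.Helper26.S5666ECLS1
import Cfsg.Agent.Lib.Helper26.S5666ENK

/-!
# S5666 exit (a ≥ 4), pieces E-R1, E-R2, E-R3 (helper26; sub-architect helper20)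
Under (H) the class of a radical element of `M` has scalar symmetric part, can be made skew, and skew classes vanish.
-/

set_option autoImplicit false
set_option linter.unusedSectionVars false
set_option linter.unusedVariables false

namespace Cfsg.Agent.Lib.Helper26.S5666ER

open Matrix Module
open Cfsg.Agent.Lib.Helper16.Tens Cfsg.Agent.Lib.Helper10.TensFund Cfsg.Agent.Lib.Helper13.TensSO
open Cfsg.Agent.Lib.Helper28.TensU (ctrL ctrL_apply ctrL_pur hypL mem_hypL_iff ptL mem_ptL_iff pur_mem_ptL rootGLL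
  rootGLL_val act_rootGLL rootGLL_mem_SL rootGLL_mem_kron)
open Cfsg.Agent.Lib.Helper3.SpT (bf SympG E E_mulVec E_mul_E uni uni_val uni_inv_val bf_add_left bf_add_right
  bf_sub_left bf_sub_right bf_smul_left bf_smul_right bf_neg_left bf_neg_right bf_kron_pur mat_ext_mulVec
  exists_dual_vec)
open Cfsg.Agent.Lib.Helper23.S5637T3b (kronGL kronGL_val kronGL_mem_kron)
open Cfsg.Agent.Lib.Helper20.S5666Exit
open Cfsg.Agent.Lib.Helper13.S5666API (rU_mem_iso exists_bf_eq_one)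
open Cfsg.Agent.Lib.Helper20.S5666ECLS0 Cfsg.Agent.Lib.Helper20.S5666ES Cfsg.Agent.Lib.Helper20.S5666ECOMM
open Cfsg.Agent.Lib.Helper18.S5666EALG
open Cfsg.Agent.Lib.Helper26.S5666EC Cfsg.Agent.Lib.Helper26.S5666ECLS1 Cfsg.Agent.Lib.Helper26.S5666ENK
open scoped Kronecker

variable {F : Type*} [Field F] [Fintype F] {a b : ℕ}
variable {J1 : Matrix (Fin a) (Fin a) F} {J2 : Matrix (Fin b) (Fin b) F}
variable {M : Subgroup (GL (Fin a × Fin b) F)}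

local notation "K" => Cfsg.Geo.kroneckerSubgroup a b F
local notation "V" => (Fin a × Fin b → F)

/-- the common core of R1 and R3: a commutator `[g₁,g₂] ∈ M` (`g₂` of pure class) gives a scalar relation -/
theorem comm_scalar (hS : SetupSO J1 J2) (hb : 1 ≤ b) (u₀ : Fin a → F) (hu0 : u₀ ≠ 0)
    (H : ∀ z ∈ M, (∀ v ∈ hypL (b := b) (J1 *ᵥ u₀), act z v = v) → z ∈ K)
    (g₁ g₂ : GL (Fin a × Fin b) F) (hg₁ : g₁ ∈ M) (hg₂ : g₂ ∈ M)
    (D₁ : (Fin a → F) → Matrix (Fin b) (Fin b) F) (x₂ : Fin a → F) (K₂ K₂' : Matrix (Fin b) (Fin b) F)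
    (hx₂ : bf J1 x₂ u₀ = 0) (h1 : Cls J1 J2 u₀ g₁ D₁) (h2 : Cls J1 J2 u₀ g₂ (fun y => bf J1 y x₂ • K₂))
    (hadj : ∀ w w', bf J2 (K₂ *ᵥ w) w' = bf J2 w (K₂' *ᵥ w')) :
    ∃ s : F, ∀ w w', bf J2 ((D₁ x₂ * K₂') *ᵥ w) w' + bf J2 w ((D₁ x₂ * K₂') *ᵥ w') = s * bf J2 w w' := by
  have hzM : g₁ * g₂ * g₁⁻¹ * g₂⁻¹ ∈ M :=
    M.mul_mem (M.mul_mem (M.mul_mem hg₁ hg₂) (M.inv_mem hg₁)) (M.inv_mem hg₂)
  have hfix := comm_fixL u₀ g₁ g₂ h1.rad h2.rad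
  have hzK := H _ hzM hfix
  obtain ⟨d, hd⟩ := fix_kron hS.h1 hb u₀ hu0 _ hzK hfix
  obtain ⟨u₁, hu₁⟩ := exists_bf_eq_one hS.h1 u₀ hu0
  refine ⟨-(bf J1 d u₁), ?_⟩
  intro w w'
  have hc := cls_comm_pure hS u₀ g₁ g₂ D₁ x₂ K₂ K₂' hx₂ h1 h2 hadj u₁ u₁ w w'
  rw [hd, add_sub_cancel_left, ctrL_J_pur, hu₁, one_smul, bf_kron_pur] at hc
  linear_combination hc

/-- E-R (1): the symmetric part of the class is scalar -/
theorem symm_scalar (hS : SetupSO J1 J2) (hb : 1 ≤ b) (hM : OverS J1 J2 M) (u₀ : Fin a → F) (hu0 : u₀ ≠ 0)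
    (H : ∀ z ∈ M, (∀ v ∈ hypL (b := b) (J1 *ᵥ u₀), act z v = v) → z ∈ K)
    (g : GL (Fin a × Fin b) F) (hg : g ∈ M) (D : (Fin a → F) → Matrix (Fin b) (Fin b) F)
    (hD : Cls J1 J2 u₀ g D) (x : Fin a → F) (hx : bf J1 x u₀ = 0) :
    ∃ s : F, ∀ w w', bf J2 (D x *ᵥ w) w' + bf J2 w (D x *ᵥ w') = s * bf J2 w w' := by
  have hrM : siegU (b := b) J1 hS.h1 u₀ x 0 hx ∈ M :=
    hM.kron_mem _ (siegU_mem_kron J1 hS.h1 u₀ x 0 hx) (siegU_mem_iso hS u₀ x 0 hx)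
  have hrC := cls_siegU (J2 := J2) (b := b) hS u₀ x 0 hx
  obtain ⟨s, hs⟩ := comm_scalar hS hb u₀ hu0 H g _ hg hrM D x 1 1 hx hD hrC (fun w w' => by
    rw [Matrix.one_mulVec, Matrix.one_mulVec])
  refine ⟨s, ?_⟩
  intro w w'
  have := hs w w'
  rwa [Matrix.mul_one] at this

/-- E-R (2): correcting by an element of `N0 ∩ Q` makes the class skew -/
theorem exists_skew (hS : SetupSO J1 J2) (hb : 1 ≤ b) (hM : OverS J1 J2 M) (u₀ : Fin a → F) (hu0 : u₀ ≠ 0)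
    (H : ∀ z ∈ M, (∀ v ∈ hypL (b := b) (J1 *ᵥ u₀), act z v = v) → z ∈ K)
    (g : GL (Fin a × Fin b) F) (hg : g ∈ M) (hr : InRadL J1 u₀ g) :
    ∃ (x₀ : Fin a → F) (hx₀ : bf J1 x₀ u₀ = 0) (D : (Fin a → F) →ₗ[F] Matrix (Fin b) (Fin b) F),
      Cls J1 J2 u₀ ((siegU J1 hS.h1 u₀ x₀ 0 hx₀)⁻¹ * g) (fun y => D y) ∧
      ∀ y, bf J1 y u₀ = 0 → ∀ w w', bf J2 (D y *ᵥ w) w' = - bf J2 w (D y *ᵥ w') := by
  classical
  obtain ⟨D₀, hD₀⟩ := exists_cls hS u₀ hu0 g (hM.le_iso hg) hr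
  -- a pair with `f₂(w₀,w₀') ≠ 0`
  obtain ⟨w₀, w₀', hw₀⟩ : ∃ w₀ w₀' : Fin b → F, bf J2 w₀ w₀' ≠ 0 := by
    by_contra hcon
    push Not at hcon
    have h0 : (Pi.single (⟨0, by omega⟩ : Fin b) (1 : F) : Fin b → F) = 0 :=
      hS.h2.nondeg _ (fun y => hcon _ y)
    have := congrFun h0 ⟨0, by omega⟩
    simp at this
  -- the linear functional `s`
  let sfun : (Fin a → F) →ₗ[F] F :=
    { toFun := fun y => (bf J2 (D₀ y *ᵥ w₀) w₀' + bf J2 w₀ (D₀ y *ᵥ w₀')) / bf J2 w₀ w₀'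
      map_add' := by
        intro y y'
        simp only [map_add, Matrix.add_mulVec, bf_add_left, bf_add_right]
        ring
      map_smul' := by
        intro c y
        simp only [map_smul, Matrix.smul_mulVec, bf_smul_left, bf_smul_right, RingHom.id_apply, smul_eq_mul]
        ring }
  have hsfun : ∀ y, sfun y = (bf J2 (D₀ y *ᵥ w₀) w₀' + bf J2 w₀ (D₀ y *ᵥ w₀')) / bf J2 w₀ w₀' := fun y => rfl
  have hsum : ∀ y : Fin a → F, sfun y = y ⬝ᵥ (fun i => sfun (Pi.single i 1)) := by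
    intro y
    conv_lhs => rw [pi_eq_sum_univ y]
    rw [map_sum]
    simp only [dotProduct]
    apply Finset.sum_congr rfl
    intro i _
    rw [map_smul, smul_eq_mul]
    congr 2
    funext j
    simp [Pi.single_apply, eq_comm]
  obtain ⟨d, hd⟩ := exists_dual_vec hS.h1 (fun i => sfun (Pi.single i 1))
  have hd' : ∀ y, bf J1 y d = sfun y := fun y => by rw [hd, hsum]
  have hD₀u : D₀ u₀ = 0 := cls_self hS.h1 hu0 hD₀
  have hsu : sfun u₀ = 0 := by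
    rw [hsfun, hD₀u, Matrix.zero_mulVec]
    simp
  have h2inv : (2 : F) * (2 : F)⁻¹ = 1 := mul_inv_cancel₀ hS.two
  have hx₀ : bf J1 ((2 : F)⁻¹ • d) u₀ = 0 := by
    rw [bf_smul_left, hS.h1.skew d u₀, hd', hsu, neg_zero, mul_zero]
  let bfL : (Fin a → F) →ₗ[F] F :=
    { toFun := fun y => bf J1 y ((2 : F)⁻¹ • d)
      map_add' := fun y y' => bf_add_left J1 y y' _
      map_smul' := fun c y => by rw [bf_smul_left, RingHom.id_apply, smul_eq_mul] }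
  refine ⟨(2 : F)⁻¹ • d, hx₀, D₀ - LinearMap.smulRight bfL (1 : Matrix (Fin b) (Fin b) F), ?_, ?_⟩
  · have h1 := cls_mul (cls_inv (cls_siegU (J2 := J2) (b := b) hS u₀ ((2 : F)⁻¹ • d) 0 hx₀)) hD₀
    refine Cls.congr h1 ?_
    intro y hy
    simp only [LinearMap.sub_apply, LinearMap.smulRight_apply]
    show D₀ y - bf J1 y ((2 : F)⁻¹ • d) • (1 : Matrix (Fin b) (Fin b) F) = _
    abel
  · intro y hy w w'
    obtain ⟨s, hs⟩ := symm_scalar hS hb hM u₀ hu0 H g hg (fun y => D₀ y) hD₀ y hy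
    have hs0 : s = sfun y := by
      have := hs w₀ w₀'
      rw [hsfun]
      field_simp
      linear_combination -this
    have e : (D₀ - LinearMap.smulRight bfL (1 : Matrix (Fin b) (Fin b) F)) y =
        D₀ y - ((2 : F)⁻¹ * sfun y) • (1 : Matrix (Fin b) (Fin b) F) := by
      simp only [LinearMap.sub_apply, LinearMap.smulRight_apply]
      show D₀ y - bf J1 y ((2 : F)⁻¹ • d) • (1 : Matrix (Fin b) (Fin b) F) = _
      rw [bf_smul_right, hd']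
    rw [e, Matrix.sub_mulVec, Matrix.sub_mulVec, Matrix.smul_mulVec, Matrix.smul_mulVec, Matrix.one_mulVec,
      Matrix.one_mulVec, bf_sub_left, bf_sub_right, bf_smul_left, bf_smul_right]
    have := hs w w'
    rw [hs0] at this
    linear_combination this - (sfun y * bf J2 w w') * h2inv

omit [Fintype F] in
/-- the reflection is `f₂`-selfadjoint (local version of E-ISO (e)) -/
theorem reflM_adj' (hJ2 : OrthG J2) (w : Fin b → F) (x y : Fin b → F) :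
    bf J2 (reflM J2 w *ᵥ x) y = bf J2 x (reflM J2 w *ᵥ y) := by
  rw [reflM_mulVec, reflM_mulVec, bf_sub_left, bf_sub_right, bf_smul_left, bf_smul_right, hJ2.symm w y]
  ring

/-- E-R (3): a skew class vanishes (reflection trick) -/
theorem skew_zero (hS : SetupSO J1 J2) (hb : 3 ≤ b) (hM : OverS J1 J2 M) (u₀ : Fin a → F) (hu0 : u₀ ≠ 0)
    (H : ∀ z ∈ M, (∀ v ∈ hypL (b := b) (J1 *ᵥ u₀), act z v = v) → z ∈ K)
    (g : GL (Fin a × Fin b) F) (hg : g ∈ M) (D : (Fin a → F) →ₗ[F] Matrix (Fin b) (Fin b) F)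
    (hD : Cls J1 J2 u₀ g (fun y => D y))
    (hskew : ∀ y, bf J1 y u₀ = 0 → ∀ w w', bf J2 (D y *ᵥ w) w' = - bf J2 w (D y *ᵥ w'))
    (x : Fin a → F) (hx : bf J1 x u₀ = 0) : D x = 0 := by
  by_cases hxs : ∃ c : F, x = c • u₀
  · obtain ⟨c, rfl⟩ := hxs
    have h0 : D u₀ = 0 := cls_self hS.h1 hu0 hD
    rw [map_smul, h0, smul_zero]
  push Not at hxs
  have hKskew : ∀ w w', bf J2 (D x *ᵥ w) w' = - bf J2 w (D x *ᵥ w') := hskew x hx
  have hrUM : ∀ (y : Fin a → F) (c : F), rU (b := b) J1 hS.h1 y c ∈ M := fun y c =>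
    hM.kron_mem _ (rU_mem_kron J1 hS.h1 y c) (rU_mem_iso hS.h1 y c)
  have hreflM : ∀ (w : Fin b → F) (hw : bf J2 w w ≠ 0), reflK (a := a) J2 w hw ∈ M := fun w hw =>
    hM.kron_mem _ (reflK_mem_kron J2 w hw) (reflK_mem_iso' hS w hw)
  -- `g₁ := [rU x 1, g]` has the pure class `y ↦ -f₁(y,x) • K`
  have hg₁M : rU (b := b) J1 hS.h1 x 1 * g * (rU (b := b) J1 hS.h1 x 1)⁻¹ * g⁻¹ ∈ M :=
    M.mul_mem (M.mul_mem (M.mul_mem (hrUM x 1) hg) (M.inv_mem (hrUM x 1))) (M.inv_mem hg)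
  have hC1 : Cls J1 J2 u₀ (rU (b := b) J1 hS.h1 x 1 * g * (rU (b := b) J1 hS.h1 x 1)⁻¹ * g⁻¹)
      (fun y => (-(bf J1 y x)) • D x) := by
    refine Cls.congr (cls_mul (cls_conj_rU hS hD x 1 hx) (cls_inv hD)) ?_
    intro y hy
    simp only [one_mul, map_sub, map_smul]
    module
  apply eq_zero_of_nonsing hS.h2 hS.two
  intro w hw
  -- `g₂ := g₁ (r_w g₁ r_w⁻¹)⁻¹` has the class `y ↦ -f₁(y,x) • L`
  set g₁ := rU (b := b) J1 hS.h1 x 1 * g * (rU (b := b) J1 hS.h1 x 1)⁻¹ * g⁻¹ with hg₁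
  set L := D x - reflM J2 w * D x * reflM J2 w with hL
  have hg₂M : g₁ * (reflK J2 w hw * g₁ * (reflK J2 w hw)⁻¹)⁻¹ ∈ M :=
    M.mul_mem hg₁M (M.inv_mem (M.mul_mem (M.mul_mem (hreflM w hw) hg₁M) (M.inv_mem (hreflM w hw))))
  have hC2 : Cls J1 J2 u₀ (g₁ * (reflK J2 w hw * g₁ * (reflK J2 w hw)⁻¹)⁻¹)
      (fun y => (-(bf J1 y x)) • L) := by
    refine Cls.congr (cls_mul hC1 (cls_inv (cls_conj_refl hS hC1 w hw))) ?_
    intro y hy
    simp only [hL, Matrix.mul_smul, Matrix.smul_mul]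
    module
  set g₂ := g₁ * (reflK J2 w hw * g₁ * (reflK J2 w hw)⁻¹)⁻¹ with hg₂
  -- `L` is skew
  have hLskew : ∀ w₁ w₂, bf J2 (L *ᵥ w₁) w₂ = - bf J2 w₁ (L *ᵥ w₂) := by
    intro w₁ w₂
    rw [hL, Matrix.sub_mulVec, Matrix.sub_mulVec, bf_sub_left, bf_sub_right, hKskew,
      ← Matrix.mulVec_mulVec, ← Matrix.mulVec_mulVec, ← Matrix.mulVec_mulVec, ← Matrix.mulVec_mulVec,
      reflM_adj' hS.h2, hKskew, reflM_adj' hS.h2]
    ring
  obtain ⟨x'', hx'', hxx''⟩ := exists_not_perp hS.h1 u₀ x hx hxs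
  have hβ : bf J1 x'' x ≠ 0 := by
    rw [hS.h1.skew]
    exact neg_ne_zero.mpr hxx''
  -- `g₃ := [rU x'' 1, g₂]` has the class `y ↦ f₁(y,x'') • (f₁(x'',x) • L)`
  have hg₃M : rU (b := b) J1 hS.h1 x'' 1 * g₂ * (rU (b := b) J1 hS.h1 x'' 1)⁻¹ * g₂⁻¹ ∈ M :=
    M.mul_mem (M.mul_mem (M.mul_mem (hrUM x'' 1) hg₂M) (M.inv_mem (hrUM x'' 1))) (M.inv_mem hg₂M)
  have hC3 : Cls J1 J2 u₀ (rU (b := b) J1 hS.h1 x'' 1 * g₂ * (rU (b := b) J1 hS.h1 x'' 1)⁻¹ * g₂⁻¹)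
      (fun y => bf J1 y x'' • (bf J1 x'' x • L)) := by
    refine Cls.congr (cls_mul (cls_conj_rU hS hC2 x'' 1 hx'') (cls_inv hC2)) ?_
    intro y hy
    simp only [one_mul, bf_sub_left, bf_smul_left, smul_smul]
    module
  -- the commutator `[g₂, g₃]`
  obtain ⟨s, hs⟩ := comm_scalar hS (by omega) u₀ hu0 H g₂ _ hg₂M hg₃M (fun y => (-(bf J1 y x)) • L) x''
    (bf J1 x'' x • L) (-(bf J1 x'' x • L)) hx'' hC2 hC3 (fun w₁ w₂ => by
      rw [Matrix.smul_mulVec, Matrix.neg_mulVec, Matrix.smul_mulVec, bf_smul_left, bf_neg_right, bf_smul_right,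
        hLskew]
      ring)
  -- `L * L = κ • 1`
  have hLL : L * L = (s / (2 * bf J1 x'' x ^ 2)) • (1 : Matrix (Fin b) (Fin b) F) := by
    apply mat_ext_mulVec
    intro w₁
    have hsub : (L * L) *ᵥ w₁ - ((s / (2 * bf J1 x'' x ^ 2)) • (1 : Matrix (Fin b) (Fin b) F)) *ᵥ w₁ = 0 := by
      apply hS.h2.nondeg
      intro w₂
      have h1 := hs w₁ w₂
      have e : ((-(bf J1 x'' x)) • L) * (-(bf J1 x'' x • L)) = (bf J1 x'' x ^ 2) • (L * L) := by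
        rw [Matrix.smul_mul, Matrix.mul_neg, Matrix.mul_smul, smul_neg, smul_smul, ← neg_smul]
        congr 1
        ring
      rw [e, Matrix.smul_mulVec, Matrix.smul_mulVec, bf_smul_left, bf_smul_right] at h1
      have h2 : bf J2 w₁ ((L * L) *ᵥ w₂) = bf J2 ((L * L) *ᵥ w₁) w₂ := by
        rw [← Matrix.mulVec_mulVec, ← Matrix.mulVec_mulVec, hLskew (L *ᵥ w₁) w₂, hLskew w₁ (L *ᵥ w₂), neg_neg]
      rw [h2] at h1
      rw [bf_sub_left, Matrix.smul_mulVec, Matrix.one_mulVec, bf_smul_left]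
      have h2' : (2 : F) ≠ 0 := hS.two
      field_simp
      linear_combination h1
    exact sub_eq_zero.mp hsub
  exact skew_refl_sq hS.h2 hS.two hb (D x) hKskew w hw _ hLL

end Cfsg.Agent.Lib.Helper26.S5666ER
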