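import Mathlib
import Cfsg.Agent.Lib.Helper27.SpOBDefs

/-!
# S5666 CORE B, piece B-T3c (helper26; sub-architect helper27)

From one long root element `zS A k0 ∈ M` (`A ≠ 0`, `A^* = -A`) to the full transvection group with centre `u ⊗ k0`.
-/

set_option autoImplicit false
set_option linter.unusedSectionVars false
set_option linter.unusedVariables false

namespace Cfsg.Agent.Lib.Helper26.S5666BT3c

open Matrix Module
open scoped Kronecker
open Cfsg.Agent.Lib.Helper16.Tens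
open Cfsg.Agent.Lib.Helper3.SpT
open Cfsg.Agent.Lib.Helper27.SpOB

variable {F : Type*} [Field F] {a b : ℕ} {J1 : Matrix (Fin a) (Fin a) F} {J2 : Matrix (Fin b) (Fin b) F}

/-- the transvection `1 + c E_{u,u}` preserves `f₁` -/
theorem bf_tv (h1 : SympG J1) (u : Fin a → F) (c : F) (x y : Fin a → F) :
    bf J1 ((1 + c • E J1 u u) *ᵥ x) ((1 + c • E J1 u u) *ᵥ y) = bf J1 x y := by
  rw [Matrix.add_mulVec, Matrix.add_mulVec, Matrix.one_mulVec, Matrix.one_mulVec, Matrix.smul_mulVec,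
    Matrix.smul_mulVec, E_mulVec, E_mulVec]
  simp only [bf_add_left, bf_add_right, bf_smul_left, bf_smul_right, h1.alt]
  rw [h1.skew u y]
  ring

theorem tv_transpose_mul (h1 : SympG J1) (u : Fin a → F) (c : F) :
    (1 + c • E J1 u u)ᵀ * J1 * (1 + c • E J1 u u) = J1 := by
  apply eq_of_dot_mulVec
  intro x y
  have := bf_tv h1 u c x y
  rw [bf_mulVec_left, Matrix.mulVec_mulVec] at this
  exact this

/-- local version of B-ISO `rootU_mem_IsoG` -/
theorem rootU_mem_IsoG' (h1 : SympG J1) (u : Fin a → F) (c : F) :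
    rootU (b := b) J1 h1 u c ∈ IsoG (J1 ⊗ₖ J2) := by
  rw [mem_IsoG_iff]
  intro x y
  have hval : ((rootU (b := b) J1 h1 u c : GL (Fin a × Fin b) F) : Matrix (Fin a × Fin b) (Fin a × Fin b) F) =
      (1 + c • E J1 u u) ⊗ₖ (1 : Matrix (Fin b) (Fin b) F) := by
    rw [rootU_val, Matrix.add_kronecker, Matrix.one_kronecker_one]
  rw [hval, bf_mulVec_left, Matrix.mulVec_mulVec]
  have : ((1 + c • E J1 u u) ⊗ₖ (1 : Matrix (Fin b) (Fin b) F))ᵀ * J1 ⊗ₖ J2 *
      (1 + c • E J1 u u) ⊗ₖ (1 : Matrix (Fin b) (Fin b) F) = J1 ⊗ₖ J2 := by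
    rw [← Matrix.kroneckerMap_transpose, ← Matrix.mul_kronecker_mul, ← Matrix.mul_kronecker_mul,
      tv_transpose_mul h1, Matrix.transpose_one, Matrix.one_mul, Matrix.mul_one]
  rw [this]
  rfl

theorem neg_kron (A : Matrix (Fin a) (Fin a) F) (B : Matrix (Fin b) (Fin b) F) :
    (-A) ⊗ₖ B = -(A ⊗ₖ B) := by
  ext ⟨i, j⟩ ⟨k, l⟩
  simp

theorem sub_kron (A A' : Matrix (Fin a) (Fin a) F) (B : Matrix (Fin b) (Fin b) F) :
    (A - A') ⊗ₖ B = A ⊗ₖ B - A' ⊗ₖ B := by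
  ext ⟨i, j⟩ ⟨k, l⟩
  simp [sub_mul]

theorem E_sq (k : Fin b → F) (hk : bf J2 k k = 0) : E J2 k k * E J2 k k = 0 := by
  rw [E_mul_E, hk, zero_smul]

theorem zS_mul (A A' : Matrix (Fin a) (Fin a) F) (k : Fin b → F) (hk : bf J2 k k = 0) :
    zS J2 A k hk * zS J2 A' k hk = zS J2 (A + A') k hk := by
  apply Units.ext
  rw [Units.val_mul, zS_val, zS_val, zS_val, Matrix.add_kronecker]
  have : (A ⊗ₖ E J2 k k) * (A' ⊗ₖ E J2 k k) = 0 := by
    rw [← Matrix.mul_kronecker_mul, E_sq k hk, Matrix.kronecker_zero]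
  rw [Matrix.add_mul, Matrix.mul_add, Matrix.mul_add, this, Matrix.one_mul, Matrix.mul_one, Matrix.one_mul]
  abel

theorem zS_inv (A : Matrix (Fin a) (Fin a) F) (k : Fin b → F) (hk : bf J2 k k = 0) :
    (zS J2 A k hk)⁻¹ = zS J2 (-A) k hk := by
  apply Units.ext
  rw [zS_inv_val, zS_val, neg_kron, sub_eq_add_neg]

theorem tv_mul_tv (h1 : SympG J1) (u : Fin a → F) (c : F) :
    (1 + c • E J1 u u) * (1 - c • E J1 u u) = 1 := by
  have : (c • E J1 u u) * (c • E J1 u u) = 0 := by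
    rw [Matrix.smul_mul, Matrix.mul_smul, E_mul_E, h1.alt]
    simp
  rw [Matrix.add_mul, Matrix.mul_sub, Matrix.mul_sub, this, Matrix.one_mul, Matrix.mul_one, Matrix.one_mul]
  abel

theorem conj_zS (h1 : SympG J1) (u : Fin a → F) (c : F) (A : Matrix (Fin a) (Fin a) F) (k : Fin b → F)
    (hk : bf J2 k k = 0) :
    rootU (b := b) J1 h1 u c * zS J2 A k hk * (rootU (b := b) J1 h1 u c)⁻¹ =
      zS J2 ((1 + c • E J1 u u) * A * (1 - c • E J1 u u)) k hk := by
  apply Units.ext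
  have hval : ((rootU (b := b) J1 h1 u c : GL (Fin a × Fin b) F) : Matrix (Fin a × Fin b) (Fin a × Fin b) F) =
      (1 + c • E J1 u u) ⊗ₖ (1 : Matrix (Fin b) (Fin b) F) := by
    rw [rootU_val, Matrix.add_kronecker, Matrix.one_kronecker_one]
  have hinv : (((rootU (b := b) J1 h1 u c)⁻¹ : GL (Fin a × Fin b) F) :
      Matrix (Fin a × Fin b) (Fin a × Fin b) F) =
      (1 - c • E J1 u u) ⊗ₖ (1 : Matrix (Fin b) (Fin b) F) := by
    unfold rootU
    rw [uni_inv_val, sub_kron, Matrix.one_kronecker_one]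
  rw [Units.val_mul, Units.val_mul, hval, hinv, zS_val, zS_val, Matrix.mul_add, Matrix.add_mul,
    Matrix.mul_one, ← Matrix.mul_kronecker_mul, ← Matrix.mul_kronecker_mul, ← Matrix.mul_kronecker_mul,
    tv_mul_tv h1]
  simp only [Matrix.one_mul, Matrix.mul_one, Matrix.one_kronecker_one]

theorem EAE (u : Fin a → F) (A : Matrix (Fin a) (Fin a) F) :
    E J1 u u * A * E J1 u u = bf J1 (A *ᵥ u) u • E J1 u u := by
  apply mat_ext_mulVec
  intro x
  rw [← Matrix.mulVec_mulVec, ← Matrix.mulVec_mulVec, Matrix.smul_mulVec]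
  simp only [E_mulVec, Matrix.mulVec_smul, smul_smul]
  rw [mul_comm]

theorem delta_formula (u : Fin a → F) (c : F) (A : Matrix (Fin a) (Fin a) F) :
    (1 + c • E J1 u u) * A * (1 - c • E J1 u u) - A =
      c • (E J1 u u * A - A * E J1 u u) - (c ^ 2 * bf J1 (A *ᵥ u) u) • E J1 u u := by
  have h : (c • E J1 u u) * A * (c • E J1 u u) = (c ^ 2 * bf J1 (A *ᵥ u) u) • E J1 u u := by
    rw [Matrix.smul_mul, Matrix.smul_mul, Matrix.mul_smul, EAE, smul_smul, smul_smul]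
    congr 1
    ring
  rw [Matrix.add_mul, Matrix.add_mul, Matrix.mul_sub, Matrix.mul_sub, h]
  simp only [Matrix.one_mul, Matrix.mul_one, Matrix.smul_mul, Matrix.mul_smul, smul_sub]
  abel

/-- B-T3c -/
theorem T3c [Fintype F] (h2 : (2 : F) ≠ 0) (h1 : SympG J1) (hJ2 : SymG J2)
    (M : Subgroup (GL (Fin a × Fin b) F)) (hM : Over J1 J2 M) (k0 : Fin b → F)
    (hk : bf J2 k0 k0 = 0) (A : Matrix (Fin a) (Fin a) F) (hA0 : A ≠ 0) (hA : adj J1 A = -A)
    (hz : zS J2 A k0 hk ∈ M) :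
    ∃ u : Fin a → F, u ≠ 0 ∧ ∀ c : F, zS J2 (c • E J1 u u) k0 hk ∈ M := by
  -- the additive group `X`
  have hadd : ∀ B B' : Matrix (Fin a) (Fin a) F, zS J2 B k0 hk ∈ M → zS J2 B' k0 hk ∈ M →
      zS J2 (B + B') k0 hk ∈ M := by
    intro B B' hB hB'
    rw [← zS_mul]
    exact M.mul_mem hB hB'
  have hneg : ∀ B : Matrix (Fin a) (Fin a) F, zS J2 B k0 hk ∈ M → zS J2 (-B) k0 hk ∈ M := by
    intro B hB
    rw [← zS_inv]
    exact M.inv_mem hB
  have hsub : ∀ B B' : Matrix (Fin a) (Fin a) F, zS J2 B k0 hk ∈ M → zS J2 B' k0 hk ∈ M →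
      zS J2 (B - B') k0 hk ∈ M := by
    intro B B' hB hB'
    rw [sub_eq_add_neg]
    exact hadd _ _ hB (hneg _ hB')
  have hroot : ∀ (u : Fin a → F) (c : F), rootU (b := b) J1 h1 u c ∈ M := fun u c =>
    hM.kron_mem _ (rootU_mem_kron h1 u c) (rootU_mem_IsoG' h1 u c)
  have hconj : ∀ (u : Fin a → F) (c : F) (B : Matrix (Fin a) (Fin a) F), zS J2 B k0 hk ∈ M →
      zS J2 ((1 + c • E J1 u u) * B * (1 - c • E J1 u u)) k0 hk ∈ M := by
    intro u c B hB
    rw [← conj_zS h1]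
    exact M.mul_mem (M.mul_mem (hroot u c) hB) (M.inv_mem (hroot u c))
  -- a vector with `f₁(Au,u) ≠ 0`
  obtain ⟨u, hu⟩ : ∃ u : Fin a → F, bf J1 (A *ᵥ u) u ≠ 0 := by
    by_contra hcon
    push Not at hcon
    apply hA0
    have hsym : ∀ x y, bf J1 (A *ᵥ x) y = bf J1 (A *ᵥ y) x := by
      intro x y
      rw [bf_adj h1, hA, Matrix.neg_mulVec, bf_neg_right, h1.skew]
      ring
    have hzero : ∀ x y, bf J1 (A *ᵥ x) y = 0 := by
      intro x y
      have h := hcon (x + y)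
      rw [Matrix.mulVec_add, bf_add_left, bf_add_right, bf_add_right, hcon x, hcon y,
        hsym y x] at h
      have h' : 2 * bf J1 (A *ᵥ x) y = 0 := by linear_combination h
      rcases mul_eq_zero.mp h' with h'' | h''
      · exact absurd h'' h2
      · exact h''
    apply mat_ext_mulVec
    intro x
    rw [Matrix.zero_mulVec]
    exact h1.nondeg _ (hzero x)
  set φ := bf J1 (A *ᵥ u) u with hφ
  refine ⟨u, ?_, ?_⟩
  · intro h0
    apply hu
    rw [hφ, h0, bf_zero_right]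
  -- `2 c² φ E ∈ X`
  have hD : ∀ c : F, zS J2 ((1 + c • E J1 u u) * A * (1 - c • E J1 u u) - A) k0 hk ∈ M := fun c =>
    hsub _ _ (hconj u c A hz) hz
  have hsq : ∀ c : F, zS J2 ((2 * c ^ 2 * φ) • E J1 u u) k0 hk ∈ M := by
    intro c
    have h := hsub _ _ (hadd _ _ (hD c) (hD c)) (hD (2 * c))
    have heq : ((1 + c • E J1 u u) * A * (1 - c • E J1 u u) - A) +
        ((1 + c • E J1 u u) * A * (1 - c • E J1 u u) - A) -
        ((1 + (2 * c) • E J1 u u) * A * (1 - (2 * c) • E J1 u u) - A) =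
        (2 * c ^ 2 * φ) • E J1 u u := by
      rw [delta_formula, delta_formula]
      rw [← hφ]
      module
    rw [heq] at h
    exact h
  intro c
  have h := hsub _ _ (hsq ((c / (2 * φ) + 1) / 2)) (hsq ((c / (2 * φ) - 1) / 2))
  have heq : (2 * ((c / (2 * φ) + 1) / 2) ^ 2 * φ) • E J1 u u -
      (2 * ((c / (2 * φ) - 1) / 2) ^ 2 * φ) • E J1 u u = c • E J1 u u := by
    rw [← sub_smul]
    congr 1
    field_simp
    ring
  rw [heq] at h
  exact h

end Cfsg.Agent.Lib.Helper26.S5666BT3c
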