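import Cfsg.Agent.Lib.Helper26.StCCGen

set_option autoImplicit false

namespace Cfsg.Agent.Lib.Helper26.StCC

open Cfsg.Lie Cfsg.Agent.Lib.Helper8.Chev Cfsg.Agent.Lib.Helper14.StCC
open scoped commutatorElement

variable {D : ChevalleyDatum} {K : Type*} [Field K] {Γ : Type*} [Group Γ] {E : Type*} [Group E]

/-! ## [A6] lifts of `x_r(t)`, `x_r(u)` commute: commutator trick -/

theorem lifts_commute_of_commData (S : StRep D K Γ) (hK3 : ∃ c : K, c ≠ 0 ∧ c ≠ 1)
    (ψ : E →* Γ) (hψ : Function.Surjective ψ) (hc : ψ.ker ≤ Subgroup.center E)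
    {r : ℕ} (hr : r < D.nroots) (hd : CommData D r) :
    ∀ (A B : E) (t u : K), ψ A = S.x r t → ψ B = S.x r u → A * B = B * A := by
  obtain ⟨a, b, q, ε, ε', ha, hb, hq, hba, hbna, hT, hε', ⟨har, hanr, hTa⟩, ⟨hbr, hbnr, hTb⟩,
    ⟨hqr, hqnr, hTq⟩⟩ := hd
  obtain ⟨c, hc0, hc1⟩ := hK3
  -- commutation in `Γ`
  have comm0 : ∀ s, s < D.nroots → s ≠ r → s ≠ D.neg r → D.commTerms r s = [] →
      ∀ t u : K, S.x s u * S.x r t = S.x r t * S.x s u := by
    intro s hs h1 h2 h3 t u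
    have := S.comm r hr s hs h1 h2 t u
    rw [ChevalleyDatum.commWord, h3] at this
    simpa using this
  have hxa := comm0 a ha har hanr hTa
  have hxb := comm0 b hb hbr hbnr hTb
  have hxq := comm0 q hq hqr hqnr hTq
  have hxr : ∀ t u : K, S.x r u * S.x r t = S.x r t * S.x r u := by
    intro t u
    rw [S.add r hr, S.add r hr, add_comm]
  -- the commutator formula
  have hform : ∀ s t : K, S.x q (-(ε : K) * s * t) * S.x r ((ε' : K) * s ^ 2 * t) =
      ⁅(S.x b t)⁻¹, (S.x a s)⁻¹⁆ := by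
    intro s t
    have h1 := S.comm a ha b hb hba hbna s t
    rw [ChevalleyDatum.commWord, hT] at h1
    simp only [List.map_cons, List.map_nil, wS_cons, wS_nil, mul_one, pow_one] at h1
    have e1 : (ε : K) * (-s) * t = -(ε : K) * s * t := by ring
    have e2 : (ε' : K) * (-s) ^ 2 * t = (ε' : K) * s ^ 2 * t := by ring
    rw [e1, e2] at h1
    rw [commutatorElement_def, inv_inv, inv_inv, mul_assoc ((S.x b t)⁻¹ * (S.x a s)⁻¹), h1]
    group
  intro A B t u hA hB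
  let Xq : K → E := fun w => Function.surjInv hψ (S.x q w)
  let Xr : K → E := fun w => Function.surjInv hψ (S.x r w)
  have hXq : ∀ w, ψ (Xq w) = S.x q w := fun w => Function.surjInv_eq hψ _
  have hXr : ∀ w, ψ (Xr w) = S.x r w := fun w => Function.surjInv_eq hψ _
  have hAr : ∀ w, ψ A * ψ (Xr w) = ψ (Xr w) * ψ A := by
    intro w
    rw [hA, hXr]
    exact hxr w t
  have kr_add : ∀ w w', ⁅A, Xr (w + w')⁆ = ⁅A, Xr w⁆ * ⁅A, Xr w'⁆ := by
    intro w w'
    rw [← comm_mul_right ψ hc (hAr w')]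
    apply comm_eq_of_map_eq ψ hc rfl
    rw [map_mul, hXr, hXr, hXr, S.add r hr]
  -- the key relation
  have key : ∀ s w : K, ⁅A, Xq (-(ε : K) * s * w)⁆ * ⁅A, Xr ((ε' : K) * s ^ 2 * w)⁆ = 1 := by
    intro s w
    have hP : ψ (Function.surjInv hψ (S.x b w)⁻¹) = (S.x b w)⁻¹ := Function.surjInv_eq hψ _
    have hQ : ψ (Function.surjInv hψ (S.x a s)⁻¹) = (S.x a s)⁻¹ := Function.surjInv_eq hψ _
    rw [← comm_mul_right ψ hc (hAr _)]
    have h1 : ⁅A, Xq (-(ε : K) * s * w) * Xr ((ε' : K) * s ^ 2 * w)⁆ =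
        ⁅A, ⁅Function.surjInv hψ (S.x b w)⁻¹, Function.surjInv hψ (S.x a s)⁻¹⁆⁆ := by
      apply comm_eq_of_map_eq ψ hc rfl
      rw [map_mul, hXq, hXr, map_commutatorElement, hP, hQ, hform]
    rw [h1, commutatorElement_eq_one_iff_mul_comm]
    apply commute_comm_of_commute ψ hc
    · rw [hA, hP, S.x_inv hb]
      exact (hxb t (-w)).symm
    · rw [hA, hQ, S.x_inv ha]
      exact (hxa t (-s)).symm
  have hε0 : (ε' : K) ≠ 0 := by
    rcases hε' with rfl | rfl
    · simp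
    · simp
  have hc1' : c - 1 ≠ 0 := sub_ne_zero.mpr hc1
  -- `kr (ε' c w) = kr (ε' w)`
  have h2 : ∀ w : K, ⁅A, Xr ((ε' : K) * c * w)⁆ = ⁅A, Xr ((ε' : K) * w)⁆ := by
    intro w
    have k1 := key 1 w
    have k2 := key c (w / c)
    have e1 : -(ε : K) * c * (w / c) = -(ε : K) * 1 * w := by
      field_simp
    have e2 : (ε' : K) * c ^ 2 * (w / c) = (ε' : K) * c * w := by
      field_simp
    have e3 : (ε' : K) * 1 ^ 2 * w = (ε' : K) * w := by ring
    rw [e1, e2] at k2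
    rw [e3] at k1
    exact mul_left_cancel (k2.trans k1.symm)
  have h3 : ∀ w : K, ⁅A, Xr ((ε' : K) * (c - 1) * w)⁆ = 1 := by
    intro w
    have := kr_add ((ε' : K) * w) ((ε' : K) * (c - 1) * w)
    have e : (ε' : K) * w + (ε' : K) * (c - 1) * w = (ε' : K) * c * w := by ring
    rw [e, h2] at this
    exact (mul_eq_left.mp this.symm)
  have h4 : ⁅A, B⁆ = 1 := by
    rw [comm_eq_of_map_eq ψ hc (rfl : ψ A = ψ A) (hB.trans (hXr u).symm)]
    have := h3 (u / ((ε' : K) * (c - 1)))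
    rw [mul_div_cancel₀ _ (mul_ne_zero hε0 hc1')] at this
    exact this
  exact commutatorElement_eq_one_iff_mul_comm.mp h4

end Cfsg.Agent.Lib.Helper26.StCC
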