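import Cfsg.Agent.Lib.Helper26.StCCGen
import Cfsg.Agent.Lib.Helper26.StCCA6
import Cfsg.Agent.Lib.Helper6.StCCAlg
import Cfsg.Agent.Lib.Helper29.StCCH0
import Cfsg.Agent.Lib.Helper27.StCCA3

set_option autoImplicit false

/-! Steinberg's Theorem 10, PART A (S2398 / S2100 farm, architect helper14): existence of equivariant
additive lifts `φ r t` of the root elements along a central extension `ψ : E →* Γ` of a perfect
group `Γ` with Steinberg relations (`StRep D K Γ`), `|K| > 4`.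

Pieces: generic commutator lemmas (`StCCGen`), the commutator trick for the long roots of `B₂`
(`StCCA6`), the algebra of biadditive maps (helper6, `StCCAlg`), commutators of torus elements are
central (helper29, `StCCH0`), the tables (helper27, `StCCA3`); here: the torus trick and the
assembly. -/

namespace Cfsg.Agent.Lib.Helper26.StCC

open Cfsg.Lie Cfsg.Agent.Lib.Helper8.Chev Cfsg.Agent.Lib.Helper14.StCC
open scoped commutatorElement

variable {D : ChevalleyDatum} {K : Type*} [Field K] {Γ : Type*} [Group Γ] {E : Type*} [Group E]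

/-! ## [A5] lifts of `x_r(t)`, `x_r(u)` commute: torus trick -/

theorem lifts_commute_of_wt (S : StRep D K Γ) (hK5 : ∃ s : Finset K, 4 < s.card)
    (ψ : E →* Γ) (hψ : Function.Surjective ψ) (hc : ψ.ker ≤ Subgroup.center E)
    {r : ℕ} (hr : r < D.nroots) (hm : ∃ m : ℕ → ℤ, wt D m r = 1) :
    ∀ (A B : E) (t u : K), ψ A = S.x r t → ψ B = S.x r u → A * B = B * A := by
  obtain ⟨m, hm⟩ := hm
  let X : K → E := fun t => Function.surjInv hψ (S.x r t)
  have hX : ∀ t, ψ (X t) = S.x r t := fun t => Function.surjInv_eq hψ _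
  have hxc : ∀ t u : K, S.x r t * S.x r u = S.x r u * S.x r t := by
    intro t u
    rw [S.add r hr, S.add r hr, add_comm]
  have hcen : ∀ t u, ⁅X t, X u⁆ ∈ Subgroup.center E := fun t u =>
    comm_mem_center ψ hc (by rw [hX, hX]; exact hxc t u)
  have hl : ∀ t t' u, ⁅X (t + t'), X u⁆ = ⁅X t, X u⁆ * ⁅X t', X u⁆ := by
    intro t t' u
    rw [← comm_mul_left ψ hc (by rw [hX, hX]; exact hxc t' u)]
    apply comm_eq_of_map_eq ψ hc _ rfl
    rw [map_mul, hX, hX, hX, S.add r hr]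
  have hr' : ∀ t u u', ⁅X t, X (u + u')⁆ = ⁅X t, X u⁆ * ⁅X t, X u'⁆ := by
    intro t u u'
    rw [← comm_mul_right ψ hc (by rw [hX, hX]; exact hxc t u')]
    apply comm_eq_of_map_eq ψ hc rfl
    rw [map_mul, hX, hX, hX, S.add r hr]
  have hinv : ∀ v : K, v ≠ 0 → ∀ t u, ⁅X (v * t), X (v * u)⁆ = ⁅X t, X u⁆ := by
    intro v hv t u
    obtain ⟨g, _, hgx⟩ := exists_torus S m hv
    obtain ⟨g', rfl⟩ := hψ g
    have h1 : g' * ⁅X t, X u⁆ * g'⁻¹ = ⁅X t, X u⁆ := by
      have := hcen t u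
      rw [Subgroup.mem_center_iff] at this
      rw [this g', mul_inv_cancel_right]
    rw [← h1, conj_comm]
    apply comm_eq_of_map_eq ψ hc
    · rw [hX, map_mul, map_mul, map_inv, hX, hgx r hr, hm, zpow_one]
    · rw [hX, map_mul, map_mul, map_inv, hX, hgx r hr, hm, zpow_one]
  obtain ⟨a, ha0, ha1, ha⟩ := Cfsg.Agent.Lib.Helper6.StCCAlg.exists_good_scalar hK5
  have hk := Cfsg.Agent.Lib.Helper6.StCCAlg.biadd_eq_one_of_central (fun t u => ⁅X t, X u⁆)
    hcen hl hr' a ha0 ha1 ha (hinv a ha0) (hinv (1 - a) (sub_ne_zero.mpr (Ne.symm ha1)))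
  intro A B t u hA hB
  have h1 : ⁅A, B⁆ = 1 := by
    rw [comm_eq_of_map_eq ψ hc (hA.trans (hX t).symm) (hB.trans (hX u).symm)]
    exact hk t u
  exact commutatorElement_eq_one_iff_mul_comm.mp h1

end Cfsg.Agent.Lib.Helper26.StCC

namespace Cfsg.Agent.Lib.Helper14.StCC

open Cfsg.Lie Cfsg.Agent.Lib.Helper8.Chev Cfsg.Agent.Lib.Helper26.StCC
open scoped commutatorElement

variable {D : ChevalleyDatum} {K : Type*} [Field K] {Γ : Type*} [Group Γ] {E : Type*} [Group E]

/-- PART A: existence of equivariant additive lifts. -/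
theorem exists_rootLift (S : StRep D K Γ) (hK5 : ∃ s : Finset K, 4 < s.card)
    (hperf : commutator Γ = ⊤) (ψ : E →* Γ) (hψ : Function.Surjective ψ)
    (hc : ψ.ker ≤ Subgroup.center E) : Nonempty (RootLift S ψ) := by
  classical
  obtain ⟨w, hw0, hw2⟩ := Cfsg.Agent.Lib.Helper6.StCCAlg.exists_pow_ne_one hK5 2 (by norm_num)
    (by norm_num)
  have hw1 : w ≠ 1 := by
    rintro rfl
    exact hw2 (one_zpow 2)
  -- lifts of root elements of the same root commute
  have hLC : ∀ r < D.nroots, ∀ (A B : E) (t u : K), ψ A = S.x r t → ψ B = S.x r u →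
      A * B = B * A := by
    intro r hr
    rcases exists_wt_or_commData S.hD hr with h | ⟨_, h⟩
    · exact lifts_commute_of_wt S hK5 ψ hψ hc hr h
    · exact lifts_commute_of_commData S ⟨w, hw0, hw1⟩ ψ hψ hc hr h
  -- torus elements acting non-trivially on `x_r`
  have hT : ∀ r, ∃ (h : Γ) (v : K), r < D.nroots → h ∈ S.H0 ∧ v ≠ 1 ∧
      ∀ u : K, h * S.x r u * h⁻¹ = S.x r (v * u) := by
    intro r
    by_cases hr : r < D.nroots
    · rcases exists_wt_or_commData S.hD hr with ⟨m, hm⟩ | ⟨⟨m, hm⟩, _⟩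
      · obtain ⟨g, hg, hgx⟩ := exists_torus S m hw0
        exact ⟨g, w, fun _ => ⟨hg, hw1, fun u => by rw [hgx r hr, hm, zpow_one]⟩⟩
      · obtain ⟨g, hg, hgx⟩ := exists_torus S m hw0
        exact ⟨g, w ^ (2 : ℤ), fun _ => ⟨hg, hw2, fun u => by rw [hgx r hr, hm]⟩⟩
    · exact ⟨1, 0, fun h => absurd h hr⟩
  choose h v hhv using hT
  let Ht : ℕ → E := fun r => Function.surjInv hψ (h r)
  let X : ℕ → K → E := fun r t => Function.surjInv hψ (S.x r t)
  have hHt : ∀ r, ψ (Ht r) = h r := fun r => Function.surjInv_eq hψ _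
  have hX : ∀ r t, ψ (X r t) = S.x r t := fun r t => Function.surjInv_eq hψ _
  let φ : ℕ → K → E := fun r t => ⁅Ht r, X r ((v r - 1)⁻¹ * t)⁆
  have hφ : ∀ r t, φ r t = ⁅Ht r, X r ((v r - 1)⁻¹ * t)⁆ := fun _ _ => rfl
  have hmap : ∀ r < D.nroots, ∀ t : K, ψ (φ r t) = S.x r t := by
    intro r hr t
    obtain ⟨_, hv1, hx⟩ := hhv r hr
    rw [hφ, map_commutatorElement, hHt, hX, commutatorElement_def, hx, S.x_inv hr, S.add r hr]
    congr 1
    have : v r - 1 ≠ 0 := sub_ne_zero.mpr hv1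
    field_simp
    ring
  refine ⟨⟨φ, hmap, ?_, ?_⟩⟩
  · -- additivity
    intro r hr t u
    have e1 : φ r (t + u) = ⁅Ht r, X r ((v r - 1)⁻¹ * t) * X r ((v r - 1)⁻¹ * u)⁆ := by
      rw [hφ]
      apply comm_eq_of_map_eq ψ hc rfl
      rw [map_mul, hX, hX, hX, S.add r hr, mul_add]
    have e2 : ⁅Ht r, X r ((v r - 1)⁻¹ * t) * X r ((v r - 1)⁻¹ * u)⁆ =
        φ r t * (X r ((v r - 1)⁻¹ * t) * φ r u * (X r ((v r - 1)⁻¹ * t))⁻¹) := by
      rw [hφ, hφ]
      simp only [commutatorElement_def]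
      group
    have e3 : X r ((v r - 1)⁻¹ * t) * φ r u = φ r u * X r ((v r - 1)⁻¹ * t) :=
      hLC r hr _ _ _ _ (hX r _) (hmap r hr u)
    rw [e1, e2, e3, mul_inv_cancel_right]
  · -- equivariance
    intro g f hg hgf s hs u
    obtain ⟨hH0, _, _⟩ := hhv s hs
    rw [hφ, hφ, conj_comm]
    have hζ : (Ht s)⁻¹ * (g * Ht s * g⁻¹) ∈ Subgroup.center E := by
      apply mem_center_of_map_mem_center ψ hψ hc hperf
      have := Cfsg.Agent.Lib.Helper29.StCC.H0_comm_mem_center S (inv_mem hH0) hg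
      rw [commutatorElement_def, inv_inv] at this
      rw [map_mul, map_mul, map_mul, map_inv, map_inv, hHt]
      convert this using 1
      group
    have e1 : g * Ht s * g⁻¹ = Ht s * ((Ht s)⁻¹ * (g * Ht s * g⁻¹)) := by group
    rw [e1, comm_mul_central_left hζ]
    apply comm_eq_of_map_eq ψ hc rfl
    rw [map_mul, map_mul, map_inv, hX, hX, hgf s hs]
    congr 1
    ring

end Cfsg.Agent.Lib.Helper14.StCC
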