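import Mathlib
import Cfsg.Prelude.Def_GeometricClasses
import Cfsg.Agent.Lib.Helper7.AschDefs
import Cfsg.Agent.Lib.Helper8.S5630I4TENS3
import Cfsg.Agent.Lib.Helper16.SpADefs

/-!
# S5662, SpT-T4: `sp_tensor_std` (helper26)

`q` odd, `G₁` skew, `G₂` symmetric, `3 ≤ s`: `InSp.tensor` with `f₁ := formOfGram id G₁`, `f₂ := formOfGram id G₂`, `c = 1`.
`TF f e P G₁ G₂` of the skeleton is stated unfolded (hypothesis `hT`).
-/

set_option autoImplicit false
set_option linter.unusedSectionVars false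
set_option linter.unusedVariables false

namespace Cfsg.Agent.Lib.Helper26.S5662SpT4

open Matrix Cfsg.Geo Cfsg.Agent.Lib.Helper7.Asch Cfsg.Agent.Lib.Helper16.SpA
open scoped Kronecker

variable {F : Type*} [Field F] [Fintype F] {n : ℕ} {f : (Fin n → F) → (Fin n → F) → F}

theorem two_ne_zero_of_odd' (hq : Odd (Fintype.card F)) : (2 : F) ≠ 0 := by
  intro h2
  obtain ⟨p, hp⟩ := CharP.exists F
  have hpp : p.Prime := by
    have := hp
    exact CharP.char_is_prime F p
  have hdvd : p ∣ 2 := by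
    have := (CharP.cast_eq_zero_iff F p 2).mp (by exact_mod_cast h2)
    exact this
  have hp2 : p = 2 := (Nat.prime_dvd_prime_iff_eq hpp Nat.prime_two).mp hdvd
  subst hp2
  have hcard : (2 : ℕ) ∣ Fintype.card F := by
    have := hp
    obtain ⟨k, _, hk⟩ := FiniteField.card F 2
    rw [hk]
    exact dvd_pow_self 2 (by exact k.ne_zero)
  exact (Nat.not_even_iff_odd.mpr hq) (even_iff_two_dvd.mpr hcard)

section fog

variable {K : Type*} [Field K] {d : ℕ}

theorem fog_eq (G : Matrix (Fin d) (Fin d) K) (x y : Fin d → K) :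
    formOfGram id G x y = x ⬝ᵥ G *ᵥ y := by
  unfold formOfGram
  simp only [dotProduct, Matrix.mulVec, id]
  refine Finset.sum_congr rfl fun a _ => ?_
  rw [Finset.mul_sum]
  refine Finset.sum_congr rfl fun b _ => ?_
  ring

theorem fog_bilinear (G : Matrix (Fin d) (Fin d) K) : IsBilinearForm (formOfGram id G) where
  add_left x y v := by rw [fog_eq, fog_eq, fog_eq, add_dotProduct]
  smul_left c x v := by rw [fog_eq, fog_eq, smul_dotProduct, smul_eq_mul]
  add_right v x y := by rw [fog_eq, fog_eq, fog_eq, Matrix.mulVec_add, dotProduct_add]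
  smul_right c v x := by rw [fog_eq, fog_eq, Matrix.mulVec_smul, dotProduct_smul, smul_eq_mul]

theorem fog_nondeg (G : Matrix (Fin d) (Fin d) K) (hG : IsUnit G.det) : IsNondegenerateForm (formOfGram id G) := by
  intro v hv
  constructor
  · have hne : G *ᵥ v ≠ 0 := by
      intro h
      apply hv
      have := congrArg (fun w => G⁻¹ *ᵥ w) h
      simpa [Matrix.mulVec_mulVec, Matrix.nonsing_inv_mul _ hG] using this
    obtain ⟨i, hi⟩ : ∃ i, (G *ᵥ v) i ≠ 0 := by
      by_contra hno
      push Not at hno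
      exact hne (funext hno)
    refine ⟨Pi.single i 1, ?_⟩
    rw [fog_eq]
    simpa using hi
  · have hne : Gᵀ *ᵥ v ≠ 0 := by
      intro h
      apply hv
      have hGt : IsUnit Gᵀ.det := by rw [Matrix.det_transpose]; exact hG
      have := congrArg (fun w => Gᵀ⁻¹ *ᵥ w) h
      simpa [Matrix.mulVec_mulVec, Matrix.nonsing_inv_mul _ hGt] using this
    obtain ⟨i, hi⟩ : ∃ i, (Gᵀ *ᵥ v) i ≠ 0 := by
      by_contra hno
      push Not at hno
      exact hne (funext hno)
    refine ⟨Pi.single i 1, ?_⟩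
    rw [fog_eq, Matrix.dotProduct_mulVec, ← Matrix.mulVec_transpose]
    simpa using hi

theorem fog_swap (G : Matrix (Fin d) (Fin d) K) (x y : Fin d → K) :
    formOfGram id G y x = formOfGram id Gᵀ x y := by
  rw [fog_eq, fog_eq, Matrix.dotProduct_mulVec, ← Matrix.mulVec_transpose, dotProduct_comm]

theorem gram_fog (G : Matrix (Fin d) (Fin d) K) : gramMatrix (formOfGram id G) = G := by
  ext a b
  unfold gramMatrix
  rw [fog_eq]
  simp

theorem fog_symmetric (G : Matrix (Fin d) (Fin d) K) (hG : IsUnit G.det) (hsym : Gᵀ = G) :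
    IsSymmetricForm (formOfGram id G) where
  bilinear := fog_bilinear G
  symm u v := by rw [fog_swap, hsym]
  nondegenerate := fog_nondeg G hG

theorem fog_symplectic (G : Matrix (Fin d) (Fin d) K) (hG : IsUnit G.det) (hskew : Gᵀ = -G) (h2 : (2 : K) ≠ 0) :
    IsSymplecticForm (formOfGram id G) := by
  have hsk : ∀ v w, formOfGram id G v w = - formOfGram id G w v := by
    intro v w
    rw [fog_swap G v w, hskew, fog_eq, fog_eq, Matrix.neg_mulVec, dotProduct_neg, neg_neg]
  refine ⟨fog_bilinear G, hsk, ?_, fog_nondeg G hG⟩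
  intro v
  have h := hsk v v
  have h' : (2 : K) * formOfGram id G v v = 0 := by
    rw [two_mul]
    nth_rewrite 2 [h]
    ring
  rcases mul_eq_zero.mp h' with h0 | h0
  · exact absurd h0 h2
  · exact h0

end fog

/-- **T4** -/
theorem sp_tensor_std (hf : IsSymplecticForm f) (hq : Odd (Fintype.card F)) (H : Subgroup (GL (Fin n) F)) {d s : ℕ}
    (e : Fin n ≃ Fin d × Fin s) (P : GL (Fin n) F) (G₁ : Matrix (Fin d) (Fin d) F) (G₂ : Matrix (Fin s) (Fin s) F)
    (hG1 : IsUnit G₁.det) (hG2 : IsUnit G₂.det) (h1 : G₁ᵀ = -G₁) (h2 : G₂ᵀ = G₂) (hs : 3 ≤ s)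
    (hT : ∀ x y : Fin d × Fin s → F,
      f ((P : Matrix (Fin n) (Fin n) F) *ᵥ (x ∘ e)) ((P : Matrix (Fin n) (Fin n) F) *ᵥ (y ∘ e)) =
        formOfGram id (G₁ ⊗ₖ G₂) x y)
    (hle : H ≤ tensorProductSubgroup d s e P) : InSp f H := by
  refine .tensor d s e P (formOfGram id G₁) (formOfGram id G₂) hq hs
    (fog_symplectic G₁ hG1 h1 (two_ne_zero_of_odd' hq)) (fog_symmetric G₂ hG2 h2) ?_ hle
  refine ⟨1, one_ne_zero, fun x y => ?_⟩
  rw [gram_fog, gram_fog, one_mul]
  exact hT x y

end Cfsg.Agent.Lib.Helper26.S5662SpT4
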