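import Mathlib
import Cfsg.Prelude.Def_GeometricClasses
import Cfsg.Agent.Lib.Helper7.AschDefs
import Cfsg.Agent.Lib.Helper8.S5630I4TENS3
import Cfsg.Agent.Lib.Helper16.SpADefs

/-!
# S5662, SpT-T7a: `diag_zero_of_irr` (helper26)

Characteristic 2, `Y` irreducible on `F^d`, `2 ≤ d`, `yᵀ G y = G`, `G` symmetric ⇒ `G a a = 0`.
-/

set_option autoImplicit false
set_option linter.unusedSectionVars false
set_option linter.unusedVariables false

namespace Cfsg.Agent.Lib.Helper26.S5662SpT7a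

open Matrix Cfsg.Geo Cfsg.Agent.Lib.Helper7.Asch Cfsg.Agent.Lib.Helper16.SpA
open scoped Kronecker

variable {F : Type*} [Field F] [Fintype F] {n : ℕ} {f : (Fin n → F) → (Fin n → F) → F}

theorem two_eq_zero_of_not_odd' (hq : ¬ Odd (Fintype.card F)) : (2 : F) = 0 := by
  obtain ⟨p, hp⟩ := CharP.exists F
  have := hp
  obtain ⟨k, hpp, hk⟩ := FiniteField.card F p
  have heven : Even (Fintype.card F) := Nat.not_odd_iff_even.mp hq
  rw [hk] at heven
  have hp2 : p = 2 := by
    have h2 : 2 ∣ p ^ (k : ℕ) := even_iff_two_dvd.mp heven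
    have := (Nat.Prime.dvd_of_dvd_pow Nat.prime_two h2)
    exact ((Nat.prime_dvd_prime_iff_eq Nat.prime_two hpp).mp this).symm
  subst hp2
  exact_mod_cast CharP.cast_eq_zero F 2

theorem exists_sq_eq (hq : ¬ Odd (Fintype.card F)) (x : F) : ∃ c : F, c * c = x := by
  have h2 : (2 : F) = 0 := two_eq_zero_of_not_odd' hq
  have hchar : ringChar F = 2 := by
    have hdvd : ringChar F ∣ 2 := by
      apply (ringChar.spec F 2).mp
      exact_mod_cast h2
    have hp : (ringChar F).Prime := CharP.char_is_prime F (ringChar F)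
    exact (Nat.prime_dvd_prime_iff_eq hp Nat.prime_two).mp hdvd
  obtain ⟨c, hc⟩ := FiniteField.isSquare_of_char_two hchar x
  exact ⟨c, hc.symm⟩

/-- the quadratic map `v ↦ vᵀ G v` -/
def qG {d : ℕ} (G : Matrix (Fin d) (Fin d) F) (v : Fin d → F) : F := v ⬝ᵥ G *ᵥ v

theorem qG_add {d : ℕ} (G : Matrix (Fin d) (Fin d) F) (hsym : Gᵀ = G) (u v : Fin d → F) :
    qG G (u + v) = qG G u + qG G v + 2 * (u ⬝ᵥ G *ᵥ v) := by
  unfold qG
  have h1 : v ⬝ᵥ G *ᵥ u = u ⬝ᵥ G *ᵥ v := by
    rw [Matrix.dotProduct_mulVec, ← Matrix.mulVec_transpose, hsym, dotProduct_comm]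
  rw [Matrix.mulVec_add, add_dotProduct, dotProduct_add, dotProduct_add, h1]
  ring

theorem qG_smul {d : ℕ} (G : Matrix (Fin d) (Fin d) F) (c : F) (v : Fin d → F) :
    qG G (c • v) = c * c * qG G v := by
  unfold qG
  rw [Matrix.mulVec_smul, smul_dotProduct, dotProduct_smul, smul_eq_mul, smul_eq_mul, mul_assoc]

theorem qG_single {d : ℕ} (G : Matrix (Fin d) (Fin d) F) (a : Fin d) :
    qG G (Pi.single a 1) = G a a := by
  unfold qG
  simp

theorem qG_mulVec {d : ℕ} (G y : Matrix (Fin d) (Fin d) F) (h : yᵀ * G * y = G) (v : Fin d → F) :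
    qG G (y *ᵥ v) = qG G v := by
  unfold qG
  conv_rhs => rw [← h]
  rw [Matrix.dotProduct_mulVec (y *ᵥ v), ← Matrix.mulVec_transpose, Matrix.mulVec_mulVec,
    ← Matrix.mulVec_mulVec, ← Matrix.mulVec_mulVec, ← Matrix.mulVec_mulVec, Matrix.dotProduct_mulVec v yᵀ,
    Matrix.vecMul_transpose, Matrix.dotProduct_mulVec (y *ᵥ v), ← Matrix.mulVec_transpose]

/-- **T7a** -/
theorem diag_zero_of_irr (hq : ¬ Odd (Fintype.card F)) {d : ℕ} (hd : 2 ≤ d) (Y : Subgroup (GL (Fin d) F)) (hY : Irr Y)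
    (G : Matrix (Fin d) (Fin d) F) (hsym : Gᵀ = G)
    (hinv : ∀ y ∈ Y, (y : Matrix (Fin d) (Fin d) F)ᵀ * G * (y : Matrix (Fin d) (Fin d) F) = G) (a : Fin d) : G a a = 0 := by
  have h2 : (2 : F) = 0 := two_eq_zero_of_not_odd' hq
  let W : Submodule F (Fin d → F) :=
    { carrier := {v | qG G v = 0}
      add_mem' := by
        intro u v hu hv
        simp only [Set.mem_ofPred_eq] at *
        rw [qG_add G hsym, hu, hv, h2]
        ring
      zero_mem' := by
        simp [qG]
      smul_mem' := by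
        intro c v hv
        simp only [Set.mem_ofPred_eq] at *
        rw [qG_smul, hv, mul_zero] }
  have hWmem : ∀ v, v ∈ W ↔ qG G v = 0 := fun v => Iff.rfl
  have hWinv : ∀ s ∈ matrixSet Y, W.map (Matrix.toLin' s) ≤ W := by
    rintro _ ⟨y, hy, rfl⟩ _ ⟨v, hv, rfl⟩
    rw [hWmem, Matrix.toLin'_apply, qG_mulVec G _ (hinv y hy)]
    exact hv
  have hWne : W ≠ ⊥ := by
    let i0 : Fin d := ⟨0, by omega⟩
    let i1 : Fin d := ⟨1, by omega⟩
    have h01 : i0 ≠ i1 := by
      intro h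
      have := congrArg Fin.val h
      simp [i0, i1] at this
    by_cases h0 : G i0 i0 = 0
    · intro hbot
      have hmem : (Pi.single i0 1 : Fin d → F) ∈ W := by
        rw [hWmem, qG_single, h0]
      rw [hbot, Submodule.mem_bot] at hmem
      have := congrFun hmem i0
      simp at this
    · obtain ⟨c, hc⟩ := exists_sq_eq hq (G i1 i1 / G i0 i0)
      intro hbot
      have hmem : (c • (Pi.single i0 1 : Fin d → F) + Pi.single i1 1) ∈ W := by
        rw [hWmem, qG_add G hsym, qG_smul, qG_single, qG_single, h2, hc, zero_mul, add_zero,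
          div_mul_cancel₀ _ h0]
        have : (G i1 i1 + G i1 i1) = 2 * G i1 i1 := by ring
        rw [this, h2, zero_mul]
      rw [hbot, Submodule.mem_bot] at hmem
      have := congrFun hmem i1
      simp [h01.symm] at this
  rcases hY W hWinv with h | h
  · exact absurd h hWne
  · have hmem : (Pi.single a 1 : Fin d → F) ∈ W := by
      rw [h]
      exact Submodule.mem_top
    rw [hWmem, qG_single] at hmem
    exact hmem

end Cfsg.Agent.Lib.Helper26.S5662SpT7a
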