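import Mathlib
import Cfsg.Agent.Lib.Helper16.FHDefs

set_option autoImplicit false

/-! S1142 farm-out ALG-1: the span of the alternating words of length at most `n` is the subalgebra
generated by `a`, `b` (quadratic relations and the relation of the alternating words of length `n`). -/

namespace Cfsg.Agent.Lib.Helper26.FH

open Cfsg.Agent.Lib.Helper16.FH

section

variable {R E : Type*} [CommRing R] [Ring E] [Algebra R E]

/-- the span of the alternating words of length at most `n` -/
def altSpan (R : Type*) {E : Type*} [CommRing R] [Ring E] [Algebra R E] (a b : E) (n : ℕ) :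
    Submodule R E :=
  Submodule.span R ((fun k => alt a b k) '' Set.Iic n ∪ (fun k => alt b a k) '' Set.Iic n)

theorem altSpan_comm (a b : E) (n : ℕ) : altSpan R a b n = altSpan R b a n := by
  unfold altSpan
  rw [Set.union_comm]

theorem alt_mem_altSpan (a b : E) {n k : ℕ} (hk : k ≤ n) : alt a b k ∈ altSpan R a b n :=
  Submodule.subset_span (Or.inl ⟨k, hk, rfl⟩)

theorem alt_mem_altSpan' (a b : E) {n k : ℕ} (hk : k ≤ n) : alt b a k ∈ altSpan R a b n :=
  Submodule.subset_span (Or.inr ⟨k, hk, rfl⟩)

theorem mul_alt_mem (a b : E) (p : R) (n : ℕ) (hn : 1 ≤ n)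
    (ha : a * a = p • (1 : E) + (p - 1) • a) (hbr : alt a b n = alt b a n) :
    (∀ k ≤ n, a * alt a b k ∈ altSpan R a b n) ∧ (∀ k ≤ n, a * alt b a k ∈ altSpan R a b n) := by
  have h1 : ∀ k ≤ n, a * alt a b k ∈ altSpan R a b n := by
    intro k hk
    cases k with
    | zero =>
      have : a * alt a b 0 = alt a b 1 := by simp
      rw [this]
      exact alt_mem_altSpan a b hn
    | succ k' =>
      rw [alt_succ, ← mul_assoc, ha, add_mul, smul_mul_assoc, one_mul, smul_mul_assoc, ← alt_succ]
      exact Submodule.add_mem _ (Submodule.smul_mem _ _ (alt_mem_altSpan' a b (by omega)))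
        (Submodule.smul_mem _ _ (alt_mem_altSpan a b hk))
  refine ⟨h1, fun k hk => ?_⟩
  rcases Nat.lt_or_ge k n with h | h
  · rw [← alt_succ]
    exact alt_mem_altSpan a b h
  · have : k = n := le_antisymm hk h
    subst this
    rw [← hbr]
    exact h1 _ le_rfl

theorem mul_mem_altSpan (a b : E) (p : R) (n : ℕ) (hn : 1 ≤ n)
    (ha : a * a = p • (1 : E) + (p - 1) • a) (hbr : alt a b n = alt b a n) {w : E}
    (hw : w ∈ altSpan R a b n) : a * w ∈ altSpan R a b n := by
  obtain ⟨h1, h2⟩ := mul_alt_mem a b p n hn ha hbr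
  unfold altSpan at hw
  induction hw using Submodule.span_induction with
  | mem x hx =>
    rcases hx with ⟨k, hk, rfl⟩ | ⟨k, hk, rfl⟩
    · exact h1 k hk
    · exact h2 k hk
  | zero =>
    rw [mul_zero]
    exact Submodule.zero_mem _
  | add x y _ _ hx hy =>
    rw [mul_add]
    exact Submodule.add_mem _ hx hy
  | smul r x _ hx =>
    rw [mul_smul_comm]
    exact Submodule.smul_mem _ _ hx

/-- ALG-1 -/
theorem adjoin_eq_span_alt (a b : E) (p q : R)
    (n : ℕ) (hn : 1 ≤ n)
    (ha : a * a = p • (1 : E) + (p - 1) • a) (hb : b * b = q • (1 : E) + (q - 1) • b)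
    (hbr : alt a b n = alt b a n) :
    Subalgebra.toSubmodule (Algebra.adjoin R ({a, b} : Set E)) =
      Submodule.span R ((fun k => alt a b k) '' Set.Iic n ∪ (fun k => alt b a k) '' Set.Iic n) := by
  change _ = altSpan R a b n
  apply le_antisymm
  · rw [Algebra.adjoin_eq_span]
    apply Submodule.span_le.mpr
    intro x hx
    induction hx using Submonoid.closure_induction_left with
    | one => exact alt_mem_altSpan a b (Nat.zero_le n)
    | mul_left x hx y _ hy =>
      rcases hx with rfl | rfl
      · exact mul_mem_altSpan x b p n hn ha hbr hy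
      · rw [altSpan_comm] at hy ⊢
        exact mul_mem_altSpan x a q n hn hb hbr.symm hy
  · apply Submodule.span_le.mpr
    have : ∀ k, alt a b k ∈ Algebra.adjoin R ({a, b} : Set E) ∧
        alt b a k ∈ Algebra.adjoin R ({a, b} : Set E) := by
      intro k
      induction k with
      | zero => exact ⟨one_mem _, one_mem _⟩
      | succ k ih =>
        exact ⟨mul_mem (Algebra.subset_adjoin (by simp)) ih.2,
          mul_mem (Algebra.subset_adjoin (by simp)) ih.1⟩
    rintro x (⟨k, _, rfl⟩ | ⟨k, _, rfl⟩)
    · exact (this k).1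
    · exact (this k).2

end

end Cfsg.Agent.Lib.Helper26.FH
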