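import Mathlib

/-!
# S5630 block I6, half B (sub-architect helper3): pieces GEN-FROB, GEN-SIGMA, GEN-AR1, GEN-AR2 (helper26)
-/

set_option autoImplicit false

namespace Cfsg.Agent.Lib.Helper26.S5630I6BGen

variable {F : Type*} [Field F]

/-- a generator-type element: `g ≠ 0` with `g ^ n = 1 → |F| - 1 ∣ n` -/
theorem exists_gen' [Fintype F] :
    ∃ g : F, g ≠ 0 ∧ ∀ n : ℕ, g ^ n = 1 → (Fintype.card F - 1) ∣ n := by
  classical
  obtain ⟨g, hg⟩ := IsCyclic.exists_generator (α := Fˣ)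
  have hord : orderOf g = Fintype.card F - 1 := by
    rw [orderOf_eq_card_of_forall_mem_zpowers hg, Nat.card_eq_fintype_card, Fintype.card_units]
  refine ⟨(g : F), g.ne_zero, ?_⟩
  intro n hn
  have : g ^ n = 1 := by
    apply Units.ext
    rw [Units.val_pow_eq_pow_val, hn, Units.val_one]
  rw [← hord]
  exact orderOf_dvd_of_pow_eq_one this

/-- not every element is fixed by `x ↦ x ^ m` when `2 ≤ m < |F|` -/
theorem exists_pow_ne [Fintype F] (m : ℕ) (hm : 2 ≤ m) (hlt : m < Fintype.card F) :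
    ∃ x : F, x ^ m ≠ x := by
  obtain ⟨g, hg0, hg⟩ := exists_gen' (F := F)
  refine ⟨g, ?_⟩
  intro h
  have h1 : g ^ (m - 1) = 1 := by
    have h2 : g ^ (m - 1) * g = g := by
      rw [← pow_succ]
      have : m - 1 + 1 = m := by omega
      rw [this, h]
    have h3 : (g ^ (m - 1) - 1) * g = 0 := by rw [sub_mul, h2, one_mul, sub_self]
    rcases mul_eq_zero.mp h3 with h4 | h4
    · exact sub_eq_zero.mp h4
    · exact absurd h4 hg0
  have hd := hg _ h1
  have hle := Nat.le_of_dvd (by omega) hd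
  omega

/-- **GEN-FROB** the fixed field of `x ↦ x ^ (p ^ d)` is a proper subfield when `p ^ d < |F|` -/
theorem exists_subfield_pow [Fintype F] (p d : ℕ) (hp : p.Prime) (hc : CharP F p) (hd : 0 < d)
    (hlt : p ^ d < Fintype.card F) :
    ∃ F₀ : Subfield F, F₀ ≠ ⊤ ∧ ∀ x : F, x ^ (p ^ d) = x → x ∈ F₀ := by
  have := hc
  have : ExpChar F p := ExpChar.prime hp
  refine ⟨RingHom.eqLocusField (iterateFrobenius F p d) (RingHom.id F), ?_, ?_⟩
  · intro htop
    have h2 : 2 ≤ p ^ d := by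
      calc 2 ≤ p := hp.two_le
        _ = p ^ 1 := (pow_one p).symm
        _ ≤ p ^ d := Nat.pow_le_pow_right hp.pos hd
    obtain ⟨x, hx⟩ := exists_pow_ne (F := F) (p ^ d) h2 hlt
    apply hx
    have hmem : x ∈ RingHom.eqLocusField (iterateFrobenius F p d) (RingHom.id F) := by
      rw [htop]; exact Subfield.mem_top x
    have : iterateFrobenius F p d x = RingHom.id F x := hmem
    rwa [iterateFrobenius_def, RingHom.id_apply] at this
  · intro x hx
    show iterateFrobenius F p d x = RingHom.id F x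
    rw [iterateFrobenius_def, RingHom.id_apply, hx]

/-- **GEN-SIGMA** the involutory field automorphism of the field with `p ^ (2k)` elements -/
theorem exists_sigma [Fintype F] (p k : ℕ) (hp : p.Prime) (hc : CharP F p) (hk : 0 < k)
    (hq : Fintype.card F = p ^ (2 * k)) :
    ∃ σ : F ≃+* F, σ ≠ RingEquiv.refl F ∧ (∀ a, σ (σ a) = a) ∧ ∀ a, σ a = a ^ (p ^ k) := by
  have := hc
  have : ExpChar F p := ExpChar.prime hp
  have hbij : Function.Bijective (iterateFrobenius F p k) :=
    Finite.injective_iff_bijective.mp (iterateFrobenius F p k).injective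
  refine ⟨RingEquiv.ofBijective (iterateFrobenius F p k) hbij, ?_, ?_, ?_⟩
  · intro h
    have h2 : 2 ≤ p ^ k := by
      calc 2 ≤ p := hp.two_le
        _ = p ^ 1 := (pow_one p).symm
        _ ≤ p ^ k := Nat.pow_le_pow_right hp.pos hk
    have hlt : p ^ k < Fintype.card F := by
      rw [hq]
      exact Nat.pow_lt_pow_right hp.one_lt (by omega)
    obtain ⟨x, hx⟩ := exists_pow_ne (F := F) (p ^ k) h2 hlt
    apply hx
    have := congrArg (fun σ : F ≃+* F => σ x) h
    simp only [RingEquiv.ofBijective_apply, RingEquiv.refl_apply, iterateFrobenius_def] at this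
    exact this
  · intro a
    simp only [RingEquiv.ofBijective_apply, iterateFrobenius_def]
    rw [← pow_mul, ← pow_add, ← two_mul, ← hq, FiniteField.pow_card]
  · intro a
    simp only [RingEquiv.ofBijective_apply, iterateFrobenius_def]

theorem pow_odd_mod_four (p m : ℕ) (hm : 1 ≤ m) :
    p ^ (2 * m + 1) % 4 = if p % 4 = 1 then 1 else if p % 4 = 3 then 3 else 0 := by
  rw [Nat.pow_mod]
  have h4 : p % 4 < 4 := Nat.mod_lt _ (by norm_num)
  have key : ∀ r : ℕ, r ^ (2 * m + 1) = (r ^ 2) ^ m * r := by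
    intro r; rw [pow_succ, pow_mul]
  rw [key, Nat.mul_mod, Nat.pow_mod]
  interval_cases h : p % 4
  · simp
  · simp
  · have : (2 ^ 2 % 4) = 0 := by norm_num
    rw [this, zero_pow (by omega)]
    norm_num
  · have : (3 ^ 2 % 4) = 1 := by norm_num
    rw [this, one_pow]
    norm_num

/-- **GEN-AR1** `4 ∣ p ^ e - 1`, `e` odd and minimal: `e = 1` -/
theorem e_eq_one_of_four (p e : ℕ) (h4 : 4 ∣ p ^ e - 1) (hmin : ∀ d : ℕ, 0 < d → d < e → ¬ 4 ∣ p ^ d - 1)
    (he : Odd e) : e = 1 := by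
  by_contra hne
  obtain ⟨m, rfl⟩ := he
  have hm : 1 ≤ m := by
    by_contra h
    apply hne
    omega
  have h1 := hmin 1 (by omega) (by omega)
  rw [pow_one] at h1
  have hmod := pow_odd_mod_four p m hm
  by_cases hp0 : p = 0
  · subst hp0
    exact h1 (by norm_num)
  have hpos : 1 ≤ p ^ (2 * m + 1) := Nat.one_le_pow _ _ (by omega)
  have h4' : (p ^ (2 * m + 1) - 1) % 4 = 0 := Nat.mod_eq_zero_of_dvd h4
  have h1' : (p - 1) % 4 ≠ 0 := fun h => h1 (Nat.dvd_of_mod_eq_zero h)
  generalize p ^ (2 * m + 1) = N at *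
  split_ifs at hmod with ha hb
  · omega
  · omega
  · omega

/-- **GEN-AR2** `z = r` an odd prime or `z = 4`; `z ∣ p ^ (2k) - 1`, `z ∤ p ^ k - 1`: `z ∣ p ^ k + 1` -/
theorem dvd_pow_add_one (r p k : ℕ) (hr : r.Prime) (h1 : r * Nat.gcd 2 r ∣ p ^ (2 * k) - 1)
    (h2 : ¬ r * Nat.gcd 2 r ∣ p ^ k - 1) : r * Nat.gcd 2 r ∣ p ^ k + 1 := by
  have hsq : p ^ (2 * k) = p ^ k * p ^ k := by rw [two_mul, pow_add]
  rw [hsq] at h1
  generalize p ^ k = A at *
  have hA : 1 ≤ A := by
    by_contra h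
    have : A = 0 := by omega
    subst this
    exact h2 (by simp)
  have hfac : A * A - 1 = (A - 1) * (A + 1) := by
    obtain ⟨B, rfl⟩ : ∃ B, A = B + 1 := ⟨A - 1, by omega⟩
    have : (B + 1) * (B + 1) - 1 = B * (B + 2) := by
      have : (B + 1) * (B + 1) = B * (B + 2) + 1 := by ring
      omega
    simpa using this
  by_cases hr2 : r = 2
  · subst hr2
    have hz : 2 * Nat.gcd 2 2 = 4 := by norm_num
    rw [hz] at h1 h2 ⊢
    have hm : (A * A) % 4 = ((A % 4) * (A % 4)) % 4 := Nat.mul_mod A A 4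
    have h1' : (A * A - 1) % 4 = 0 := Nat.mod_eq_zero_of_dvd h1
    have h2' : (A - 1) % 4 ≠ 0 := fun h => h2 (Nat.dvd_of_mod_eq_zero h)
    have hAA : 1 ≤ A * A := Nat.mul_pos hA hA
    apply Nat.dvd_of_mod_eq_zero
    have h4 : A % 4 < 4 := Nat.mod_lt _ (by norm_num)
    generalize A * A = N at *
    interval_cases h : A % 4 <;> simp at hm <;> omega
  · have hg : Nat.gcd 2 r = 1 := by
      have : Nat.Coprime 2 r := (Nat.coprime_primes Nat.prime_two hr).mpr (Ne.symm hr2)
      exact this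
    rw [hg, mul_one] at h1 h2 ⊢
    rw [hfac] at h1
    rcases (Nat.Prime.dvd_mul hr).mp h1 with h | h
    · exact absurd h h2
    · exact h

end Cfsg.Agent.Lib.Helper26.S5630I6BGen
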