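import Mathlib
import Cfsg.Agent.Lib.Helper17.ExtFDefs

/-!
# S5886 : shared basics for helper26's pieces
-/

set_option autoImplicit false
set_option linter.unusedSectionVars false

namespace Cfsg.Agent.Lib.Helper26.S5886B

open Matrix Module Cfsg.Agent.Lib.Helper17.ExtF

variable {F : Type*} [Field F] [Fintype F] {L : Type*} [Field L] [Algebra F L] {n : ℕ}
  (ρ : L →ₐ[F] Matrix (Fin n) (Fin n) F) {r : ℕ}

/-! ### generalities -/

lemma actL_injective (k : GL (Fin n) F) : Function.Injective (actL k) := act_injective k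

lemma actL_mul (k k' : GL (Fin n) F) : actL (k * k') = (actL k) ∘ₗ (actL k') := by
  apply LinearMap.ext
  intro v
  simp

lemma map_actL_mul (k k' : GL (Fin n) F) (A : Submodule F (Fin n → F)) :
    A.map (actL (k * k')) = (A.map (actL k')).map (actL k) := by
  rw [actL_mul, Submodule.map_comp]

lemma map_actL_one (A : Submodule F (Fin n → F)) : A.map (actL (1 : GL (Fin n) F)) = A := by
  have : actL (1 : GL (Fin n) F) = LinearMap.id := by
    apply LinearMap.ext
    intro v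
    simp
  rw [this, Submodule.map_id]

lemma finrank_map_actL (k : GL (Fin n) F) (A : Submodule F (Fin n → F)) :
    finrank F ↥(A.map (actL k)) = finrank F ↥A :=
  (LinearEquiv.finrank_eq (Submodule.equivMapOfInjective (actL k) (actL_injective k) A)).symm

lemma map_actL_inf (k : GL (Fin n) F) (A B : Submodule F (Fin n → F)) :
    (A ⊓ B).map (actL k) = A.map (actL k) ⊓ B.map (actL k) :=
  Submodule.map_inf (actL k) (actL_injective k)

lemma orb_injective {v : Fin n → F} (hv : v ≠ 0) : Function.Injective (orb ρ v) := by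
  rw [← LinearMap.ker_eq_bot, Submodule.eq_bot_iff]
  intro a ha
  by_contra hne
  apply hv
  have h1 : ρ a *ᵥ v = 0 := ha
  calc v = ρ (a⁻¹ * a) *ᵥ v := by rw [inv_mul_cancel₀ hne, rho_one_mulVec]
    _ = ρ a⁻¹ *ᵥ (ρ a *ᵥ v) := rho_mul_mulVec ρ _ _ _
    _ = 0 := by rw [h1, Matrix.mulVec_zero]

lemma finrank_le_n (A : Submodule F (Fin n → F)) : finrank F ↥A ≤ n := by
  have := Submodule.finrank_le A
  simpa using this


/-- rank-nullity for a linear map restricted to a subspace -/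
lemma finrank_map_add_finrank_inf_ker (P : Submodule F (Fin n → F)) (ψ : (Fin n → F) →ₗ[F] L) :
    finrank F ↥(P.map ψ) + finrank F ↥(P ⊓ LinearMap.ker ψ) = finrank F ↥P := by
  have h := LinearMap.finrank_range_add_finrank_ker (ψ.domRestrict P)
  rw [LinearMap.range_domRestrict, LinearMap.ker_domRestrict] at h
  have e := (P.equivSubtypeMap ((LinearMap.ker ψ).comap P.subtype)).finrank_eq
  rw [Submodule.map_comap_subtype] at e
  rw [← e]
  exact h

/-- the elementary `L`-transvection `v ↦ v + ρ (a * ψ v) *ᵥ v₁` (for `ψ v₁ = 0`) -/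
lemma exists_xa (H : Subgroup (GL (Fin n) F)) (hE : HasElem ρ H) (ψ : (Fin n → F) →ₗ[F] L)
    (hψ : Lin ρ ψ) (v₁ : Fin n → F) (h0 : ψ v₁ = 0) (a : L) :
    ∃ x : GL (Fin n) F, x ∈ H ∧ (∀ v, act x v = v + ρ (a * ψ v) *ᵥ v₁) := by
  let f : (Fin n → F) →ₗ[F] (Fin n → F) :=
    LinearMap.id + (orb ρ v₁) ∘ₗ (LinearMap.mulLeft F a) ∘ₗ ψ
  let f' : (Fin n → F) →ₗ[F] (Fin n → F) :=
    LinearMap.id - (orb ρ v₁) ∘ₗ (LinearMap.mulLeft F a) ∘ₗ ψ
  have hf : ∀ v, f v = v + ρ (a * ψ v) *ᵥ v₁ := fun v => by simp [f]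
  have hf' : ∀ v, f' v = v - ρ (a * ψ v) *ᵥ v₁ := fun v => by simp [f']
  have hψo : ∀ c : L, ψ (ρ c *ᵥ v₁) = 0 := fun c => by rw [hψ c v₁, h0, mul_zero]
  have h1 : ∀ v, f (f' v) = v := by
    intro v
    rw [hf, hf', map_sub, hψo, sub_zero]
    abel
  have h2 : ∀ v, f' (f v) = v := by
    intro v
    rw [hf', hf, map_add, hψo, add_zero]
    abel
  obtain ⟨x, hx, -⟩ := exists_gl f f' h1 h2
  refine ⟨x, ?_, fun v => by rw [hx, hf]⟩
  apply hE ((LinearMap.mulLeft F a) ∘ₗ ψ) v₁ (hψ.mulLeft a)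
  · simp [h0]
  · intro v
    rw [hx, hf]
    simp

end Cfsg.Agent.Lib.Helper26.S5886B
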