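import Mathlib
import Cfsg.Agent.Lib.Helper17.ExtFDefs
import Cfsg.Agent.Lib.Helper26.S5886Base
import Cfsg.Agent.Lib.Helper21.S5886FOEa
import Cfsg.Agent.Lib.Helper21.S5886FOEb
import Cfsg.Agent.H5.S5886FONORM

/-!
# S5886 FO-SPREAD : one transvection gives all transvections whose axis contains the `L`-point
of the centre (`hasT0_of_one`)
-/

set_option autoImplicit false
set_option linter.unusedSectionVars false

namespace Cfsg.Agent.Lib.Helper26.S5886SP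

open Matrix Module Cfsg.Agent.Lib.Helper17.ExtF Cfsg.Agent.Lib.Helper26.S5886B

variable {F : Type*} [Field F] [Fintype F] {L : Type*} [Field L] [Algebra F L] {n : ℕ}
  (ρ : L →ₐ[F] Matrix (Fin n) (Fin n) F) {r : ℕ}

/-! ### `F`-transvections -/

/-- existence of the transvection `v ↦ v + φ v • u` (for `φ u = 0`) as a `GL` element -/
lemma exists_tv (φ : (Fin n → F) →ₗ[F] F) (u : Fin n → F) (h0 : φ u = 0) :
    ∃ t : GL (Fin n) F, (∀ v, act t v = v + φ v • u) ∧ (∀ v, act t⁻¹ v = v - φ v • u) := by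
  let f : (Fin n → F) →ₗ[F] (Fin n → F) := LinearMap.id + (LinearMap.toSpanSingleton F _ u) ∘ₗ φ
  let f' : (Fin n → F) →ₗ[F] (Fin n → F) := LinearMap.id - (LinearMap.toSpanSingleton F _ u) ∘ₗ φ
  have hf : ∀ v, f v = v + φ v • u := fun v => by simp [f]
  have hf' : ∀ v, f' v = v - φ v • u := fun v => by simp [f']
  have h1 : ∀ v, f (f' v) = v := by
    intro v
    rw [hf, hf', map_sub, map_smul, h0, smul_zero, sub_zero]
    abel
  have h2 : ∀ v, f' (f v) = v := by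
    intro v
    rw [hf', hf, map_add, map_smul, h0, smul_zero, add_zero]
    abel
  obtain ⟨t, ht, ht'⟩ := exists_gl f f' h1 h2
  exact ⟨t, fun v => by rw [ht, hf], fun v => by rw [ht', hf']⟩

/-- conjugation of a transvection: if `k ∈ H` and `φ' ∘ k = φ` then `TV H φ u → TV H φ' (k u)` -/
lemma TV.conj {H : Subgroup (GL (Fin n) F)} {φ φ' : (Fin n → F) →ₗ[F] F} {u : Fin n → F}
    (h : TV H φ u) (k : GL (Fin n) F) (hk : k ∈ H) (hφ : ∀ v, φ' (act k v) = φ v) :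
    TV H φ' (act k u) := by
  intro g' hg'
  have hg : k⁻¹ * g' * k ∈ H := by
    apply h
    intro v
    rw [act_mul, act_mul, hg', act_add, act_inv_act, act_smul, act_inv_act, hφ]
  have : g' = k * (k⁻¹ * g' * k) * k⁻¹ := by group
  rw [this]
  exact H.mul_mem (H.mul_mem hk hg) (H.inv_mem hk)

lemma TV.zero (H : Subgroup (GL (Fin n) F)) (φ : (Fin n → F) →ₗ[F] F) : TV H φ 0 := by
  intro g hg
  have : g = 1 := gl_ext fun v => by rw [hg, smul_zero, add_zero, act_one]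
  rw [this]
  exact H.one_mem

lemma TV.add {H : Subgroup (GL (Fin n) F)} {φ : (Fin n → F) →ₗ[F] F} {u u' : Fin n → F}
    (hu : φ u = 0) (hu' : φ u' = 0) (h : TV H φ u) (h' : TV H φ u') : TV H φ (u + u') := by
  intro g hg
  obtain ⟨t, ht, -⟩ := exists_tv φ u hu
  obtain ⟨t', ht', -⟩ := exists_tv φ u' hu'
  have : g = t * t' := gl_ext fun v => by
    rw [hg, act_mul, ht', ht, map_add, map_smul, hu', smul_zero, add_zero, smul_add]
    abel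
  rw [this]
  exact H.mul_mem (h t ht) (h' t' ht')

lemma TV.neg {H : Subgroup (GL (Fin n) F)} {φ : (Fin n → F) →ₗ[F] F} {u : Fin n → F}
    (hu : φ u = 0) (h : TV H φ u) : TV H φ (-u) := by
  intro g hg
  obtain ⟨t, ht, ht'⟩ := exists_tv φ u hu
  have : g = t⁻¹ := gl_ext fun v => by
    rw [hg, ht', smul_neg]
    abel
  rw [this]
  exact H.inv_mem (h t ht)

lemma TV.congr {H : Subgroup (GL (Fin n) F)} {φ φ' : (Fin n → F) →ₗ[F] F} {u : Fin n → F}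
    (h : TV H φ u) (hφ : ∀ v, φ' v = φ v) : TV H φ' u := by
  intro g hg
  exact h g fun v => by rw [hg, hφ]

/-- the additive group `C` of centres `u ∈ ker ψ₀` with `T(τ ∘ ψ₀, u) ∈ H` -/
def Cgrp (H : Subgroup (GL (Fin n) F)) (ψ₀ : (Fin n → F) →ₗ[F] L) (τ : L →ₗ[F] F) :
    AddSubgroup (Fin n → F) where
  carrier := {u | ψ₀ u = 0 ∧ TV H (τ ∘ₗ ψ₀) u}
  zero_mem' := ⟨map_zero _, TV.zero H _⟩
  add_mem' := by
    rintro u u' ⟨hu, hT⟩ ⟨hu', hT'⟩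
    refine ⟨by rw [map_add, hu, hu', add_zero], ?_⟩
    exact TV.add (by simp [hu]) (by simp [hu']) hT hT'
  neg_mem' := by
    rintro u ⟨hu, hT⟩
    refine ⟨by rw [map_neg, hu, neg_zero], ?_⟩
    exact TV.neg (by simp [hu]) hT

lemma mem_Cgrp (H : Subgroup (GL (Fin n) F)) (ψ₀ : (Fin n → F) →ₗ[F] L) (τ : L →ₗ[F] F)
    (u : Fin n → F) : u ∈ Cgrp H ψ₀ τ ↔ ψ₀ u = 0 ∧ TV H (τ ∘ₗ ψ₀) u := Iff.rfl

/-- if `k ∈ H` preserves `ψ₀` then it preserves `C` -/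
lemma Cgrp_act {H : Subgroup (GL (Fin n) F)} {ψ₀ : (Fin n → F) →ₗ[F] L} {τ : L →ₗ[F] F}
    (k : GL (Fin n) F) (hk : k ∈ H) (hψ : ∀ v, ψ₀ (act k v) = ψ₀ v) {u : Fin n → F}
    (hu : u ∈ Cgrp H ψ₀ τ) : act k u ∈ Cgrp H ψ₀ τ := by
  refine ⟨by rw [hψ]; exact hu.1, ?_⟩
  exact TV.conj hu.2 k hk fun v => by simp [hψ]

/-- the norm-one dilatation `v ↦ v + ρ ((ν - 1) * π v) *ᵥ u₀` (for `π u₀ = 1`) -/
lemma exists_dil (H : Subgroup (GL (Fin n) F)) (hE : HasElem ρ H) (π : (Fin n → F) →ₗ[F] L)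
    (hπ : Lin ρ π) (u₀ : Fin n → F) (h1 : π u₀ = 1) (hfin : 0 < finrank F L) (ν : L)
    (hν : Algebra.norm F ν = 1) :
    ∃ x : GL (Fin n) F, x ∈ H ∧ (∀ v, act x v = v + ρ ((ν - 1) * π v) *ᵥ u₀) := by
  have : Module.Finite F L := Module.finite_of_finrank_pos hfin
  have hν0 : ν ≠ 0 := by
    rintro rfl
    rw [Algebra.norm_zero] at hν
    exact zero_ne_one hν
  let f : (Fin n → F) →ₗ[F] (Fin n → F) :=
    LinearMap.id + (orb ρ u₀) ∘ₗ (LinearMap.mulLeft F (ν - 1)) ∘ₗ π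
  let f' : (Fin n → F) →ₗ[F] (Fin n → F) :=
    LinearMap.id + (orb ρ u₀) ∘ₗ (LinearMap.mulLeft F (ν⁻¹ - 1)) ∘ₗ π
  have hf : ∀ v, f v = v + ρ ((ν - 1) * π v) *ᵥ u₀ := fun v => by simp [f]
  have hf' : ∀ v, f' v = v + ρ ((ν⁻¹ - 1) * π v) *ᵥ u₀ := fun v => by simp [f']
  have hπo : ∀ c : L, π (ρ c *ᵥ u₀) = c := fun c => by rw [hπ c u₀, h1, mul_one]
  have h1' : ∀ v, f (f' v) = v := by
    intro v
    rw [hf, hf', map_add, hπo, add_assoc, ← rho_add_mulVec]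
    have : (ν⁻¹ - 1) * π v + (ν - 1) * (π v + (ν⁻¹ - 1) * π v) = 0 := by
      field_simp
      ring
    rw [this, rho_zero_mulVec, add_zero]
  have h2' : ∀ v, f' (f v) = v := by
    intro v
    rw [hf', hf, map_add, hπo, add_assoc, ← rho_add_mulVec]
    have : (ν - 1) * π v + (ν⁻¹ - 1) * (π v + (ν - 1) * π v) = 0 := by
      field_simp
      ring
    rw [this, rho_zero_mulVec, add_zero]
  obtain ⟨x, hx, -⟩ := exists_gl f f' h1' h2'
  refine ⟨x, ?_, fun v => by rw [hx, hf]⟩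
  apply hE ((LinearMap.mulLeft F (ν - 1)) ∘ₗ π) u₀ (hπ.mulLeft (ν - 1))
  · simp [h1, hν]
  · intro v
    rw [hx, hf]
    simp


/-- `Full ψ`: all transvections `T(τ ∘ ψ, u)`, `u ∈ ker ψ`, lie in `H` -/
def Full (H : Subgroup (GL (Fin n) F)) (τ : L →ₗ[F] F) (ψ : (Fin n → F) →ₗ[F] L) : Prop :=
  ∀ u, ψ u = 0 → TV H (τ ∘ₗ ψ) u

lemma not_mem_pt_zero {u : Fin n → F} (hu : u ≠ 0) : u ∉ pt ρ (0 : Fin n → F) := by
  rintro ⟨a, ha⟩
  change ρ a *ᵥ 0 = u at ha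
  rw [Matrix.mulVec_zero] at ha
  exact hu ha.symm

/-- S2 : one transvection `T(τ ∘ ψ₀, u₀)` gives all `T(τ ∘ ψ₀, u)`, `u ∈ ker ψ₀` -/
lemma full_of_one (hr : r.Prime) (hrk : finrank F L = r)
    (H : Subgroup (GL (Fin n) F)) (hE : HasElem ρ H) (ψ₀ : (Fin n → F) →ₗ[F] L)
    (hψ₀ : Lin ρ ψ₀) (τ : L →ₗ[F] F) (u₀ : Fin n → F) (hu₀ : u₀ ≠ 0) (hψu : ψ₀ u₀ = 0)
    (hT : TV H (τ ∘ₗ ψ₀) u₀) : Full H τ ψ₀ := by
  have hu₀C : u₀ ∈ Cgrp H ψ₀ τ := ⟨hψu, hT⟩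
  have hrpos : 0 < r := hr.pos
  obtain ⟨π, hπ, -, hπu⟩ := Cfsg.Agent.Lib.Helper21.S5886E.exists_lin_sep ρ hrk hrpos 0 u₀ (not_mem_pt_zero ρ hu₀)
  -- `L u₀ ⊆ C`
  have hLu : ∀ x : L, ρ x *ᵥ u₀ ∈ Cgrp H ψ₀ τ := by
    intro x
    have hx := Cfsg.H5.S5886.mem_closure_norm_one (F := F) hrk hr.two_le x
    refine AddSubgroup.closure_induction (p := fun x _ => ρ x *ᵥ u₀ ∈ Cgrp H ψ₀ τ)
      ?_ ?_ ?_ ?_ hx
    · intro ν hν
      obtain ⟨k, hkH, hk⟩ := exists_dil ρ H hE π hπ u₀ hπu (by omega) ν hν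
      have h1 := Cgrp_act k hkH
        (fun v => by rw [hk, map_add, hψ₀, hψu, mul_zero, add_zero]) hu₀C
      rw [hk, hπu, mul_one] at h1
      have h2 : u₀ + ρ (ν - 1) *ᵥ u₀ = ρ ν *ᵥ u₀ := by
        have h3 := rho_add_mulVec ρ 1 (ν - 1) u₀
        rw [rho_one_mulVec] at h3
        rw [← h3]
        congr 2
        ring
      rw [← h2]
      exact h1
    · rw [rho_zero_mulVec]
      exact (Cgrp H ψ₀ τ).zero_mem
    · intro x y _ _ hx hy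
      rw [rho_add_mulVec]
      exact (Cgrp H ψ₀ τ).add_mem hx hy
    · intro x _ hx
      rw [map_neg, Matrix.neg_mulVec]
      exact (Cgrp H ψ₀ τ).neg_mem hx
  intro u hu
  by_cases hmem : u ∈ pt ρ u₀
  · obtain ⟨x, rfl⟩ := hmem
    exact (hLu x).2
  · -- `u₀ ∉ L u`
    have hu₀u : u₀ ∉ pt ρ u := by
      rintro ⟨a, ha⟩
      change ρ a *ᵥ u = u₀ at ha
      apply hmem
      have ha0 : a ≠ 0 := by
        rintro rfl
        rw [rho_zero_mulVec] at ha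
        exact hu₀ ha.symm
      refine ⟨a⁻¹, ?_⟩
      change ρ a⁻¹ *ᵥ u₀ = u
      rw [← ha, ← rho_mul_mulVec, inv_mul_cancel₀ ha0, rho_one_mulVec]
    obtain ⟨χ, hχ, hχu, hχu₀⟩ := Cfsg.Agent.Lib.Helper21.S5886E.exists_lin_sep ρ hrk hrpos u u₀ hu₀u
    obtain ⟨k, hkH, hk⟩ := exists_xa ρ H hE χ hχ u hχu 1
    have h1 := Cgrp_act k hkH
      (fun v => by rw [hk, map_add, hψ₀, hu, mul_zero, add_zero]) hu₀C
    rw [hk, hχu₀, mul_one, rho_one_mulVec] at h1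
    have h2 := (Cgrp H ψ₀ τ).sub_mem h1 hu₀C
    rw [add_sub_cancel_left] at h2
    exact h2.2

/-- S3 : `Full ψ → Full ψ'` if `ψ e = ψ' e = 1` for some `e` -/
lemma full_step (H : Subgroup (GL (Fin n) F)) (hE : HasElem ρ H) (τ : L →ₗ[F] F)
    (ψ ψ' : (Fin n → F) →ₗ[F] L) (hψ : Lin ρ ψ) (hψ' : Lin ρ ψ') (e : Fin n → F)
    (he : ψ e = 1) (he' : ψ' e = 1) (hF : Full H τ ψ) : Full H τ ψ' := by
  obtain ⟨k, hkH, hk⟩ := exists_xa ρ H hE (ψ - ψ') (hψ.sub hψ') e (by simp [he, he']) 1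
  have hkψ : ∀ v, ψ' (act k v) = ψ v := by
    intro v
    rw [hk, map_add, hψ', he', one_mul, mul_one, LinearMap.sub_apply]
    ring
  intro u' hu'
  have h1 : ψ (act k⁻¹ u') = 0 := by
    rw [← hkψ, act_act_inv, hu']
  have h2 := TV.conj (hF _ h1) k hkH (φ' := τ ∘ₗ ψ') (fun v => by simp [hkψ])
  rw [act_act_inv] at h2
  exact h2

/-- `Full` for one onto functional gives `Full` for all onto functionals -/
lemma full_all (hr : r.Prime) (hrk : finrank F L = r)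
    (H : Subgroup (GL (Fin n) F)) (hE : HasElem ρ H) (τ : L →ₗ[F] F)
    (ψ₀ : (Fin n → F) →ₗ[F] L) (hψ₀ : Lin ρ ψ₀) (h1 : ∃ e, ψ₀ e = 1) (u₀ : Fin n → F)
    (hu₀ : u₀ ≠ 0) (hψu : ψ₀ u₀ = 0) (hF : Full H τ ψ₀)
    (ψ' : (Fin n → F) →ₗ[F] L) (hψ' : Lin ρ ψ') (h1' : ∃ e, ψ' e = 1) : Full H τ ψ' := by
  by_cases hprop : ∃ c : L, ∀ v, ψ' v = c * ψ₀ v
  · obtain ⟨c, hc⟩ := hprop
    obtain ⟨ψ'', hψ'', -, hψ''u⟩ :=
      Cfsg.Agent.Lib.Helper21.S5886E.exists_lin_sep ρ hrk hr.pos 0 u₀ (not_mem_pt_zero ρ hu₀)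
    have hF'' : Full H τ ψ'' := by
      obtain ⟨e, he, he'⟩ := Cfsg.Agent.Lib.Helper21.S5886E.exists_common_one ρ ψ₀ ψ'' hψ₀ hψ'' h1 ⟨u₀, hψ''u⟩ (by
        rintro ⟨c', hc'⟩
        have := hc' u₀
        rw [hψ''u, hψu, mul_zero] at this
        exact one_ne_zero this)
      exact full_step ρ H hE τ ψ₀ ψ'' hψ₀ hψ'' e he he' hF
    obtain ⟨e, he, he'⟩ := Cfsg.Agent.Lib.Helper21.S5886E.exists_common_one ρ ψ'' ψ' hψ'' hψ' ⟨u₀, hψ''u⟩ h1' (by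
      rintro ⟨c', hc'⟩
      have h0 := hc' u₀
      rw [hc u₀, hψu, mul_zero, hψ''u, mul_one] at h0
      obtain ⟨e', he'⟩ := h1'
      have := hc' e'
      rw [he', ← h0, zero_mul] at this
      exact one_ne_zero this)
    exact full_step ρ H hE τ ψ'' ψ' hψ'' hψ' e he he' hF''
  · obtain ⟨e, he, he'⟩ := Cfsg.Agent.Lib.Helper21.S5886E.exists_common_one ρ ψ₀ ψ' hψ₀ hψ' h1 h1' hprop
    exact full_step ρ H hE τ ψ₀ ψ' hψ₀ hψ' e he he' hF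

theorem hasT0_of_one (hr : r.Prime) (hrk : finrank F L = r) (hn : 2 * r ≤ n)
    (H : Subgroup (GL (Fin n) F)) (hE : HasElem ρ H) (h : HasOneT0 ρ H) : HasT0 ρ H := by
  obtain ⟨ψ₀, τ, u₀, hψ₀, h1, hτ, hu₀, hψu, hT⟩ := h
  have hF₀ : Full H τ ψ₀ := full_of_one ρ hr hrk H hE ψ₀ hψ₀ τ u₀ hu₀ hψu hT
  intro φ u hφu
  by_cases hφ0 : φ = 0
  · intro g hg
    have : g = 1 := gl_ext fun v => by rw [hg, hφ0, LinearMap.zero_apply, zero_smul, add_zero, act_one]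
    rw [this]
    exact H.one_mem
  · obtain ⟨ψ', τ', hψ', h1', hφ, hker⟩ := Cfsg.Agent.Lib.Helper21.S5886Eb.exists_rep ρ hrk hr.pos φ hφ0
    have hψ'u : ψ' u = 0 := hker u hφu
    obtain ⟨c, hc⟩ := Cfsg.Agent.Lib.Helper21.S5886Eb.exists_mul_functional (F := F) hrk hr.pos τ τ' hτ
    have hc0 : c ≠ 0 := by
      rintro rfl
      apply hφ0
      rw [hφ]
      apply LinearMap.ext
      intro v
      rw [LinearMap.comp_apply, hc, zero_mul, map_zero, LinearMap.zero_apply]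
    obtain ⟨e', he'⟩ := h1'
    have hFc : Full H τ ((LinearMap.mulLeft F c) ∘ₗ ψ') :=
      full_all ρ hr hrk H hE τ ψ₀ hψ₀ h1 u₀ hu₀ hψu hF₀ _ (hψ'.mulLeft c)
        ⟨ρ c⁻¹ *ᵥ e', by
          rw [LinearMap.comp_apply, LinearMap.mulLeft_apply, hψ', he', mul_one,
            mul_inv_cancel₀ hc0]⟩
    refine TV.congr (hFc u (by simp [hψ'u])) ?_
    intro v
    rw [hφ, LinearMap.comp_apply, hc]
    rfl

end Cfsg.Agent.Lib.Helper26.S5886SP
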