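import Mathlib
import Cfsg.Prelude.Def_Transfer

/-!
# S3154 (local structure of the covers `2^k · L₃(4)`, `k ≤ 2`): shared definitions (helper26)

`X` is a group with centre `Z`; `quad x1 x2 y1 y2 = ⟨x1, x2, y1, y2⟩ Z`.  The hypotheses on the six elements
`a1 a2 b1 b2 w1 w2` (images of explicit words of the `960`-point model of `4² · L₃(4)`) are bundled in `Hyp`.
-/

set_option autoImplicit false

namespace Cfsg.Agent.Lib.Helper26.L34Loc

variable {X : Type*} [Group X]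

/-- the subgroup generated by four elements and the centre -/
def quad (x1 x2 y1 y2 : X) : Subgroup X :=
  Subgroup.closure {x1, x2, y1, y2} ⊔ Subgroup.center X

/-- the subgroup generated by two elements and the centre -/
def duo (y1 y2 : X) : Subgroup X :=
  Subgroup.closure {y1, y2} ⊔ Subgroup.center X

/-- four pairwise commuting elements with trivial squares -/
structure Inv4 (x1 x2 y1 y2 : X) : Prop where
  s1 : x1 * x1 = 1
  s2 : x2 * x2 = 1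
  s3 : y1 * y1 = 1
  s4 : y2 * y2 = 1
  c12 : x1 * x2 = x2 * x1
  c13 : x1 * y1 = y1 * x1
  c14 : x1 * y2 = y2 * x1
  c23 : x2 * y1 = y1 * x2
  c24 : x2 * y2 = y2 * x2
  c34 : y1 * y2 = y2 * y1

/-- independence modulo the centre -/
def Indep4 (x1 x2 y1 y2 : X) : Prop :=
  ∀ i j k l : ℕ, i < 2 → j < 2 → k < 2 → l < 2 →
    x1 ^ i * x2 ^ j * y1 ^ k * y2 ^ l ∈ Subgroup.center X → i = 0 ∧ j = 0 ∧ k = 0 ∧ l = 0

/-- the commutators of the `a`-words with the `b`-words are not central -/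
def Cross (a1 a2 b1 b2 : X) : Prop :=
  ∀ i j k l : ℕ, i < 2 → j < 2 → k < 2 → l < 2 → ¬ (i = 0 ∧ j = 0) → ¬ (k = 0 ∧ l = 0) →
    (a1 ^ i * a2 ^ j) * (b1 ^ k * b2 ^ l) * (a1 ^ i * a2 ^ j)⁻¹ * (b1 ^ k * b2 ^ l)⁻¹ ∉ Subgroup.center X

/-- the hypotheses on the six elements -/
structure Hyp (a1 a2 b1 b2 w1 w2 : X) : Prop where
  hA : Inv4 a1 a2 w1 w2
  hB : Inv4 b1 b2 w1 w2
  ab11 : a1 * b1 * a1⁻¹ * b1⁻¹ ∈ duo w1 w2
  ab12 : a1 * b2 * a1⁻¹ * b2⁻¹ ∈ duo w1 w2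
  ab21 : a2 * b1 * a2⁻¹ * b1⁻¹ ∈ duo w1 w2
  ab22 : a2 * b2 * a2⁻¹ * b2⁻¹ ∈ duo w1 w2
  iA : Indep4 a1 a2 w1 w2
  iB : Indep4 b1 b2 w1 w2
  cr : Cross a1 a2 b1 b2

end Cfsg.Agent.Lib.Helper26.L34Loc
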