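import Mathlib
import Cfsg.Prelude.Def_GeometricClasses
import Cfsg.Agent.Lib.Helper7.AschDefs
import Cfsg.Agent.Lib.Helper6.Unitary
import Cfsg.Agent.Lib.Helper22.AschC7Defs
import Cfsg.Agent.Lib.Helper22.S5630I7A
import Cfsg.Agent.Lib.Helper22.S5663U7Defs
import Cfsg.Agent.Lib.Helper24.AschUDefs
import Cfsg.Agent.Lib.Helper8.S5630I7E

/-!
# S5663, block U7, piece M16 (helper26): `fixesForm_of_perfect` (M16a) and `exists_gram_two` (M16b)

M16b is extracted from helper8's proof of `Cfsg.Agent.Lib.Helper8.S5630I7E.inClass_of_le_tensorWreath_two`.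
-/

set_option autoImplicit false

namespace Cfsg.Agent.Lib.Helper26.S5663U7M16

open Matrix Cfsg Cfsg.Geo Cfsg.Agent.Lib.Helper7.Asch Cfsg.Agent.Lib.Helper22.AschC7
  Cfsg.Agent.Lib.Helper22.S5630I7A Cfsg.Agent.Lib.Helper22.U7 Cfsg.Agent.Lib.Helper6
open scoped commutatorElement

variable {F : Type*} [Field F] {n m t : ℕ}

/-- the isometry group of a two-argument form on `ι → F` -/
def isoGrp {ι : Type} [Fintype ι] [DecidableEq ι] (f : (ι → F) → (ι → F) → F) : Subgroup (GL ι F) where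
  carrier := {g | ∀ u v, f ((g : Matrix ι ι F) *ᵥ u) ((g : Matrix ι ι F) *ᵥ v) = f u v}
  mul_mem' {a b} ha hb := by
    intro u v
    rw [Units.val_mul, ← Matrix.mulVec_mulVec, ← Matrix.mulVec_mulVec, ha, hb]
  one_mem' := by
    intro u v
    simp
  inv_mem' {a} ha := by
    intro u v
    have h := ha (((a⁻¹ : GL ι F) : Matrix ι ι F) *ᵥ u) (((a⁻¹ : GL ι F) : Matrix ι ι F) *ᵥ v)
    rw [Matrix.mulVec_mulVec, Matrix.mulVec_mulVec, ← Units.val_mul, mul_inv_cancel, Units.val_one,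
      Matrix.one_mulVec, Matrix.one_mulVec] at h
    exact h.symm

theorem inv_mult {ι : Type} [Fintype ι] [DecidableEq ι] (f : (ι → F) → (ι → F) → F) (a : GL ι F) (c : Fˣ)
    (h : ∀ u v, f ((a : Matrix ι ι F) *ᵥ u) ((a : Matrix ι ι F) *ᵥ v) = (c : F) * f u v) (u v : ι → F) :
    f (((a⁻¹ : GL ι F) : Matrix ι ι F) *ᵥ u) (((a⁻¹ : GL ι F) : Matrix ι ι F) *ᵥ v) = ((c⁻¹ : Fˣ) : F) * f u v := by
  have h1 := h (((a⁻¹ : GL ι F) : Matrix ι ι F) *ᵥ u) (((a⁻¹ : GL ι F) : Matrix ι ι F) *ᵥ v)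
  rw [Matrix.mulVec_mulVec, Matrix.mulVec_mulVec, ← Units.val_mul, mul_inv_cancel, Units.val_one,
    Matrix.one_mulVec, Matrix.one_mulVec] at h1
  rw [h1, ← mul_assoc, ← Units.val_mul, inv_mul_cancel, Units.val_one, one_mul]

/-- **M16a** a perfect group of similarities of a form consists of isometries -/
theorem fixesForm_of_perfect {ι : Type} [Fintype ι] [DecidableEq ι] (f : (ι → F) → (ι → F) → F)
    (N : Subgroup (GL ι F)) (hN : N ≤ similarityGroup f) (hperf : ⁅N, N⁆ = N) : FixesForm (matrixSet N) f := by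
  have hle : ⁅N, N⁆ ≤ isoGrp f := by
    rw [Subgroup.commutator_le]
    intro a ha b hb
    obtain ⟨ca, hca⟩ := hN ha
    obtain ⟨cb, hcb⟩ := hN hb
    have hai := inv_mult f a ca hca
    have hbi := inv_mult f b cb hcb
    intro u v
    rw [commutatorElement_def, Units.val_mul, Units.val_mul, Units.val_mul, ← Matrix.mulVec_mulVec,
      ← Matrix.mulVec_mulVec, ← Matrix.mulVec_mulVec, ← Matrix.mulVec_mulVec, ← Matrix.mulVec_mulVec,
      ← Matrix.mulVec_mulVec, hca, hcb, hai, hbi]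
    rw [← mul_assoc, ← mul_assoc, ← mul_assoc, mul_assoc (ca : F), mul_comm (cb : F), ← mul_assoc,
      ← Units.val_mul, mul_inv_cancel, Units.val_one, one_mul, ← Units.val_mul, mul_inv_cancel,
      Units.val_one, one_mul]
  rw [hperf] at hle
  rintro _ ⟨g, hg, rfl⟩ u v
  exact hle hg u v

/-- **M16b** a subgroup of a tensor-wreath group with factors of dimension two preserves, up to scalars, an invertible
Gram matrix of a bilinear form -/
theorem exists_gram_two (ht : 0 < t) (H : Subgroup (GL (Fin n) F)) (e : Fin n ≃ (Fin t → Fin 2)) (P : GL (Fin n) F)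
    (hH : H ≤ tensorWreathSubgroup 2 t e P) :
    ∃ G : Matrix (Fin n) (Fin n) F, IsUnit G ∧ ∀ h ∈ H, ∃ c : Fˣ,
      (h : Matrix (Fin n) (Fin n) F)ᵀ * G * (h : Matrix (Fin n) (Fin n) F) = (c : F) • G := by
  classical
  set G₀ : Matrix (Fin t → Fin 2) (Fin t → Fin 2) F :=
    pt (fun _ : Fin t => (Cfsg.Agent.Lib.Helper8.S5630I7E.J2 : Matrix (Fin 2) (Fin 2) F)) with hG₀
  obtain ⟨hT, hD, hI⟩ := Cfsg.Agent.Lib.Helper8.S5630I7E.gram_props (F := F) (t := t) ht
  rw [← hG₀] at hT hD hI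
  set R : Matrix (Fin t → Fin 2) (Fin t → Fin 2) F ≃ₐ[F] Matrix (Fin n) (Fin n) F :=
    Matrix.reindexAlgEquiv F F e.symm with hR
  have hRT : ∀ A, (R A)ᵀ = R Aᵀ := fun A => rfl
  set Pi : Matrix (Fin n) (Fin n) F := ((P⁻¹ : GL (Fin n) F) : Matrix (Fin n) (Fin n) F) with hPi
  have hPiP : Pi * (P : Matrix (Fin n) (Fin n) F) = 1 := by
    rw [hPi, ← Units.val_mul, inv_mul_cancel, Units.val_one]
  set Gn : Matrix (Fin n) (Fin n) F := Piᵀ * R G₀ * Pi with hGn
  have hU : IsUnit Gn := by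
    have h1 : IsUnit (R G₀) := by
      apply IsUnit.of_mul_eq_one
        (R (pt (fun _ : Fin t => -(Cfsg.Agent.Lib.Helper8.S5630I7E.J2 : Matrix (Fin 2) (Fin 2) F))))
      rw [← map_mul, hI, map_one]
    have h2 : IsUnit Pi := (P⁻¹).isUnit
    have h3 : IsUnit Piᵀ := by
      rw [Matrix.isUnit_iff_isUnit_det, Matrix.det_transpose, ← Matrix.isUnit_iff_isUnit_det]
      exact h2
    exact (h3.mul h1).mul h2
  refine ⟨Gn, hU, ?_⟩
  intro h hh
  obtain ⟨g', ⟨g, hg, rfl⟩, rfl⟩ := hH hh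
  obtain ⟨c, hc⟩ := Cfsg.Agent.Lib.Helper8.S5630I7E.gram_std g hg
  rw [← hG₀] at hc
  refine ⟨c, ?_⟩
  have hval : ((MulAut.conj P).toMonoidHom ((glReindex (F := F) e.symm).toMonoidHom g) : GL (Fin n) F).val =
      (P : Matrix (Fin n) (Fin n) F) * R (g : Matrix (Fin t → Fin 2) (Fin t → Fin 2) F) * Pi := rfl
  rw [hval, hGn]
  set A : Matrix (Fin n) (Fin n) F := R (g : Matrix (Fin t → Fin 2) (Fin t → Fin 2) F) with hA
  have hPT : (P : Matrix (Fin n) (Fin n) F)ᵀ * Piᵀ = 1 := by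
    rw [← Matrix.transpose_mul, hPiP, Matrix.transpose_one]
  calc ((P : Matrix (Fin n) (Fin n) F) * A * Pi)ᵀ * (Piᵀ * R G₀ * Pi) * ((P : Matrix (Fin n) (Fin n) F) * A * Pi)
      = Piᵀ * Aᵀ * ((P : Matrix (Fin n) (Fin n) F)ᵀ * Piᵀ) * R G₀ * (Pi * (P : Matrix (Fin n) (Fin n) F)) * A * Pi := by
        rw [Matrix.transpose_mul, Matrix.transpose_mul]
        simp only [mul_assoc]
    _ = Piᵀ * (Aᵀ * R G₀ * A) * Pi := by
        rw [hPT, hPiP]
        simp only [mul_assoc, mul_one]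
    _ = (c : F) • (Piᵀ * R G₀ * Pi) := by
        rw [hA, hRT, ← map_mul, ← map_mul, hc, map_smul, Matrix.mul_smul, Matrix.smul_mul]

end Cfsg.Agent.Lib.Helper26.S5663U7M16
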