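import Mathlib

/-!
# S4427 piece [A] (helper26 for helper24): the `p`-power trick in characteristic `p`
-/

set_option autoImplicit false
set_option linter.unusedVariables false
set_option linter.unusedSectionVars false

namespace Cfsg.Agent.Lib.Helper24.S4427

namespace Helper26

open Finset

/-! ### the weighted orbit lemma -/

section Orbit

variable {X : Type*} [Fintype X] [DecidableEq X] {F : Type*} [CommRing F]

/-- the restriction of a map preserving `W` to a fibre of `W` -/
def fibreMap (σ : X → X) (W : X → F) (hW : ∀ x, W (σ x) = W x) (b : F) :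
    Function.End {a : X // W a = b} := fun a => ⟨σ a.1, by rw [hW]; exact a.2⟩

theorem fibreMap_pow (σ : X → X) (W : X → F) (hW : ∀ x, W (σ x) = W x) (b : F) (n : ℕ)
    (a : {a : X // W a = b}) : ((fibreMap σ W hW b ^ n) a).1 = σ^[n] a.1 := by
  induction n generalizing a with
  | zero => rfl
  | succ n ih =>
    rw [pow_succ, Function.iterate_succ_apply]
    exact ih (fibreMap σ W hW b a)

theorem card_fibre_modEq (p : ℕ) [Fact p.Prime] (σ : X → X) (hσ : σ^[p] = id) (W : X → F)
    (hW : ∀ x, W (σ x) = W x) (b : F) [DecidableEq F] :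
    #{a : X | W a = b} ≡ #{a : X | W a = b ∧ σ a = a} [MOD p] := by
  have h1 : fibreMap σ W hW b ^ p ^ 1 = 1 := by
    funext a
    apply Subtype.ext
    rw [pow_one, fibreMap_pow, hσ]
    rfl
  have h2 := Equiv.Perm.card_fixedPoints_modEq (p := p) (n := 1) h1
  rw [Fintype.card_eq_nat_card, Fintype.card_eq_nat_card] at h2
  have e1 : Nat.card {a : X // W a = b} = #{a : X | W a = b} := by
    rw [Nat.card_eq_fintype_card, Fintype.card_subtype]
  have eqv : {x : X // W x = b ∧ σ x = x} ≃ ↑(Function.fixedPoints (fibreMap σ W hW b)) :=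
    ⟨fun a => ⟨⟨a.1, a.2.1⟩, Subtype.ext a.2.2⟩,
      fun a => ⟨a.1.1, a.1.2, congrArg Subtype.val a.2⟩, fun a => rfl, fun a => rfl⟩
  have e2 : Nat.card ↑(Function.fixedPoints (fibreMap σ W hW b)) =
      #{a : X | W a = b ∧ σ a = a} := by
    rw [← Nat.card_congr eqv, Nat.card_eq_fintype_card, Fintype.card_subtype]
  rw [e1, e2] at h2
  exact h2

/-- **weighted orbit lemma**: in characteristic `p`, a weight invariant under a map of order
dividing `p` sums to its sum over the fixed points -/
theorem sum_eq_sum_fixed (p : ℕ) [Fact p.Prime] [CharP F p] (σ : X → X) (hσ : σ^[p] = id)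
    (W : X → F) (hW : ∀ x, W (σ x) = W x) :
    ∑ x, W x = ∑ x with σ x = x, W x := by
  classical
  have h1 := Finset.sum_comp (s := (univ : Finset X)) (fun b : F => b) W
  have h2 := Finset.sum_comp (s := (univ.filter fun x : X => σ x = x)) (fun b : F => b) W
  rw [h1, h2]
  have hsub : image W (univ.filter fun x : X => σ x = x) ⊆ image W univ :=
    image_subset_image (filter_subset _ _)
  have h3 : ∑ b ∈ image W (univ.filter fun x : X => σ x = x),
      #{a ∈ univ.filter (fun x : X => σ x = x) | W a = b} • b =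
      ∑ b ∈ image W univ, #{a ∈ univ.filter (fun x : X => σ x = x) | W a = b} • b := by
    apply Finset.sum_subset hsub
    intro b _ hb
    have : ({a ∈ univ.filter (fun x : X => σ x = x) | W a = b} : Finset X) = ∅ := by
      rw [Finset.eq_empty_iff_forall_notMem]
      intro a ha
      rw [mem_filter] at ha
      exact hb (mem_image.mpr ⟨a, ha.1, ha.2⟩)
    rw [this, card_empty, zero_smul]
  rw [h3]
  apply Finset.sum_congr rfl
  intro b _
  rw [← Nat.cast_smul_eq_nsmul F, ← Nat.cast_smul_eq_nsmul F]
  congr 1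
  rw [CharP.natCast_eq_natCast F p]
  have := card_fibre_modEq p σ hσ W hW b
  have e : ({a ∈ univ.filter (fun x : X => σ x = x) | W a = b} : Finset X) =
      ({a : X | W a = b ∧ σ a = a} : Finset X) := by
    ext a
    simp only [mem_filter, mem_univ, true_and]
    tauto
  rw [e]
  exact this

end Orbit

/-! ### tuples -/

section Tuples

variable {F : Type*} [CommRing F] {G : Type*} [Group G] [Fintype G]

theorem coeff_mul_sum (x y : MonoidAlgebra F G) (g : G) :
    (x * y).coeff g = ∑ h : G, x.coeff h * y.coeff (h⁻¹ * g) := by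
  rw [MonoidAlgebra.coeff_mul_apply_left, Finsupp.sum_fintype _ _ (by simp)]

/-- the ordered product of a tuple -/
def oprod {n : ℕ} (t : Fin n → G) : G := (List.ofFn t).prod

/-- the weight of a tuple -/
def wt (x : MonoidAlgebra F G) {n : ℕ} (t : Fin n → G) : F := ∏ i, x.coeff (t i)

theorem oprod_cons {n : ℕ} (h : G) (t : Fin n → G) :
    oprod (Fin.cons h t : Fin (n + 1) → G) = h * oprod t := by
  unfold oprod
  rw [List.ofFn_succ, List.prod_cons]
  simp only [Fin.cons_zero, Fin.cons_succ]

theorem wt_cons (x : MonoidAlgebra F G) {n : ℕ} (h : G) (t : Fin n → G) :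
    wt x (Fin.cons h t : Fin (n + 1) → G) = x.coeff h * wt x t := by
  unfold wt
  rw [Fin.prod_univ_succ]
  simp only [Fin.cons_zero, Fin.cons_succ]

theorem oprod_snoc {n : ℕ} (t : Fin n → G) (h : G) :
    oprod (Fin.snoc t h : Fin (n + 1) → G) = oprod t * h := by
  unfold oprod
  rw [List.ofFn_succ', List.concat_eq_append, List.prod_append, List.prod_singleton]
  simp only [Fin.snoc_castSucc, Fin.snoc_last]

theorem wt_snoc (x : MonoidAlgebra F G) {n : ℕ} (t : Fin n → G) (h : G) :
    wt x (Fin.snoc t h : Fin (n + 1) → G) = wt x t * x.coeff h := by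
  unfold wt
  rw [Fin.prod_univ_castSucc]
  simp only [Fin.snoc_castSucc, Fin.snoc_last]

theorem oprod_const (g : G) (n : ℕ) : oprod (fun _ : Fin n => g) = g ^ n := by
  unfold oprod
  rw [List.ofFn_const, List.prod_replicate]

theorem wt_const (x : MonoidAlgebra F G) (g : G) (n : ℕ) :
    wt x (fun _ : Fin n => g) = x.coeff g ^ n := by
  unfold wt
  rw [Finset.prod_const, Finset.card_univ, Fintype.card_fin]

theorem coeff_pow [DecidableEq G] (x : MonoidAlgebra F G) (n : ℕ) (g : G) :
    (x ^ n).coeff g = ∑ t : Fin n → G, if oprod t = g then wt x t else 0 := by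
  induction n generalizing g with
  | zero =>
    rw [pow_zero, MonoidAlgebra.one_def, MonoidAlgebra.coeff_single, Finsupp.single_apply,
      Fintype.sum_unique]
    simp [oprod, wt]
  | succ n ih =>
    rw [pow_succ', coeff_mul_sum, ← (Fin.consEquiv (fun _ => G)).sum_comp, Fintype.sum_prod_type]
    apply Finset.sum_congr rfl
    intro h _
    rw [ih, Finset.mul_sum]
    apply Finset.sum_congr rfl
    intro t _
    show _ = if oprod (Fin.cons h t : Fin (n + 1) → G) = g then
      wt x (Fin.cons h t : Fin (n + 1) → G) else 0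
    rw [oprod_cons, wt_cons]
    by_cases hc : oprod t = h⁻¹ * g
    · rw [if_pos hc, if_pos (by rw [hc, mul_inv_cancel_left])]
    · rw [if_neg hc, if_neg (by intro h'; apply hc; rw [← h', inv_mul_cancel_left]), mul_zero]

/-- the sum of the coefficients over a set of group elements -/
def tau (K : G → Prop) [DecidablePred K] (x : MonoidAlgebra F G) : F :=
  ∑ g, if K g then x.coeff g else 0

theorem tau_pow (K : G → Prop) [DecidablePred K] (x : MonoidAlgebra F G) (n : ℕ) :
    tau K (x ^ n) = ∑ t : Fin n → G, if K (oprod t) then wt x t else 0 := by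
  classical
  unfold tau
  have h1 : ∀ g : G, (if K g then (x ^ n).coeff g else 0) =
      ∑ t : Fin n → G, if K (oprod t) ∧ oprod t = g then wt x t else 0 := by
    intro g
    rw [coeff_pow]
    by_cases hg : K g
    · rw [if_pos hg]
      apply Finset.sum_congr rfl
      intro t _
      by_cases ht : oprod t = g
      · rw [if_pos ht, if_pos ⟨by rw [ht]; exact hg, ht⟩]
      · rw [if_neg ht, if_neg (fun h => ht h.2)]
    · rw [if_neg hg]
      symm
      apply Finset.sum_eq_zero
      intro t _
      rw [if_neg]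
      rintro ⟨h1, h2⟩
      rw [h2] at h1
      exact hg h1
  simp_rw [h1]
  rw [Finset.sum_comm]
  apply Finset.sum_congr rfl
  intro t _
  rw [Finset.sum_eq_single (oprod t)]
  · by_cases hK : K (oprod t)
    · rw [if_pos ⟨hK, rfl⟩, if_pos hK]
    · rw [if_neg (fun h => hK h.1), if_neg hK]
  · intro g _ hg
    rw [if_neg (fun h => hg h.2.symm)]
  · intro h
    exact absurd (Finset.mem_univ _) h

/-- the rotation of a tuple -/
def rot {n : ℕ} (t : Fin (n + 1) → G) : Fin (n + 1) → G := fun i => t (i + 1)

theorem rot_eq_snoc {n : ℕ} (t : Fin (n + 1) → G) : rot t = Fin.snoc (Fin.tail t) (t 0) := by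
  funext i
  unfold rot
  refine Fin.lastCases ?_ (fun j => ?_) i
  · rw [Fin.snoc_last, Fin.last_add_one]
  · rw [Fin.snoc_castSucc, Fin.coeSucc_eq_succ]
    rfl

theorem cons_tail' {n : ℕ} (t : Fin (n + 1) → G) : t = Fin.cons (t 0) (Fin.tail t) :=
  (Fin.cons_self_tail t).symm

theorem oprod_rot {n : ℕ} (t : Fin (n + 1) → G) : oprod (rot t) = (t 0)⁻¹ * oprod t * t 0 := by
  rw [rot_eq_snoc, oprod_snoc]
  conv_rhs => rw [cons_tail' t, oprod_cons]
  simp only [Fin.cons_zero, inv_mul_cancel_left]

theorem wt_rot (x : MonoidAlgebra F G) {n : ℕ} (t : Fin (n + 1) → G) : wt x (rot t) = wt x t := by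
  rw [rot_eq_snoc, wt_snoc]
  conv_rhs => rw [cons_tail' t, wt_cons]
  rw [mul_comm]

open Fin.CommRing in
theorem rot_iterate {n : ℕ} (k : ℕ) (t : Fin (n + 1) → G) :
    rot^[k] t = fun i => t (i + (k : Fin (n + 1))) := by
  induction k generalizing t with
  | zero =>
    funext i
    simp
  | succ k ih =>
    rw [Function.iterate_succ_apply, ih]
    funext i
    unfold rot
    congr 1
    push_cast
    ring

open Fin.CommRing in
theorem rot_iterate_self {n : ℕ} : (rot (G := G) (n := n))^[n + 1] = id := by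
  funext t
  rw [rot_iterate]
  funext i
  have : ((n + 1 : ℕ) : Fin (n + 1)) = 0 := CharP.cast_eq_zero (Fin (n + 1)) (n + 1)
  rw [this, add_zero]
  rfl

theorem eq_const_of_rot_eq {n : ℕ} (t : Fin (n + 1) → G) (h : rot t = t) : ∀ i, t i = t 0 := by
  intro i
  induction i using Fin.induction with
  | zero => rfl
  | succ j ih =>
    have := congrFun h j.castSucc
    unfold rot at this
    rw [Fin.coeSucc_eq_succ] at this
    rw [this, ih]

theorem rot_const {n : ℕ} (g : G) : rot (fun _ : Fin (n + 1) => g) = fun _ => g := rfl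

/-- **the `p`-power trick** -/
theorem tau_pow_char (p : ℕ) [hp : Fact p.Prime] [CharP F p] (K : G → Prop) [DecidablePred K]
    (hK : ∀ g h : G, K (h⁻¹ * g * h) ↔ K g) (x : MonoidAlgebra F G) :
    tau K (x ^ p) = (tau (fun g => K (g ^ p)) x) ^ p := by
  classical
  obtain ⟨n, rfl⟩ : ∃ n, p = n + 1 := ⟨p - 1, by have := hp.out.pos; omega⟩
  rw [tau_pow, sum_eq_sum_fixed (n + 1) rot rot_iterate_self
    (fun t => if K (oprod t) then wt x t else 0)
    (by intro t; simp only [oprod_rot, hK, wt_rot])]
  unfold tau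
  rw [sum_pow_char]
  symm
  apply Finset.sum_nbij' (fun g => fun _ : Fin (n + 1) => g) (fun t => t 0)
  · intro g _
    rw [Finset.mem_filter]
    exact ⟨Finset.mem_univ _, rot_const g⟩
  · intro t _
    exact Finset.mem_univ _
  · intro g _
    rfl
  · intro t ht
    rw [Finset.mem_filter] at ht
    funext i
    exact (eq_const_of_rot_eq t ht.2 i).symm
  · intro g _
    show _ = if K (oprod fun _ : Fin (n + 1) => g) then wt x (fun _ : Fin (n + 1) => g) else 0
    rw [oprod_const, wt_const]
    by_cases hg : K (g ^ (n + 1))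
    · rw [if_pos hg, if_pos hg]
    · rw [if_neg hg, if_neg hg, zero_pow (Nat.succ_ne_zero n)]

end Tuples

/-! ### the iteration -/

section Final

variable {F : Type*} [CommRing F] {G : Type*} [Group G] [Fintype G]

theorem tau_congr (K K' : G → Prop) [DecidablePred K] [DecidablePred K'] (h : ∀ g, K g ↔ K' g)
    (x : MonoidAlgebra F G) : tau K x = tau K' x := by
  unfold tau
  apply Finset.sum_congr rfl
  intro g _
  by_cases hg : K g
  · rw [if_pos hg, if_pos ((h g).mp hg)]
  · rw [if_neg hg, if_neg (fun h' => hg ((h g).mpr h'))]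

/-- `g ^ p ^ n` is `p`-regular -/
def regAt (p n : ℕ) (g : G) : Prop := ¬ p ∣ orderOf (g ^ p ^ n)

theorem regAt_conj (p n : ℕ) (g h : G) : regAt p n (h⁻¹ * g * h) ↔ regAt p n g := by
  unfold regAt
  have e1 : (h⁻¹ * g * h) ^ p ^ n = MulAut.conj h⁻¹ (g ^ p ^ n) := by
    rw [MulAut.conj_apply, inv_inv]
    have := conj_pow (a := h⁻¹) (b := g) (i := p ^ n)
    rw [inv_inv] at this
    exact this
  rw [e1, MulEquiv.orderOf_eq]

theorem regAt_succ (p n : ℕ) (g : G) : regAt p n (g ^ p) ↔ regAt p (n + 1) g := by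
  unfold regAt
  rw [← pow_mul, ← pow_succ']

theorem regAt_card (p : ℕ) (hp : p.Prime) (g : G) : regAt p (Fintype.card G) g := by
  unfold regAt
  have ho : orderOf g ≠ 0 := (orderOf_pos g).ne'
  obtain ⟨k, r, hr, hkr⟩ := Nat.exists_eq_pow_mul_and_not_dvd ho p hp.ne_one
  have hk : k ≤ Fintype.card G := by
    have h1 : k < p ^ k := Nat.lt_pow_self hp.one_lt
    have h2 : p ^ k ≤ orderOf g := by
      rw [hkr]
      exact Nat.le_mul_of_pos_right _ (Nat.pos_of_ne_zero (fun h0 => hr (by rw [h0]; exact dvd_zero p)))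
    have h3 : orderOf g ≤ Fintype.card G := orderOf_le_card_univ
    omega
  have h1 : (g ^ p ^ Fintype.card G) ^ r = 1 := by
    rw [← pow_mul]
    apply orderOf_dvd_iff_pow_eq_one.mp
    rw [hkr]
    exact Nat.mul_dvd_mul (pow_dvd_pow p hk) (dvd_refl r)
  intro hdvd
  exact hr (hdvd.trans (orderOf_dvd_of_pow_eq_one h1))

theorem tau_regAt_zero_eq (p : ℕ) [hp : Fact p.Prime] [CharP F p] (e : MonoidAlgebra F G)
    (he : IsIdempotentElem e) [∀ n, DecidablePred (regAt (G := G) p n)] (n : ℕ) :
    tau (regAt p 0) e = (tau (regAt p n) e) ^ p ^ n := by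
  induction n with
  | zero => rw [pow_zero, pow_one]
  | succ n ih =>
    rw [ih]
    have hep : e ^ p = e := by
      have h1 : p = (p - 1) + 1 := by have := hp.out.pos; omega
      rw [h1]
      exact he.pow_succ_eq (p - 1)
    classical
    have h2 : tau (regAt p n) e = (tau (regAt p (n + 1)) e) ^ p := by
      conv_lhs => rw [← hep]
      rw [tau_pow_char p (regAt p n) (fun g h => regAt_conj p n g h) e]
      congr 1
      exact tau_congr _ _ (fun g => regAt_succ p n g) e
    rw [h2, ← pow_mul, ← pow_succ']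

end Final

end Helper26

open Helper26 in
/-- [A] For an idempotent `e` of `F[G]`, `F` a commutative ring of characteristic `p`, whose
coefficients sum to `1`, the coefficients at the `p`-regular elements sum to `1`. -/
theorem sum_coeff_pRegular_of_idem {F : Type*} [CommRing F] (p : ℕ) [Fact p.Prime] [CharP F p]
    {G : Type*} [Group G] [Fintype G] (e : MonoidAlgebra F G) (he : IsIdempotentElem e)
    (haug : ∑ g : G, e.coeff g = 1) :
    ∑ g : G, (if p ∣ orderOf g then (0 : F) else e.coeff g) = 1 := by
  classical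
  have h1 := tau_regAt_zero_eq p e he (Fintype.card G)
  have h2 : tau (regAt p (Fintype.card G)) e = 1 := by
    unfold tau
    rw [← haug]
    apply Finset.sum_congr rfl
    intro g _
    rw [if_pos (regAt_card p Fact.out g)]
  rw [h2, one_pow] at h1
  rw [← h1]
  unfold tau regAt
  apply Finset.sum_congr rfl
  intro g _
  have hg : g ^ p ^ 0 = g := by rw [pow_zero, pow_one]
  by_cases hd : p ∣ orderOf g
  · rw [if_pos hd, if_neg (by rw [hg]; exact fun h => h hd)]
  · rw [if_neg hd, if_pos (by rw [hg]; exact hd)]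

end Cfsg.Agent.Lib.Helper24.S4427
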