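import Cfsg.Agent.Lib.Helper8.ChevAu21
import Cfsg.Agent.Lib.Helper10.ChevDiagConj

set_option autoImplicit false

/-! S2159 farm-out FO-E: the field automorphisms of a Chevalley group generate a cyclic group. -/

namespace Cfsg.Agent.Lib.Helper26.ChevFieldCyc

open Cfsg Cfsg.Lie Matrix Cfsg.Agent.Lib.Helper8.Chev

/-- the ring automorphisms of a finite field form a cyclic group -/
theorem isCyclic_ringAut (F : Type*) [Field F] [Finite F] : IsCyclic (F ≃+* F) := by
  obtain ⟨p, hp⟩ := CharP.exists F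
  have : Fact p.Prime := ⟨CharP.char_is_prime F p⟩
  let _ : Algebra (ZMod p) F := ZMod.algebra F p
  let f : (F ≃ₐ[ZMod p] F) →* (F ≃+* F) :=
    { toFun := fun e => e.toRingEquiv
      map_one' := rfl
      map_mul' := fun _ _ => rfl }
  have hf : Function.Surjective f := by
    intro τ
    refine ⟨AlgEquiv.ofRingEquiv (f := τ) (fun r => ?_), rfl⟩
    exact RingHom.congr_fun (Subsingleton.elim ((τ : F →+* F).comp (algebraMap (ZMod p) F))
      (algebraMap (ZMod p) F)) r
  exact isCyclic_of_surjective f hf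

section

variable {D : ChevalleyDatum} {F : Type*} [Field F]

/-- the field automorphism of the group attached to an automorphism of the field (chosen) -/
noncomputable def fa (hD : D ∈ [chevG2, chevB2, chevD4, chevF4, chevE6, chevE7, chevE8])
    (σ : F ≃+* F) : MulAut ↥(D.group F) :=
  Classical.choose (exists_fieldAut hD σ)

theorem fa_isFieldAut (hD : D ∈ [chevG2, chevB2, chevD4, chevF4, chevE6, chevE7, chevE8])
    (σ : F ≃+* F) : D.IsFieldAut (fa hD σ) :=
  (Classical.choose_spec (exists_fieldAut hD σ)).1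

theorem fa_xEl (hD : D ∈ [chevG2, chevB2, chevD4, chevF4, chevE6, chevE7, chevE8])
    (σ : F ≃+* F) (r : ℕ) (t : F) (hr : r < D.nroots) :
    fa hD σ (xEl hD r t) = xEl hD r (σ t) :=
  (Classical.choose_spec (exists_fieldAut hD σ)).2 r t hr

theorem fa_mul (hD : D ∈ [chevG2, chevB2, chevD4, chevF4, chevE6, chevE7, chevE8])
    (σ τ : F ≃+* F) : fa hD (σ * τ) = fa hD σ * fa hD τ := by
  apply aut_ext_fund hD
  · intro i t
    rw [MulAut.mul_apply, fa_xEl hD _ _ _ (StdAut.simple_lt hD i),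
      fa_xEl hD _ _ _ (StdAut.simple_lt hD i), fa_xEl hD _ _ _ (StdAut.simple_lt hD i)]
    rfl
  · intro i t
    rw [MulAut.mul_apply, fa_xEl hD _ _ _ (StdAut.neg_simple_lt hD i),
      fa_xEl hD _ _ _ (StdAut.neg_simple_lt hD i), fa_xEl hD _ _ _ (StdAut.neg_simple_lt hD i)]
    rfl

/-- the field automorphisms, as a homomorphism from the automorphisms of the field -/
noncomputable def faHom (hD : D ∈ [chevG2, chevB2, chevD4, chevF4, chevE6, chevE7, chevE8]) :
    (F ≃+* F) →* MulAut ↥(D.group F) :=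
  MonoidHom.mk' (fa hD) (fa_mul hD)

theorem eq_fa_of_isFieldAut (hD : D ∈ [chevG2, chevB2, chevD4, chevF4, chevE6, chevE7, chevE8])
    {φ : MulAut ↥(D.group F)} (hφ : D.IsFieldAut φ) : ∃ σ : F ≃+* F, φ = fa hD σ := by
  obtain ⟨σ, hσ⟩ := fieldAut_xEl hD hφ
  refine ⟨σ, aut_ext_fund hD (fun i t => ?_) (fun i t => ?_)⟩
  · rw [hσ _ _ (StdAut.simple_lt hD i), fa_xEl hD _ _ _ (StdAut.simple_lt hD i)]
  · rw [hσ _ _ (StdAut.neg_simple_lt hD i), fa_xEl hD _ _ _ (StdAut.neg_simple_lt hD i)]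

theorem setOf_isFieldAut_eq (hD : D ∈ [chevG2, chevB2, chevD4, chevF4, chevE6, chevE7, chevE8]) :
    {φ : MulAut ↥(D.group F) | D.IsFieldAut φ} =
      (((faHom (F := F) hD).range : Subgroup (MulAut ↥(D.group F))) : Set (MulAut ↥(D.group F))) := by
  ext φ
  constructor
  · intro hφ
    obtain ⟨σ, rfl⟩ := eq_fa_of_isFieldAut hD hφ
    exact ⟨σ, rfl⟩
  · rintro ⟨σ, rfl⟩
    exact fa_isFieldAut hD σ

/-- FO-E: the field automorphisms generate a cyclic group. -/
theorem isCyclic_closure_fieldAut [Finite F]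
    (hD : D ∈ [chevG2, chevB2, chevD4, chevF4, chevE6, chevE7, chevE8]) :
    IsCyclic ↥(Subgroup.closure {φ : MulAut ↥(D.group F) | D.IsFieldAut φ}) := by
  rw [setOf_isFieldAut_eq hD, Subgroup.closure_eq]
  have : IsCyclic (F ≃+* F) := isCyclic_ringAut F
  exact isCyclic_of_surjective (faHom hD).rangeRestrict (faHom hD).rangeRestrict_surjective

end

end Cfsg.Agent.Lib.Helper26.ChevFieldCyc
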