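import Cfsg.Agent.Lib.Helper8.ChevAu17

set_option autoImplicit false

/-! Tools for the rank two step of the automorphism theorem with two root lengths: words of root
elements inside the group, the commutator formula inside the group, uniqueness of the first
coordinate, and the tracking of root subgroups under an automorphism in standard form. -/

namespace Cfsg.Agent.Lib.Helper26.ChevNsl

open Cfsg Cfsg.Lie Matrix Cfsg.Agent.Lib.Helper8.Chev

section

variable {D : ChevalleyDatum} {F : Type*} [Field F]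

theorem coe_xEl' (hD : D ∈ [chevG2, chevB2, chevD4, chevF4, chevE6, chevE7, chevE8])
    (r : ℕ) (t : F) :
    (((xEl hD r t : ↥(D.group F)) : GL D.Idx F) : Matrix D.Idx D.Idx F) = D.x F r t := by
  by_cases hr : r < D.nroots
  · exact coe_xEl hD hr t
  · unfold xEl ChevalleyDatum.x
    rw [dif_neg hr, dif_neg hr]
    rfl

/-- the product of the root elements of a word, inside the group -/
noncomputable def wEl (hD : D ∈ [chevG2, chevB2, chevD4, chevF4, chevE6, chevE7, chevE8])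
    (w : List (ℕ × F)) : ↥(D.group F) :=
  (w.map fun p => xEl hD p.1 p.2).prod

theorem wEl_nil (hD : D ∈ [chevG2, chevB2, chevD4, chevF4, chevE6, chevE7, chevE8]) :
    wEl hD ([] : List (ℕ × F)) = 1 := rfl

theorem wEl_cons (hD : D ∈ [chevG2, chevB2, chevD4, chevF4, chevE6, chevE7, chevE8])
    (p : ℕ × F) (w : List (ℕ × F)) : wEl hD (p :: w) = xEl hD p.1 p.2 * wEl hD w := by
  unfold wEl
  rw [List.map_cons, List.prod_cons]

theorem coe_wEl (hD : D ∈ [chevG2, chevB2, chevD4, chevF4, chevE6, chevE7, chevE8])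
    (w : List (ℕ × F)) :
    (((wEl hD w : ↥(D.group F)) : GL D.Idx F) : Matrix D.Idx D.Idx F) = wN D F w := by
  induction w with
  | nil => rw [wEl_nil, wN_nil]; rfl
  | cons p w ih =>
    rw [wEl_cons, wN_cons, Subgroup.coe_mul, Units.val_mul, ih, coe_xEl', x_eq_xN]

/-- Chevalley's commutator formula inside the group -/
theorem comm_rel (hD : D ∈ [chevG2, chevB2, chevD4, chevF4, chevE6, chevE7, chevE8])
    {r s : ℕ} (hr : r < D.nroots) (hs : s < D.nroots) (h1 : s ≠ r) (h2 : s ≠ D.neg r)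
    (t u : F) :
    (xEl hD s u : ↥(D.group F)) * xEl hD r t =
      xEl hD r t * xEl hD s u * wEl hD (D.commWord F r s t u) := by
  apply Subtype.ext
  apply Units.ext
  rw [Subgroup.coe_mul, Subgroup.coe_mul, Subgroup.coe_mul, Units.val_mul, Units.val_mul,
    Units.val_mul, coe_xEl', coe_xEl', coe_wEl, ← wordMat_eq_wN]
  exact comm_formula hD hr hs h1 h2 t u

/-- uniqueness of the first coordinate -/
theorem first_coord (hD : D ∈ [chevG2, chevB2, chevD4, chevF4, chevE6, chevE7, chevE8])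
    {k : ℕ} (hk : D.nroots / 2 ≤ k) (hkn : k < D.nroots) (a b : F) (w w' : List (ℕ × F))
    (hw : ∀ p ∈ w, k + 1 ≤ p.1 ∧ p.1 < D.nroots) (hw' : ∀ p ∈ w', k + 1 ≤ p.1 ∧ p.1 < D.nroots)
    (h : (xEl hD k a : ↥(D.group F)) * wEl hD w = xEl hD k b * wEl hD w') : a = b := by
  have V := valid0_of_mem hD
  have h' := congrArg (fun g : ↥(D.group F) => ((g : GL D.Idx F) : Matrix D.Idx D.Idx F)) h
  simp only [Subgroup.coe_mul, Units.val_mul, coe_xEl', coe_wEl, x_eq_xN] at h'
  exact seg_cancel V (triP_of_mem hD) (sepP_of_mem hD) (copP_of_mem hD) hk hkn a b w w' hw hw' h'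

/-- cancelling a first letter -/
theorem xEl_mul_cancel (hD : D ∈ [chevG2, chevB2, chevD4, chevF4, chevE6, chevE7, chevE8])
    (k : ℕ) (a : F) {g g' : ↥(D.group F)} (h : xEl hD k a * g = xEl hD k a * g') : g = g' :=
  mul_left_cancel h

/-- conjugation of a root element by `n_i` -/
theorem nEl_mul_xEl_gen (hD : D ∈ [chevG2, chevB2, chevD4, chevF4, chevE6, chevE7, chevE8])
    {i : ℕ} (hi : i < D.rank) {s : ℕ} (hs : s < D.nroots) :
    D.reflectRoot i s < D.nroots ∧ ∃ ε : F, (ε = 1 ∨ ε = -1) ∧ ∀ t : F,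
      (nEl hD F i : ↥(D.group F)) * xEl hD s t =
        xEl hD (D.reflectRoot i s) (ε * t) * nEl hD F i := by
  have J := validJ_of_mem hD
  have V1 := valid1_of_mem hD
  have H := validH_of_mem hD
  obtain ⟨h1, _, ε, hε, e1, _⟩ := rootPermN_nMat (F := F) J V1 H.nS hi s hs
  refine ⟨h1, ε, hε, fun t => ?_⟩
  apply Subtype.ext
  apply Units.ext
  rw [Subgroup.coe_mul, Subgroup.coe_mul, Units.val_mul, Units.val_mul, coe_xEl', coe_xEl',
    coe_nEl hD hi, coe_nG J V1 hi, x_eq_xN, x_eq_xN]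
  exact e1 t

/-- `θ` maps the root subgroup `X_s` into `X_{s'}` -/
def Tracks (hD : D ∈ [chevG2, chevB2, chevD4, chevF4, chevE6, chevE7, chevE8])
    (θ : MulAut ↥(D.group F)) (s s' : ℕ) : Prop :=
  s < D.nroots ∧ s' < D.nroots ∧ ∀ t : F, ∃ t' : F, θ (xEl hD s t) = xEl hD s' t'

theorem tracks_simple {hD : D ∈ [chevG2, chevB2, chevD4, chevF4, chevE6, chevE7, chevE8]}
    {θ : MulAut ↥(D.group F)} (S : StdAut hD θ) (i : Fin D.rank) :
    Tracks hD θ (D.simple i) (D.simple (S.ρ i)) :=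
  ⟨StdAut.simple_lt hD i, StdAut.simple_lt hD (S.ρ i), fun t => ⟨S.f i t, S.hf i t⟩⟩

theorem tracks_neg_simple {hD : D ∈ [chevG2, chevB2, chevD4, chevF4, chevE6, chevE7, chevE8]}
    {θ : MulAut ↥(D.group F)} (S : StdAut hD θ) (i : Fin D.rank) :
    Tracks hD θ (D.neg (D.simple i)) (D.neg (D.simple (S.ρ i))) :=
  ⟨StdAut.neg_simple_lt hD i, StdAut.neg_simple_lt hD (S.ρ i), fun t => ⟨S.g i t, S.hg i t⟩⟩

/-- tracking through a fundamental reflection -/
theorem Tracks.refl {hD : D ∈ [chevG2, chevB2, chevD4, chevF4, chevE6, chevE7, chevE8]}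
    {θ : MulAut ↥(D.group F)} (S : StdAut hD θ) (h1 : ∀ i, S.f i 1 = 1) (i : Fin D.rank)
    {s s' : ℕ} (h : Tracks hD θ s s') :
    Tracks hD θ (D.reflectRoot i s) (D.reflectRoot (S.ρ i) s') := by
  obtain ⟨hs, hs', htr⟩ := h
  obtain ⟨hlt, ε, hε, e⟩ := nEl_mul_xEl_gen (F := F) hD i.isLt hs
  obtain ⟨hlt', ε', _, e'⟩ := nEl_mul_xEl_gen (F := F) hD (S.ρ i).isLt hs'
  refine ⟨hlt, hlt', fun t => ?_⟩
  obtain ⟨t', ht'⟩ := htr (ε * t)
  refine ⟨ε' * t', ?_⟩
  have hεε : ε * (ε * t) = t := by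
    rcases hε with rfl | rfl <;> ring
  have e1 : (xEl hD (D.reflectRoot i s) t : ↥(D.group F)) =
      nEl hD F i * xEl hD s (ε * t) * (nEl hD F i)⁻¹ := by
    rw [e (ε * t), hεε, mul_inv_cancel_right]
  rw [e1, map_mul, map_mul, map_inv, S.map_nEl i (h1 i), ht', e' t', mul_inv_cancel_right]

end

end Cfsg.Agent.Lib.Helper26.ChevNsl
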