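import Cfsg.Agent.Lib.Helper26.ChevNsl1

set_option autoImplicit false

/-! The rank two steps: type preserving, commuting, and the two length swapping cases. -/

namespace Cfsg.Agent.Lib.Helper26.ChevNsl

open Cfsg Cfsg.Lie Matrix Cfsg.Agent.Lib.Helper8.Chev

section

variable {D : ChevalleyDatum} {F : Type*} [Field F]

/-- the word of the right-hand side of the commutator formula, from the list of terms -/
def termsWord (L : List (ℕ × ℤ × ℕ × ℕ)) (t u : F) : List (ℕ × F) :=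
  L.map fun c => (c.1, (c.2.1 : F) * (-t) ^ c.2.2.1 * u ^ c.2.2.2)

theorem comm_rel_terms (hD : D ∈ [chevG2, chevB2, chevD4, chevF4, chevE6, chevE7, chevE8])
    {r s : ℕ} (hr : r < D.nroots) (hs : s < D.nroots) (h1 : s ≠ r) (h2 : s ≠ D.neg r)
    {L : List (ℕ × ℤ × ℕ × ℕ)} (hL : D.commTerms r s = L) (t u : F) :
    (xEl hD s u : ↥(D.group F)) * xEl hD r t =
      xEl hD r t * xEl hD s u * wEl hD (termsWord L t u) := by
  have := comm_rel (F := F) hD hr hs h1 h2 t u
  unfold ChevalleyDatum.commWord at this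
  rw [hL] at this
  exact this

theorem simple_ne (hD : D ∈ [chevG2, chevB2, chevD4, chevF4, chevE6, chevE7, chevE8])
    {i j : Fin D.rank} (hij : i ≠ j) :
    D.simple j ≠ D.simple i ∧ D.simple j ≠ D.neg (D.simple i) := by
  have V := valid0_of_mem hD
  have J := validJ_of_mem hD
  have P := posP_of_mem hD
  have hpi := (J.S i i.isLt).1
  have hpj := (J.S j j.isLt).1
  have hposj := (P _ hpj).1.mp (isPosRoot_simple hD j.isLt)
  have hnegi := (P _ (V.neg_lt hpi)).2.mp (isNegRoot_neg_simple hD i.isLt)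
  refine ⟨fun h => hij (Fin.ext (simple_inj J i.isLt j.isLt h.symm)), by omega⟩

/-- the image of a word all of whose letters are tracked above `c'` -/
theorem tracks_word {hD : D ∈ [chevG2, chevB2, chevD4, chevF4, chevE6, chevE7, chevE8]}
    {θ : MulAut ↥(D.group F)} {c' : ℕ} (w : List (ℕ × F))
    (hw : ∀ p ∈ w, ∃ k', c' + 1 ≤ k' ∧ Tracks hD θ p.1 k') :
    ∃ w' : List (ℕ × F), (∀ p ∈ w', c' + 1 ≤ p.1 ∧ p.1 < D.nroots) ∧ θ (wEl hD w) = wEl hD w' := by
  induction w with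
  | nil => exact ⟨[], by simp, by rw [wEl_nil, map_one]⟩
  | cons p w ih =>
    obtain ⟨w', hw', e⟩ := ih (fun q hq => hw q (List.mem_cons_of_mem _ hq))
    obtain ⟨k', hk', _, hk'n, htr⟩ := hw p List.mem_cons_self
    obtain ⟨t', ht'⟩ := htr p.2
    refine ⟨(k', t') :: w', ?_, ?_⟩
    · intro q hq
      rcases List.mem_cons.mp hq with rfl | hq
      · exact ⟨hk', hk'n⟩
      · exact hw' q hq
    · rw [wEl_cons, map_mul, ht', e, wEl_cons]

theorem termsWord_letters {L : List (ℕ × ℤ × ℕ × ℕ)} {c' n : ℕ}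
    (h : ∀ p ∈ L, c' + 1 ≤ p.1 ∧ p.1 < n) (t u : F) :
    ∀ p ∈ termsWord L t u, c' + 1 ≤ p.1 ∧ p.1 < n := by
  intro p hp
  unfold termsWord at hp
  rw [List.mem_map] at hp
  obtain ⟨q, hq, rfl⟩ := hp
  exact h q hq

theorem intCast_ne_zero_of_pm {C : ℤ} (hC : C = 1 ∨ C = -1) : ((C : ℤ) : F) ≠ 0 := by
  rcases hC with rfl | rfl
  · simp
  · simp

/-- the type preserving rank two step (also one bond) -/
theorem pres_step {hD : D ∈ [chevG2, chevB2, chevD4, chevF4, chevE6, chevE7, chevE8]}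
    {θ : MulAut ↥(D.group F)} (S : StdAut hD θ) (h1 : ∀ i, S.f i 1 = 1) {i j : Fin D.rank}
    (hij : i ≠ j) {c c' : ℕ} {C C' : ℤ} {rest rest' : List (ℕ × ℤ × ℕ × ℕ)}
    (terms : D.commTerms (D.simple i) (D.simple j) = (c, C, 1, 1) :: rest)
    (terms' : D.commTerms (D.simple (S.ρ i)) (D.simple (S.ρ j)) = (c', C', 1, 1) :: rest')
    (hC : C = 1 ∨ C = -1) (hC' : C' = 1 ∨ C' = -1)
    (hc' : D.nroots / 2 ≤ c') (hc'n : c' < D.nroots)
    (hrest' : ∀ p ∈ rest', c' + 1 ≤ p.1 ∧ p.1 < D.nroots)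
    (htc : Tracks hD θ c c')
    (htr : ∀ p ∈ rest, ∃ k', c' + 1 ≤ k' ∧ Tracks hD θ p.1 k') :
    (∀ t, S.f i t = S.f j t) ∧ ∀ t u, S.f j (t * u) = S.f j t * S.f j u := by
  have hρ : S.ρ i ≠ S.ρ j := fun h => hij (S.ρ.injective h)
  obtain ⟨n1, n2⟩ := simple_ne hD hij
  obtain ⟨n1', n2'⟩ := simple_ne hD hρ
  have rel := comm_rel_terms (F := F) hD (StdAut.simple_lt hD i) (StdAut.simple_lt hD j) n1 n2 terms
  have rel' := comm_rel_terms (F := F) hD (StdAut.simple_lt hD (S.ρ i))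
    (StdAut.simple_lt hD (S.ρ j)) n1' n2' terms'
  have hC0 : ((C' : ℤ) : F) ≠ 0 := intCast_ne_zero_of_pm hC'
  have hCC0 : ((C : ℤ) : F) ≠ 0 := intCast_ne_zero_of_pm hC
  have key : ∀ t u : F, θ (xEl hD c ((C : F) * (-t) * u)) =
      xEl hD c' ((C' : F) * (-(S.f i t)) * S.f j u) := by
    intro t u
    have e := congrArg θ (rel t u)
    rw [map_mul, map_mul, map_mul, S.hf, S.hf, rel' (S.f i t) (S.f j u)] at e
    have e2 := mul_left_cancel e
    unfold termsWord at e2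
    rw [List.map_cons, List.map_cons, wEl_cons, wEl_cons, map_mul] at e2
    simp only [pow_one] at e2
    obtain ⟨w', hw', ew⟩ := tracks_word (hD := hD) (θ := θ) (c' := c')
      (rest.map fun c => (c.1, (c.2.1 : F) * (-t) ^ c.2.2.1 * u ^ c.2.2.2)) (by
        intro p hp
        rw [List.mem_map] at hp
        obtain ⟨q, hq, rfl⟩ := hp
        exact htr q hq)
    obtain ⟨s', hs'⟩ := htc.2.2 ((C : F) * (-t) * u)
    rw [ew, hs'] at e2
    have := first_coord hD hc' hc'n _ _ _ _ (termsWord_letters hrest' (S.f i t) (S.f j u)) hw' e2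
    rw [hs', ← this]
  have hmul : ∀ t u : F, S.f i t * S.f j u = S.f j (t * u) := by
    intro t u
    have e1 := key t u
    have e2 := key 1 (t * u)
    have : (C : F) * (-t) * u = (C : F) * (-1) * (t * u) := by ring
    rw [this, e2, h1] at e1
    have := xEl_inj hD hc'n e1
    have h3 : (C' : F) * (S.f j (t * u)) = (C' : F) * (S.f i t * S.f j u) := by
      linear_combination (-1 : F) * this
    exact (mul_left_cancel₀ hC0 h3).symm
  have heq : ∀ t, S.f i t = S.f j t := by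
    intro t
    have := hmul t 1
    rwa [h1, mul_one, mul_one] at this
  refine ⟨heq, fun t u => ?_⟩
  rw [← hmul t u, heq t]

/-- commuting fundamental root subgroups are mapped to commuting ones -/
theorem noncomm_step {hD : D ∈ [chevG2, chevB2, chevD4, chevF4, chevE6, chevE7, chevE8]}
    {θ : MulAut ↥(D.group F)} (S : StdAut hD θ) (h1 : ∀ i, S.f i 1 = 1) {i j : Fin D.rank}
    (hij : i ≠ j) {c' : ℕ} {C' : ℤ} {rest' : List (ℕ × ℤ × ℕ × ℕ)}
    (terms : D.commTerms (D.simple i) (D.simple j) = [])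
    (terms' : D.commTerms (D.simple (S.ρ i)) (D.simple (S.ρ j)) = (c', C', 1, 1) :: rest')
    (hC' : C' = 1 ∨ C' = -1)
    (hc' : D.nroots / 2 ≤ c') (hc'n : c' < D.nroots)
    (hrest' : ∀ p ∈ rest', c' + 1 ≤ p.1 ∧ p.1 < D.nroots) : False := by
  have hρ : S.ρ i ≠ S.ρ j := fun h => hij (S.ρ.injective h)
  obtain ⟨n1, n2⟩ := simple_ne hD hij
  obtain ⟨n1', n2'⟩ := simple_ne hD hρ
  have rel := comm_rel_terms (F := F) hD (StdAut.simple_lt hD i) (StdAut.simple_lt hD j) n1 n2 terms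
  have rel' := comm_rel_terms (F := F) hD (StdAut.simple_lt hD (S.ρ i))
    (StdAut.simple_lt hD (S.ρ j)) n1' n2' terms'
  have hC0 : ((C' : ℤ) : F) ≠ 0 := intCast_ne_zero_of_pm hC'
  have e := congrArg θ (rel 1 1)
  rw [map_mul, map_mul, map_mul, S.hf, S.hf, h1, h1, rel' 1 1] at e
  unfold termsWord at e
  rw [List.map_nil, wEl_nil, map_one, mul_one] at e
  have e2 : wEl hD ((((c', C', 1, 1) : ℕ × ℤ × ℕ × ℕ) :: rest').map fun c : ℕ × ℤ × ℕ × ℕ =>
      (c.1, (c.2.1 : F) * (-1) ^ c.2.2.1 * 1 ^ c.2.2.2)) = 1 := by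
    have := mul_left_cancel (e.trans (mul_one _).symm)
    exact this
  rw [List.map_cons, wEl_cons] at e2
  have e3 : (xEl hD c' ((C' : F) * (-1) ^ 1 * 1 ^ 1) : ↥(D.group F)) *
      wEl hD (termsWord rest' (1 : F) 1) = xEl hD c' 0 * wEl hD [] := by
    rw [xEl_zero, wEl_nil, mul_one]
    exact e2
  have := first_coord hD hc' hc'n _ _ _ _ (termsWord_letters hrest' (1 : F) 1) (by simp) e3
  apply hC0
  linear_combination (-1 : F) * this

end

end Cfsg.Agent.Lib.Helper26.ChevNsl
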