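import Cfsg.Agent.Lib.Helper26.ChevNsl2

set_option autoImplicit false

/-! The length swapping rank two steps: two bonds and three bonds. -/

namespace Cfsg.Agent.Lib.Helper26.ChevNsl

open Cfsg Cfsg.Lie Matrix Cfsg.Agent.Lib.Helper8.Chev

section

variable {D : ChevalleyDatum} {F : Type*} [Field F]

theorem commute_of_terms_nil (hD : D ∈ [chevG2, chevB2, chevD4, chevF4, chevE6, chevE7, chevE8])
    {r s : ℕ} (hr : D.nroots / 2 ≤ r) (hrs : r < s) (hs : s < D.nroots)
    (hL : D.commTerms r s = []) (t u : F) :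
    Commute (xEl hD s u : ↥(D.group F)) (xEl hD r t) := by
  have V := valid0_of_mem hD
  have hrn : r < D.nroots := by omega
  have h2 : s ≠ D.neg r := by
    rw [V.neg_eq r hrn]
    have := V.even
    omega
  have := comm_rel_terms (F := F) hD hrn hs (by omega) h2 hL t u
  unfold termsWord at this
  rw [List.map_nil, wEl_nil, mul_one] at this
  exact this

/-- two bonds, lengths exchanged -/
theorem dbl_swap_step {hD : D ∈ [chevG2, chevB2, chevD4, chevF4, chevE6, chevE7, chevE8]}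
    {θ : MulAut ↥(D.group F)} (S : StdAut hD θ) (h1 : ∀ i, S.f i 1 = 1) {i j : Fin D.rank}
    (hij : i ≠ j) {c d c' d' : ℕ} {C1 C2 C1' C2' : ℤ}
    (terms : D.commTerms (D.simple i) (D.simple j) = [(c, C1, 1, 1), (d, C2, 2, 1)])
    (terms' : D.commTerms (D.simple (S.ρ i)) (D.simple (S.ρ j)) =
      [(c', C1', 1, 1), (d', C2', 1, 2)])
    (hC2' : C2' = 1 ∨ C2' = -1)
    (hc' : D.nroots / 2 ≤ c') (hcd' : c' < d') (hd'n : d' < D.nroots)
    (hcomm : D.commTerms c' d' = [])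
    (htc : Tracks hD θ c d') (htd : Tracks hD θ d c') :
    (∀ t, S.f i t = (S.f j t) ^ 2) ∧ ∀ t u, (S.f j (t * u)) ^ 2 = (S.f j t * S.f j u) ^ 2 := by
  have hρ : S.ρ i ≠ S.ρ j := fun h => hij (S.ρ.injective h)
  obtain ⟨n1, n2⟩ := simple_ne hD hij
  obtain ⟨n1', n2'⟩ := simple_ne hD hρ
  have rel := comm_rel_terms (F := F) hD (StdAut.simple_lt hD i) (StdAut.simple_lt hD j) n1 n2 terms
  have rel' := comm_rel_terms (F := F) hD (StdAut.simple_lt hD (S.ρ i))
    (StdAut.simple_lt hD (S.ρ j)) n1' n2' terms'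
  have hC0 : ((C2' : ℤ) : F) ≠ 0 := intCast_ne_zero_of_pm hC2'
  have hc'n : c' < D.nroots := by omega
  have key : ∀ t u : F, θ (xEl hD c ((C1 : F) * (-t) * u)) =
      xEl hD d' ((C2' : F) * (-(S.f i t)) * (S.f j u) ^ 2) := by
    intro t u
    have e := congrArg θ (rel t u)
    rw [map_mul, map_mul, map_mul, S.hf, S.hf, rel' (S.f i t) (S.f j u)] at e
    have e2 := mul_left_cancel e
    unfold termsWord at e2
    simp only [List.map_cons, List.map_nil, wEl_cons, wEl_nil, mul_one, map_mul, pow_one] at e2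
    obtain ⟨s1, hs1⟩ := htc.2.2 ((C1 : F) * (-t) * u)
    obtain ⟨s2, hs2⟩ := htd.2.2 ((C2 : F) * (-t) ^ 2 * u)
    rw [hs1, hs2, (commute_of_terms_nil hD hc' hcd' hd'n hcomm s2 s1).eq] at e2
    have e3 : (xEl hD c' ((C1' : F) * (-(S.f i t)) * S.f j u) : ↥(D.group F)) *
        wEl hD [(d', (C2' : F) * (-(S.f i t)) * (S.f j u) ^ 2)] =
        xEl hD c' s2 * wEl hD [(d', s1)] := by
      rw [wEl_cons, wEl_cons, wEl_nil, mul_one, mul_one]
      exact e2
    have hp1 := first_coord hD hc' hc'n _ _ _ _ (by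
      intro p hp
      rw [List.mem_singleton] at hp
      rw [hp]
      exact ⟨hcd', hd'n⟩) (by
      intro p hp
      rw [List.mem_singleton] at hp
      rw [hp]
      exact ⟨hcd', hd'n⟩) e3
    rw [hp1] at e2
    have hp2 := xEl_inj hD hd'n (mul_left_cancel e2)
    rw [hs1, hp2]
  have hsq : ∀ t : F, S.f i t = (S.f j t) ^ 2 := by
    intro t
    have e1 := key 1 t
    have e2 := key t 1
    have : (C1 : F) * (-1) * t = (C1 : F) * (-t) * 1 := by ring
    rw [this, e2, h1, h1] at e1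
    have h3 := xEl_inj hD hd'n e1
    have h4 : (C2' : F) * S.f i t = (C2' : F) * (S.f j t) ^ 2 := by
      linear_combination (-1 : F) * h3
    exact mul_left_cancel₀ hC0 h4
  refine ⟨hsq, fun t u => ?_⟩
  have e1 := key t u
  have e2 := key 1 (t * u)
  have : (C1 : F) * (-t) * u = (C1 : F) * (-1) * (t * u) := by ring
  rw [this, e2, h1] at e1
  have h3 := xEl_inj hD hd'n e1
  have h4 : (C2' : F) * (S.f j (t * u)) ^ 2 = (C2' : F) * (S.f i t * (S.f j u) ^ 2) := by
    linear_combination (-1 : F) * h3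
  have h5 := mul_left_cancel₀ hC0 h4
  rw [h5, hsq t]
  ring

/-- three bonds, lengths exchanged -/
theorem g2_swap_step {hD : D ∈ [chevG2, chevB2, chevD4, chevF4, chevE6, chevE7, chevE8]}
    {θ : MulAut ↥(D.group F)} (S : StdAut hD θ) (h1 : ∀ i, S.f i 1 = 1) {i j : Fin D.rank}
    (hij : i ≠ j) {c1 c2 c3 c4 c1' c2' c3' c4' : ℕ} {K1 K2 K3 K4 K1' K2' K3' K4' : ℤ}
    (terms : D.commTerms (D.simple i) (D.simple j) =
      [(c1, K1, 1, 1), (c2, K2, 2, 1), (c3, K3, 3, 1), (c4, K4, 3, 2)])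
    (terms' : D.commTerms (D.simple (S.ρ i)) (D.simple (S.ρ j)) =
      [(c1', K1', 1, 1), (c2', K2', 1, 2), (c3', K3', 1, 3), (c4', K4', 2, 3)])
    (hK3' : K3' = 1 ∨ K3' = -1)
    (hc1' : D.nroots / 2 ≤ c1') (h12 : c1' < c2') (h23 : c2' < c3') (h34 : c3' < c4')
    (hc4'n : c4' < D.nroots)
    (comm13 : D.commTerms c1' c3' = []) (comm23 : D.commTerms c2' c3' = [])
    (comm14 : D.commTerms c1' c4' = []) (comm24 : D.commTerms c2' c4' = [])
    (ht1 : Tracks hD θ c1 c3') (ht2 : Tracks hD θ c2 c4') (ht3 : Tracks hD θ c3 c1')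
    (ht4 : Tracks hD θ c4 c2') :
    (∀ t, S.f i t = (S.f j t) ^ 3) ∧ ∀ t u, (S.f j (t * u)) ^ 3 = (S.f j t * S.f j u) ^ 3 := by
  have hρ : S.ρ i ≠ S.ρ j := fun h => hij (S.ρ.injective h)
  obtain ⟨n1, n2⟩ := simple_ne hD hij
  obtain ⟨n1', n2'⟩ := simple_ne hD hρ
  have rel := comm_rel_terms (F := F) hD (StdAut.simple_lt hD i) (StdAut.simple_lt hD j) n1 n2 terms
  have rel' := comm_rel_terms (F := F) hD (StdAut.simple_lt hD (S.ρ i))
    (StdAut.simple_lt hD (S.ρ j)) n1' n2' terms'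
  have hC0 : ((K3' : ℤ) : F) ≠ 0 := intCast_ne_zero_of_pm hK3'
  have hc1'n : c1' < D.nroots := by omega
  have hc2'n : c2' < D.nroots := by omega
  have hc3'n : c3' < D.nroots := by omega
  have key : ∀ t u : F, θ (xEl hD c1 ((K1 : F) * (-t) * u)) =
      xEl hD c3' ((K3' : F) * (-(S.f i t)) * (S.f j u) ^ 3) := by
    intro t u
    have e := congrArg θ (rel t u)
    rw [map_mul, map_mul, map_mul, S.hf, S.hf, rel' (S.f i t) (S.f j u)] at e
    have e2 := mul_left_cancel e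
    unfold termsWord at e2
    simp only [List.map_cons, List.map_nil, wEl_cons, wEl_nil, mul_one, map_mul, pow_one] at e2
    obtain ⟨s1, hs1⟩ := ht1.2.2 ((K1 : F) * (-t) * u)
    obtain ⟨s2, hs2⟩ := ht2.2.2 ((K2 : F) * (-t) ^ 2 * u)
    obtain ⟨s3, hs3⟩ := ht3.2.2 ((K3 : F) * (-t) ^ 3 * u)
    obtain ⟨s4, hs4⟩ := ht4.2.2 ((K4 : F) * (-t) ^ 3 * u ^ 2)
    rw [hs1, hs2, hs3, hs4] at e2
    have k13 := commute_of_terms_nil hD hc1' (by omega) hc3'n comm13 s3 s1
    have k23 := commute_of_terms_nil hD (by omega) h23 hc3'n comm23 s4 s1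
    have k14 := commute_of_terms_nil hD hc1' (by omega) hc4'n comm14 s3 s2
    have k24 := commute_of_terms_nil hD (by omega) (by omega) hc4'n comm24 s4 s2
    have kk : Commute ((xEl hD c3' s1 : ↥(D.group F)) * xEl hD c4' s2)
        (xEl hD c1' s3 * xEl hD c2' s4) :=
      (k13.mul_right k23).mul_left (k14.mul_right k24)
    have e3 : (xEl hD c3' s1 : ↥(D.group F)) * (xEl hD c4' s2 * (xEl hD c1' s3 * xEl hD c2' s4)) =
        xEl hD c1' s3 * (xEl hD c2' s4 * (xEl hD c3' s1 * xEl hD c4' s2)) := by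
      rw [← mul_assoc, kk.eq, mul_assoc]
    rw [e3] at e2
    -- first coordinate
    have e4 : (xEl hD c1' ((K1' : F) * (-(S.f i t)) * S.f j u) : ↥(D.group F)) *
        wEl hD [(c2', (K2' : F) * (-(S.f i t)) * (S.f j u) ^ 2),
          (c3', (K3' : F) * (-(S.f i t)) * (S.f j u) ^ 3),
          (c4', (K4' : F) * (-(S.f i t)) ^ 2 * (S.f j u) ^ 3)] =
        xEl hD c1' s3 * wEl hD [(c2', s4), (c3', s1), (c4', s2)] := by
      simp only [wEl_cons, wEl_nil, mul_one]
      exact e2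
    have hw : ∀ (x y z : F), ∀ p ∈ [(c2', x), (c3', y), (c4', z)],
        c1' + 1 ≤ p.1 ∧ p.1 < D.nroots := by
      intro x y z p hp
      simp only [List.mem_cons, List.not_mem_nil, or_false] at hp
      rcases hp with rfl | rfl | rfl
      · exact ⟨h12, hc2'n⟩
      · exact ⟨by simp only; omega, hc3'n⟩
      · exact ⟨by simp only; omega, hc4'n⟩
    have hp1 := first_coord hD hc1' hc1'n _ _ _ _ (hw _ _ _) (hw _ _ _) e4
    rw [hp1] at e2
    have e5 := mul_left_cancel e2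
    -- second coordinate
    have e6 : (xEl hD c2' ((K2' : F) * (-(S.f i t)) * (S.f j u) ^ 2) : ↥(D.group F)) *
        wEl hD [(c3', (K3' : F) * (-(S.f i t)) * (S.f j u) ^ 3),
          (c4', (K4' : F) * (-(S.f i t)) ^ 2 * (S.f j u) ^ 3)] =
        xEl hD c2' s4 * wEl hD [(c3', s1), (c4', s2)] := by
      simp only [wEl_cons, wEl_nil, mul_one]
      exact e5
    have hw2 : ∀ (y z : F), ∀ p ∈ [(c3', y), (c4', z)],
        c2' + 1 ≤ p.1 ∧ p.1 < D.nroots := by
      intro y z p hp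
      simp only [List.mem_cons, List.not_mem_nil, or_false] at hp
      rcases hp with rfl | rfl
      · exact ⟨h23, hc3'n⟩
      · exact ⟨by simp only; omega, hc4'n⟩
    have hp2 := first_coord hD (by omega) hc2'n _ _ _ _ (hw2 _ _) (hw2 _ _) e6
    rw [hp2] at e5
    have e7 := mul_left_cancel e5
    -- third coordinate
    have e8 : (xEl hD c3' ((K3' : F) * (-(S.f i t)) * (S.f j u) ^ 3) : ↥(D.group F)) *
        wEl hD [(c4', (K4' : F) * (-(S.f i t)) ^ 2 * (S.f j u) ^ 3)] =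
        xEl hD c3' s1 * wEl hD [(c4', s2)] := by
      simp only [wEl_cons, wEl_nil, mul_one]
      exact e7
    have hw3 : ∀ (z : F), ∀ p ∈ [(c4', z)], c3' + 1 ≤ p.1 ∧ p.1 < D.nroots := by
      intro z p hp
      rw [List.mem_singleton] at hp
      rw [hp]
      exact ⟨h34, hc4'n⟩
    have hp3 := first_coord hD (by omega) hc3'n _ _ _ _ (hw3 _) (hw3 _) e8
    rw [hs1, hp3]
  have hcube : ∀ t : F, S.f i t = (S.f j t) ^ 3 := by
    intro t
    have e1 := key 1 t
    have e2 := key t 1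
    have : (K1 : F) * (-1) * t = (K1 : F) * (-t) * 1 := by ring
    rw [this, e2, h1, h1] at e1
    have h3 := xEl_inj hD hc3'n e1
    have h4 : (K3' : F) * S.f i t = (K3' : F) * (S.f j t) ^ 3 := by
      linear_combination (-1 : F) * h3
    exact mul_left_cancel₀ hC0 h4
  refine ⟨hcube, fun t u => ?_⟩
  have e1 := key t u
  have e2 := key 1 (t * u)
  have : (K1 : F) * (-t) * u = (K1 : F) * (-1) * (t * u) := by ring
  rw [this, e2, h1] at e1
  have h3 := xEl_inj hD hc3'n e1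
  have h4 : (K3' : F) * (S.f j (t * u)) ^ 3 = (K3' : F) * (S.f i t * (S.f j u) ^ 3) := by
    linear_combination (-1 : F) * h3
  have h5 := mul_left_cancel₀ hC0 h4
  rw [h5, hcube t]
  ring

end

end Cfsg.Agent.Lib.Helper26.ChevNsl
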