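import Mathlib

set_option autoImplicit false

/-! Field-theoretic endings of the rank two steps. -/

namespace Cfsg.Agent.Lib.Helper26.ChevNsl

section

variable {F : Type*} [Field F]

/-- an additive bijection that is multiplicative and unital is a field automorphism -/
theorem exists_ringEquiv_of_mul {g : F → F} (hadd : ∀ t u, g (t + u) = g t + g u)
    (hbij : Function.Bijective g) (h1 : g 1 = 1) (hmul : ∀ t u, g (t * u) = g t * g u) :
    ∃ σ : F ≃+* F, ∀ t, g t = σ t := by
  have h0 : g 0 = 0 := by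
    have := hadd 0 0
    rw [add_zero] at this
    exact left_eq_add.mp this
  let φ : F →+* F :=
    { toFun := g
      map_one' := h1
      map_mul' := hmul
      map_zero' := h0
      map_add' := hadd }
  exact ⟨RingEquiv.ofBijective φ hbij, fun t => rfl⟩

/-- the ending of the step with two bonds and exchanged lengths -/
theorem fin_sq {f g : F → F} (hfadd : ∀ t u, f (t + u) = f t + f u)
    (hgadd : ∀ t u, g (t + u) = g t + g u) (hgbij : Function.Bijective g)
    (hf1 : f 1 = 1) (hg1 : g 1 = 1) (hsq : ∀ t, f t = (g t) ^ 2)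
    (hmul : ∀ t u, (g (t * u)) ^ 2 = (g t * g u) ^ 2) :
    ringChar F = 2 ∧ ∃ σ : F ≃+* F, ∀ t, g t = σ t := by
  have h2 : (2 : F) = 0 := by
    have e1 := hfadd 1 1
    rw [hsq, hgadd, hf1, hg1] at e1
    linear_combination e1
  have hc : CharP F 2 := CharTwo.of_one_ne_zero_of_two_eq_zero one_ne_zero h2
  refine ⟨ringChar.eq F 2, ?_⟩
  apply exists_ringEquiv_of_mul hgadd hgbij hg1
  intro t u
  have h := hmul t u
  have h3 : (g (t * u) - g t * g u) ^ 2 = 0 := by
    linear_combination h + ((g t * g u) ^ 2 - g (t * u) * (g t * g u)) * h2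
  exact sub_eq_zero.mp ((pow_eq_zero_iff (two_ne_zero)).mp h3)

/-- the ending of the step with three bonds and exchanged lengths -/
theorem fin_cube {f g : F → F} (hfadd : ∀ t u, f (t + u) = f t + f u)
    (hgadd : ∀ t u, g (t + u) = g t + g u) (hgbij : Function.Bijective g)
    (hf1 : f 1 = 1) (hg1 : g 1 = 1) (hcube : ∀ t, f t = (g t) ^ 3)
    (hmul : ∀ t u, (g (t * u)) ^ 3 = (g t * g u) ^ 3) :
    (ringChar F = 3 ∧ ∃ σ : F ≃+* F, ∀ t, g t = σ t) ∨ ∀ x : F, x = 0 ∨ x = 1 := by
  have hxy : ∀ x y : F, (x + y) ^ 3 = x ^ 3 + y ^ 3 := by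
    intro x y
    obtain ⟨t, rfl⟩ := hgbij.2 x
    obtain ⟨u, rfl⟩ := hgbij.2 y
    rw [← hgadd, ← hcube, ← hcube, ← hcube, hfadd]
  have h6 : (2 : F) * 3 = 0 := by
    have := hxy 1 1
    linear_combination this
  rcases mul_eq_zero.mp h6 with h2 | h3
  · right
    intro x
    have := hxy x 1
    have h4 : x * (x + 1) = 0 := by
      linear_combination this - (x ^ 2 + x) * h2
    rcases mul_eq_zero.mp h4 with h | h
    · exact Or.inl h
    · right
      linear_combination h - h2
  · left
    refine ⟨CharP.ringChar_of_prime_eq_zero Nat.prime_three (by exact_mod_cast h3), ?_⟩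
    apply exists_ringEquiv_of_mul hgadd hgbij hg1
    intro t u
    have h := hmul t u
    have h5 : (g (t * u) - g t * g u) ^ 3 = 0 := by
      linear_combination h - g (t * u) * (g t * g u) * (g (t * u) - g t * g u) * h3
    exact sub_eq_zero.mp ((pow_eq_zero_iff (by norm_num)).mp h5)

/-- in a field with only `0` and `1`, a unital additive map is the identity -/
theorem eq_self_of_two {f : F → F} (hall : ∀ x : F, x = 0 ∨ x = 1)
    (hfadd : ∀ t u, f (t + u) = f t + f u) (hf1 : f 1 = 1) (t : F) : f t = t := by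
  have h0 : f 0 = 0 := by
    have := hfadd 0 0
    rw [add_zero] at this
    exact left_eq_add.mp this
  rcases hall t with rfl | rfl
  · exact h0
  · exact hf1

theorem pow_eq_self_of_two (hall : ∀ x : F, x = 0 ∨ x = 1) {e : ℕ} (he : e ≠ 0) (t : F) :
    t ^ e = t := by
  rcases hall t with rfl | rfl
  · exact zero_pow he
  · exact one_pow e

end

end Cfsg.Agent.Lib.Helper26.ChevNsl
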