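import Cfsg.Agent.Lib.Helper26.ChevNsl3
import Cfsg.Agent.Lib.Helper26.ChevNsl4

set_option autoImplicit false

/-! The form of the normalised automorphisms: type `G₂`. -/

namespace Cfsg.Agent.Lib.Helper26.ChevNsl

open Cfsg Cfsg.Lie Matrix Cfsg.Agent.Lib.Helper8.Chev

section

variable {D : ChevalleyDatum} {F : Type*} [Field F]

theorem Tracks.congr {hD : D ∈ [chevG2, chevB2, chevD4, chevF4, chevE6, chevE7, chevE8]}
    {θ : MulAut ↥(D.group F)} {s s' r r' : ℕ} (h : Tracks hD θ s s') (e : s = r) (e' : s' = r') :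
    Tracks hD θ r r' := e ▸ e' ▸ h

theorem graphExp_ne_zero [Finite F] (D : ChevalleyDatum) (i j : ℕ) :
    D.graphExp (ringChar F) i j ≠ 0 := by
  unfold ChevalleyDatum.graphExp
  split_ifs
  · exact CharP.char_ne_zero_of_finite F (ringChar F)
  · exact one_ne_zero

/-- the ending when the field has two elements -/
theorem form_of_two [Finite F]
    {hD : D ∈ [chevG2, chevB2, chevD4, chevF4, chevE6, chevE7, chevE8]}
    {θ : MulAut ↥(D.group F)} (S : StdAut hD θ) (h1 : ∀ i, S.f i 1 = 1)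
    (hall : ∀ x : F, x = 0 ∨ x = 1) (i : Fin D.rank) (t : F) :
    S.f i t = ((RingEquiv.refl F) t) ^ D.graphExp (ringChar F) i (S.ρ i) := by
  rw [RingEquiv.refl_apply, pow_eq_self_of_two hall (graphExp_ne_zero D _ _),
    eq_self_of_two hall (S.f_add i) (h1 i)]

end

def g2i0 : Fin chevG2.rank := ⟨0, by decide⟩
def g2i1 : Fin chevG2.rank := ⟨1, by decide⟩

theorem g2_cases : ∀ x : Fin chevG2.rank, x = g2i0 ∨ x = g2i1 := by decide
theorem g2_ne : g2i0 ≠ g2i1 := by decide

theorem diagSym_G2 : ∀ ρ : Equiv.Perm (Fin chevG2.rank), chevG2.IsDiagramSymmetry ρ := by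
  unfold ChevalleyDatum.IsDiagramSymmetry
  decide

theorem g2_terms01 : chevG2.commTerms (chevG2.simple g2i0) (chevG2.simple g2i1) =
    [(8, -1, 1, 1), (9, 1, 2, 1), (10, 1, 3, 1), (11, 1, 3, 2)] := by decide
theorem g2_terms10 : chevG2.commTerms (chevG2.simple g2i1) (chevG2.simple g2i0) =
    [(8, 1, 1, 1), (9, 1, 1, 2), (10, -1, 1, 3), (11, -2, 2, 3)] := by decide
theorem g2_r8 : chevG2.reflectRoot g2i1 (chevG2.simple g2i0) = 8 := by decide
theorem g2_r10 : chevG2.reflectRoot g2i0 (chevG2.simple g2i1) = 10 := by decide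
theorem g2_r9 : chevG2.reflectRoot g2i0 8 = 9 := by decide
theorem g2_r11 : chevG2.reflectRoot g2i1 10 = 11 := by decide
theorem g2_comm_8_10 : chevG2.commTerms 8 10 = [] := by decide
theorem g2_comm_9_10 : chevG2.commTerms 9 10 = [] := by decide
theorem g2_comm_8_11 : chevG2.commTerms 8 11 = [] := by decide
theorem g2_comm_9_11 : chevG2.commTerms 9 11 = [] := by decide

theorem g2_exp00 (c : ℕ) : chevG2.graphExp c g2i0 g2i0 = 1 := by
  unfold ChevalleyDatum.graphExp
  rw [if_neg (by decide)]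
theorem g2_exp11 (c : ℕ) : chevG2.graphExp c g2i1 g2i1 = 1 := by
  unfold ChevalleyDatum.graphExp
  rw [if_neg (by decide)]
theorem g2_exp01 (c : ℕ) : chevG2.graphExp c g2i0 g2i1 = c := by
  unfold ChevalleyDatum.graphExp
  rw [if_pos (by decide)]
theorem g2_exp10 (c : ℕ) : chevG2.graphExp c g2i1 g2i0 = 1 := by
  unfold ChevalleyDatum.graphExp
  rw [if_neg (by decide)]

section

variable {F : Type*} [Field F]

theorem nsl_G2 [Finite F]
    {hD : chevG2 ∈ [chevG2, chevB2, chevD4, chevF4, chevE6, chevE7, chevE8]}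
    {θ : MulAut ↥(chevG2.group F)} (S : StdAut hD θ) (h1 : ∀ i, S.f i 1 = 1) :
    ∃ σ : F ≃+* F, chevG2.IsDiagramSymmetry S.ρ ∧ ∀ (i : Fin chevG2.rank) (t : F),
      S.f i t = (σ t) ^ chevG2.graphExp (ringChar F) i (S.ρ i) := by
  have hsym := diagSym_G2 S.ρ
  rcases g2_cases (S.ρ g2i0) with h0 | h0
  · -- the identity
    have h1' : S.ρ g2i1 = g2i1 := by
      rcases g2_cases (S.ρ g2i1) with h | h
      · exact absurd (S.ρ.injective (h0.trans h.symm)) g2_ne
      · exact h
    have t8 : Tracks hD θ 8 8 := by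
      have := (tracks_simple S g2i0).refl S h1 g2i1
      rw [h0, h1'] at this
      exact this.congr g2_r8 g2_r8
    have t10 : Tracks hD θ 10 10 := by
      have := (tracks_simple S g2i1).refl S h1 g2i0
      rw [h0, h1'] at this
      exact this.congr g2_r10 g2_r10
    have t9 : Tracks hD θ 9 9 := by
      have := t8.refl S h1 g2i0
      rw [h0] at this
      exact this.congr g2_r9 g2_r9
    have t11 : Tracks hD θ 11 11 := by
      have := t10.refl S h1 g2i1
      rw [h1'] at this
      exact this.congr g2_r11 g2_r11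
    have terms' : chevG2.commTerms (chevG2.simple (S.ρ g2i0)) (chevG2.simple (S.ρ g2i1)) =
        (8, -1, 1, 1) :: [(9, 1, 2, 1), (10, 1, 3, 1), (11, 1, 3, 2)] := by
      rw [h0, h1']
      exact g2_terms01
    obtain ⟨heq, hmul⟩ := pres_step S h1 g2_ne g2_terms01 terms' (Or.inr rfl) (Or.inr rfl)
      (by decide) (by decide) (by decide) t8 (by
        intro p hp
        simp only [List.mem_cons, List.not_mem_nil, or_false] at hp
        rcases hp with rfl | rfl | rfl
        · exact ⟨9, by norm_num, t9⟩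
        · exact ⟨10, by norm_num, t10⟩
        · exact ⟨11, by norm_num, t11⟩)
    obtain ⟨σ, hσ⟩ := exists_ringEquiv_of_mul (S.f_add g2i1) ⟨S.f_inj g2i1, S.f_surj g2i1⟩
      (h1 g2i1) hmul
    refine ⟨σ, hsym, fun i t => ?_⟩
    rcases g2_cases i with rfl | rfl
    · rw [h0, g2_exp00, pow_one, heq, hσ]
    · rw [h1', g2_exp11, pow_one, hσ]
  · -- the exchange of the two nodes
    have h1' : S.ρ g2i1 = g2i0 := by
      rcases g2_cases (S.ρ g2i1) with h | h
      · exact h
      · exact absurd (S.ρ.injective (h0.trans h.symm)) g2_ne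
    have t8 : Tracks hD θ 8 10 := by
      have := (tracks_simple S g2i0).refl S h1 g2i1
      rw [h0, h1'] at this
      exact this.congr g2_r8 g2_r10
    have t10 : Tracks hD θ 10 8 := by
      have := (tracks_simple S g2i1).refl S h1 g2i0
      rw [h0, h1'] at this
      exact this.congr g2_r10 g2_r8
    have t9 : Tracks hD θ 9 11 := by
      have := t8.refl S h1 g2i0
      rw [h0] at this
      exact this.congr g2_r9 g2_r11
    have t11 : Tracks hD θ 11 9 := by
      have := t10.refl S h1 g2i1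
      rw [h1'] at this
      exact this.congr g2_r11 g2_r9
    have terms' : chevG2.commTerms (chevG2.simple (S.ρ g2i0)) (chevG2.simple (S.ρ g2i1)) =
        [(8, 1, 1, 1), (9, 1, 1, 2), (10, -1, 1, 3), (11, -2, 2, 3)] := by
      rw [h0, h1']
      exact g2_terms10
    obtain ⟨hcube, hmul⟩ := g2_swap_step S h1 g2_ne g2_terms01 terms' (Or.inr rfl)
      (by decide) (by decide) (by decide) (by decide) (by decide)
      g2_comm_8_10 g2_comm_9_10 g2_comm_8_11 g2_comm_9_11 t8 t9 t10 t11
    rcases fin_cube (S.f_add g2i0) (S.f_add g2i1) ⟨S.f_inj g2i1, S.f_surj g2i1⟩ (h1 g2i0)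
      (h1 g2i1) hcube hmul with ⟨hchar, σ, hσ⟩ | hall
    · refine ⟨σ, hsym, fun i t => ?_⟩
      rcases g2_cases i with rfl | rfl
      · rw [h0, g2_exp01, hchar, hcube, hσ]
      · rw [h1', g2_exp10, pow_one, hσ]
    · exact ⟨RingEquiv.refl F, hsym, form_of_two S h1 hall⟩

end

end Cfsg.Agent.Lib.Helper26.ChevNsl
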