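import Cfsg.Agent.Lib.Helper26.ChevNsl5

set_option autoImplicit false

/-! The form of the normalised automorphisms: type `B₂`. -/

namespace Cfsg.Agent.Lib.Helper26.ChevNsl

open Cfsg Cfsg.Lie Matrix Cfsg.Agent.Lib.Helper8.Chev

def b2i0 : Fin chevB2.rank := ⟨0, by decide⟩
def b2i1 : Fin chevB2.rank := ⟨1, by decide⟩

theorem b2_cases : ∀ x : Fin chevB2.rank, x = b2i0 ∨ x = b2i1 := by decide
theorem b2_ne : b2i0 ≠ b2i1 := by decide

theorem diagSym_B2 : ∀ ρ : Equiv.Perm (Fin chevB2.rank), chevB2.IsDiagramSymmetry ρ := by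
  unfold ChevalleyDatum.IsDiagramSymmetry
  decide

theorem b2_terms01 : chevB2.commTerms (chevB2.simple b2i0) (chevB2.simple b2i1) =
    [(6, -1, 1, 1), (7, -1, 2, 1)] := by decide
theorem b2_terms10 : chevB2.commTerms (chevB2.simple b2i1) (chevB2.simple b2i0) =
    [(6, 1, 1, 1), (7, -1, 1, 2)] := by decide
theorem b2_r6 : chevB2.reflectRoot b2i1 (chevB2.simple b2i0) = 6 := by decide
theorem b2_r7 : chevB2.reflectRoot b2i0 (chevB2.simple b2i1) = 7 := by decide
theorem b2_comm_6_7 : chevB2.commTerms 6 7 = [] := by decide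

theorem b2_exp00 (c : ℕ) : chevB2.graphExp c b2i0 b2i0 = 1 := by
  unfold ChevalleyDatum.graphExp
  rw [if_neg (by decide)]
theorem b2_exp11 (c : ℕ) : chevB2.graphExp c b2i1 b2i1 = 1 := by
  unfold ChevalleyDatum.graphExp
  rw [if_neg (by decide)]
theorem b2_exp01 (c : ℕ) : chevB2.graphExp c b2i0 b2i1 = c := by
  unfold ChevalleyDatum.graphExp
  rw [if_pos (by decide)]
theorem b2_exp10 (c : ℕ) : chevB2.graphExp c b2i1 b2i0 = 1 := by
  unfold ChevalleyDatum.graphExp
  rw [if_neg (by decide)]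

section

variable {F : Type*} [Field F]

theorem nsl_B2 [Finite F]
    {hD : chevB2 ∈ [chevG2, chevB2, chevD4, chevF4, chevE6, chevE7, chevE8]}
    {θ : MulAut ↥(chevB2.group F)} (S : StdAut hD θ) (h1 : ∀ i, S.f i 1 = 1) :
    ∃ σ : F ≃+* F, chevB2.IsDiagramSymmetry S.ρ ∧ ∀ (i : Fin chevB2.rank) (t : F),
      S.f i t = (σ t) ^ chevB2.graphExp (ringChar F) i (S.ρ i) := by
  have hsym := diagSym_B2 S.ρ
  rcases b2_cases (S.ρ b2i0) with h0 | h0
  · -- the identity
    have h1' : S.ρ b2i1 = b2i1 := by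
      rcases b2_cases (S.ρ b2i1) with h | h
      · exact absurd (S.ρ.injective (h0.trans h.symm)) b2_ne
      · exact h
    have t6 : Tracks hD θ 6 6 := by
      have := (tracks_simple S b2i0).refl S h1 b2i1
      rw [h0, h1'] at this
      exact this.congr b2_r6 b2_r6
    have t7 : Tracks hD θ 7 7 := by
      have := (tracks_simple S b2i1).refl S h1 b2i0
      rw [h0, h1'] at this
      exact this.congr b2_r7 b2_r7
    have terms' : chevB2.commTerms (chevB2.simple (S.ρ b2i0)) (chevB2.simple (S.ρ b2i1)) =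
        (6, -1, 1, 1) :: [(7, -1, 2, 1)] := by
      rw [h0, h1']
      exact b2_terms01
    obtain ⟨heq, hmul⟩ := pres_step S h1 b2_ne b2_terms01 terms' (Or.inr rfl) (Or.inr rfl)
      (by decide) (by decide) (by decide) t6 (by
        intro p hp
        rw [List.mem_singleton] at hp
        rw [hp]
        exact ⟨7, by norm_num, t7⟩)
    obtain ⟨σ, hσ⟩ := exists_ringEquiv_of_mul (S.f_add b2i1) ⟨S.f_inj b2i1, S.f_surj b2i1⟩
      (h1 b2i1) hmul
    refine ⟨σ, hsym, fun i t => ?_⟩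
    rcases b2_cases i with rfl | rfl
    · rw [h0, b2_exp00, pow_one, heq, hσ]
    · rw [h1', b2_exp11, pow_one, hσ]
  · -- the exchange of the two nodes
    have h1' : S.ρ b2i1 = b2i0 := by
      rcases b2_cases (S.ρ b2i1) with h | h
      · exact h
      · exact absurd (S.ρ.injective (h0.trans h.symm)) b2_ne
    have t6 : Tracks hD θ 6 7 := by
      have := (tracks_simple S b2i0).refl S h1 b2i1
      rw [h0, h1'] at this
      exact this.congr b2_r6 b2_r7
    have t7 : Tracks hD θ 7 6 := by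
      have := (tracks_simple S b2i1).refl S h1 b2i0
      rw [h0, h1'] at this
      exact this.congr b2_r7 b2_r6
    have terms' : chevB2.commTerms (chevB2.simple (S.ρ b2i0)) (chevB2.simple (S.ρ b2i1)) =
        [(6, 1, 1, 1), (7, -1, 1, 2)] := by
      rw [h0, h1']
      exact b2_terms10
    obtain ⟨hsq, hmul⟩ := dbl_swap_step S h1 b2_ne b2_terms01 terms' (Or.inr rfl)
      (by decide) (by decide) (by decide) b2_comm_6_7 t6 t7
    obtain ⟨hchar, σ, hσ⟩ := fin_sq (S.f_add b2i0) (S.f_add b2i1)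
      ⟨S.f_inj b2i1, S.f_surj b2i1⟩ (h1 b2i0) (h1 b2i1) hsq hmul
    refine ⟨σ, hsym, fun i t => ?_⟩
    rcases b2_cases i with rfl | rfl
    · rw [h0, b2_exp01, hchar, hsq, hσ]
    · rw [h1', b2_exp10, pow_one, hσ]

end

end Cfsg.Agent.Lib.Helper26.ChevNsl
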