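import Cfsg.Agent.Lib.Helper26.ChevNsl6

set_option autoImplicit false

/-! The form of the normalised automorphisms: type `F₄`. -/

namespace Cfsg.Agent.Lib.Helper26.ChevNsl

open Cfsg Cfsg.Lie Matrix Cfsg.Agent.Lib.Helper8.Chev

/-- two fundamental root subgroups commute and are not joined, or are joined and the first
commutator term is the `(1, 1)` term with constant `±1`, the other terms being higher -/
def chkPair (D : ChevalleyDatum) (i j : ℕ) : Bool :=
  match D.commTerms (D.simple i) (D.simple j) with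
  | [] => decide (D.bonds i j = 0)
  | (c', C', 1, 1) :: rest' =>
      decide (D.bonds i j ≠ 0) && (decide (C' = 1) || decide (C' = -1)) &&
        decide (D.nroots / 2 ≤ c') && decide (c' < D.nroots) &&
        rest'.all (fun p => decide (c' + 1 ≤ p.1) && decide (p.1 < D.nroots))
  | _ => false

theorem pair_spec {D : ChevalleyDatum} {i j : ℕ} (h : chkPair D i j = true) :
    (D.bonds i j = 0 ∧ D.commTerms (D.simple i) (D.simple j) = []) ∨
    (D.bonds i j ≠ 0 ∧ ∃ (c' : ℕ) (C' : ℤ) (rest' : List (ℕ × ℤ × ℕ × ℕ)),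
      D.commTerms (D.simple i) (D.simple j) = (c', C', 1, 1) :: rest' ∧ (C' = 1 ∨ C' = -1) ∧
      D.nroots / 2 ≤ c' ∧ c' < D.nroots ∧ ∀ p ∈ rest', c' + 1 ≤ p.1 ∧ p.1 < D.nroots) := by
  unfold chkPair at h
  split at h
  · rename_i e
    exact Or.inl ⟨by simpa using h, e⟩
  · rename_i c' C' rest' e
    simp only [Bool.and_eq_true, Bool.or_eq_true, decide_eq_true_eq, List.all_eq_true] at h
    obtain ⟨⟨⟨⟨hb, hC⟩, hc⟩, hcn⟩, hr⟩ := h
    exact Or.inr ⟨hb, c', C', rest', e, hC, hc, hcn, hr⟩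
  · exact absurd h (by simp)

def f4i0 : Fin chevF4.rank := ⟨0, by decide⟩
def f4i1 : Fin chevF4.rank := ⟨1, by decide⟩
def f4i2 : Fin chevF4.rank := ⟨2, by decide⟩
def f4i3 : Fin chevF4.rank := ⟨3, by decide⟩

theorem f4_cases : ∀ x : Fin chevF4.rank, x = f4i0 ∨ x = f4i1 ∨ x = f4i2 ∨ x = f4i3 := by decide
theorem f4_ne01 : f4i0 ≠ f4i1 := by decide
theorem f4_ne12 : f4i1 ≠ f4i2 := by decide
theorem f4_ne23 : f4i2 ≠ f4i3 := by decide
theorem f4_rev0 : Fin.rev f4i0 = f4i3 := by decide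
theorem f4_rev1 : Fin.rev f4i1 = f4i2 := by decide
theorem f4_rev2 : Fin.rev f4i2 = f4i1 := by decide
theorem f4_rev3 : Fin.rev f4i3 = f4i0 := by decide

theorem chk_F4 : ∀ i j : Fin chevF4.rank, i ≠ j → chkPair chevF4 i j = true := by decide

theorem f4_perm : ∀ ρ : Equiv.Perm (Fin chevF4.rank),
    (∀ i j : Fin chevF4.rank, i ≠ j → chevF4.bonds i j = 0 → chevF4.bonds (ρ i) (ρ j) = 0) →
    (∀ i, ρ i = i) ∨ (∀ i, ρ i = Fin.rev i) := by
  decide

theorem f4_sym_id : ∀ ρ : Equiv.Perm (Fin chevF4.rank), (∀ i, ρ i = i) →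
    chevF4.IsDiagramSymmetry ρ := by
  intro ρ h i j _
  rw [h i, h j]

theorem f4_bonds_rev : ∀ i j : Fin chevF4.rank,
    chevF4.bonds (Fin.rev i) (Fin.rev j) = chevF4.bonds i j := by decide

theorem f4_sym_rev : ∀ ρ : Equiv.Perm (Fin chevF4.rank), (∀ i, ρ i = Fin.rev i) →
    chevF4.IsDiagramSymmetry ρ := by
  intro ρ h i j _
  rw [h i, h j]
  exact f4_bonds_rev i j

theorem f4_terms01 : chevF4.commTerms (chevF4.simple f4i0) (chevF4.simple f4i1) =
    [(34, -1, 1, 1)] := by decide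
theorem f4_terms12 : chevF4.commTerms (chevF4.simple f4i1) (chevF4.simple f4i2) =
    [(28, -1, 1, 1), (30, -1, 2, 1)] := by decide
theorem f4_terms23 : chevF4.commTerms (chevF4.simple f4i2) (chevF4.simple f4i3) =
    [(26, -1, 1, 1)] := by decide
theorem f4_terms32 : chevF4.commTerms (chevF4.simple f4i3) (chevF4.simple f4i2) =
    [(26, 1, 1, 1)] := by decide
theorem f4_terms21 : chevF4.commTerms (chevF4.simple f4i2) (chevF4.simple f4i1) =
    [(28, 1, 1, 1), (30, -1, 1, 2)] := by decide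
theorem f4_terms10 : chevF4.commTerms (chevF4.simple f4i1) (chevF4.simple f4i0) =
    [(34, 1, 1, 1)] := by decide
theorem f4_r34 : chevF4.reflectRoot f4i1 (chevF4.simple f4i0) = 34 := by decide
theorem f4_r34' : chevF4.reflectRoot f4i0 (chevF4.simple f4i1) = 34 := by decide
theorem f4_r28 : chevF4.reflectRoot f4i2 (chevF4.simple f4i1) = 28 := by decide
theorem f4_r30 : chevF4.reflectRoot f4i1 (chevF4.simple f4i2) = 30 := by decide
theorem f4_r26 : chevF4.reflectRoot f4i3 (chevF4.simple f4i2) = 26 := by decide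
theorem f4_r26' : chevF4.reflectRoot f4i2 (chevF4.simple f4i3) = 26 := by decide
theorem f4_comm_28_30 : chevF4.commTerms 28 30 = [] := by decide

theorem graphExp_self (D : ChevalleyDatum) (c i : ℕ) : D.graphExp c i i = 1 := by
  unfold ChevalleyDatum.graphExp
  cases D.isLong (D.simple i) <;> simp

theorem f4_exp03 (c : ℕ) : chevF4.graphExp c f4i0 f4i3 = c := by
  unfold ChevalleyDatum.graphExp
  rw [if_pos (by decide)]
theorem f4_exp12 (c : ℕ) : chevF4.graphExp c f4i1 f4i2 = c := by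
  unfold ChevalleyDatum.graphExp
  rw [if_pos (by decide)]
theorem f4_exp21 (c : ℕ) : chevF4.graphExp c f4i2 f4i1 = 1 := by
  unfold ChevalleyDatum.graphExp
  rw [if_neg (by decide)]
theorem f4_exp30 (c : ℕ) : chevF4.graphExp c f4i3 f4i0 = 1 := by
  unfold ChevalleyDatum.graphExp
  rw [if_neg (by decide)]

section

variable {F : Type*} [Field F]

theorem f4_adj {hD : chevF4 ∈ [chevG2, chevB2, chevD4, chevF4, chevE6, chevE7, chevE8]}
    {θ : MulAut ↥(chevF4.group F)} (S : StdAut hD θ) (h1 : ∀ i, S.f i 1 = 1) :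
    ∀ i j : Fin chevF4.rank, i ≠ j → chevF4.bonds i j = 0 →
      chevF4.bonds (S.ρ i) (S.ρ j) = 0 := by
  intro i j hij hb
  have hρ : S.ρ i ≠ S.ρ j := fun h => hij (S.ρ.injective h)
  rcases pair_spec (chk_F4 i j hij) with ⟨_, hnil⟩ | ⟨hne, _⟩
  · rcases pair_spec (chk_F4 (S.ρ i) (S.ρ j) hρ) with
      ⟨hb', _⟩ | ⟨_, c', C', rest', ht', hC', hc', hc'n, hrest'⟩
    · exact hb'
    · exact (noncomm_step S h1 hij hnil ht' hC' hc' hc'n hrest').elim
  · exact absurd hb hne

theorem nsl_F4 [Finite F]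
    {hD : chevF4 ∈ [chevG2, chevB2, chevD4, chevF4, chevE6, chevE7, chevE8]}
    {θ : MulAut ↥(chevF4.group F)} (S : StdAut hD θ) (h1 : ∀ i, S.f i 1 = 1) :
    ∃ σ : F ≃+* F, chevF4.IsDiagramSymmetry S.ρ ∧ ∀ (i : Fin chevF4.rank) (t : F),
      S.f i t = (σ t) ^ chevF4.graphExp (ringChar F) i (S.ρ i) := by
  rcases f4_perm S.ρ (f4_adj S h1) with hρ | hρ
  · -- the identity
    have hsym := f4_sym_id S.ρ hρ
    have t34 : Tracks hD θ 34 34 := by
      have := (tracks_simple S f4i0).refl S h1 f4i1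
      rw [hρ, hρ] at this
      exact this.congr f4_r34 f4_r34
    have t28 : Tracks hD θ 28 28 := by
      have := (tracks_simple S f4i1).refl S h1 f4i2
      rw [hρ, hρ] at this
      exact this.congr f4_r28 f4_r28
    have t30 : Tracks hD θ 30 30 := by
      have := (tracks_simple S f4i2).refl S h1 f4i1
      rw [hρ, hρ] at this
      exact this.congr f4_r30 f4_r30
    have t26 : Tracks hD θ 26 26 := by
      have := (tracks_simple S f4i2).refl S h1 f4i3
      rw [hρ, hρ] at this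
      exact this.congr f4_r26 f4_r26
    have terms01' : chevF4.commTerms (chevF4.simple (S.ρ f4i0)) (chevF4.simple (S.ρ f4i1)) =
        (34, -1, 1, 1) :: [] := by
      rw [hρ, hρ]
      exact f4_terms01
    have terms12' : chevF4.commTerms (chevF4.simple (S.ρ f4i1)) (chevF4.simple (S.ρ f4i2)) =
        (28, -1, 1, 1) :: [(30, -1, 2, 1)] := by
      rw [hρ, hρ]
      exact f4_terms12
    have terms23' : chevF4.commTerms (chevF4.simple (S.ρ f4i2)) (chevF4.simple (S.ρ f4i3)) =
        (26, -1, 1, 1) :: [] := by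
      rw [hρ, hρ]
      exact f4_terms23
    obtain ⟨heq01, -⟩ := pres_step S h1 f4_ne01 f4_terms01 terms01' (Or.inr rfl) (Or.inr rfl)
      (by decide) (by decide) (by decide) t34 (by simp)
    obtain ⟨heq12, -⟩ := pres_step S h1 f4_ne12 f4_terms12 terms12' (Or.inr rfl) (Or.inr rfl)
      (by decide) (by decide) (by decide) t28 (by
        intro p hp
        rw [List.mem_singleton] at hp
        rw [hp]
        exact ⟨30, by norm_num, t30⟩)
    obtain ⟨heq23, hmul⟩ := pres_step S h1 f4_ne23 f4_terms23 terms23' (Or.inr rfl) (Or.inr rfl)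
      (by decide) (by decide) (by decide) t26 (by simp)
    obtain ⟨σ, hσ⟩ := exists_ringEquiv_of_mul (S.f_add f4i3) ⟨S.f_inj f4i3, S.f_surj f4i3⟩
      (h1 f4i3) hmul
    refine ⟨σ, hsym, fun i t => ?_⟩
    rw [hρ i, graphExp_self, pow_one]
    rcases f4_cases i with rfl | rfl | rfl | rfl
    · rw [heq01, heq12, heq23, hσ]
    · rw [heq12, heq23, hσ]
    · rw [heq23, hσ]
    · rw [hσ]
  · -- the reversal
    have hsym := f4_sym_rev S.ρ hρ
    have h0 : S.ρ f4i0 = f4i3 := (hρ f4i0).trans f4_rev0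
    have h1' : S.ρ f4i1 = f4i2 := (hρ f4i1).trans f4_rev1
    have h2 : S.ρ f4i2 = f4i1 := (hρ f4i2).trans f4_rev2
    have h3 : S.ρ f4i3 = f4i0 := (hρ f4i3).trans f4_rev3
    have t34 : Tracks hD θ 34 26 := by
      have := (tracks_simple S f4i0).refl S h1 f4i1
      rw [h0, h1'] at this
      exact this.congr f4_r34 f4_r26'
    have t26 : Tracks hD θ 26 34 := by
      have := (tracks_simple S f4i2).refl S h1 f4i3
      rw [h2, h3] at this
      exact this.congr f4_r26 f4_r34'
    have t28 : Tracks hD θ 28 30 := by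
      have := (tracks_simple S f4i1).refl S h1 f4i2
      rw [h1', h2] at this
      exact this.congr f4_r28 f4_r30
    have t30 : Tracks hD θ 30 28 := by
      have := (tracks_simple S f4i2).refl S h1 f4i1
      rw [h1', h2] at this
      exact this.congr f4_r30 f4_r28
    have terms01' : chevF4.commTerms (chevF4.simple (S.ρ f4i0)) (chevF4.simple (S.ρ f4i1)) =
        (26, 1, 1, 1) :: [] := by
      rw [h0, h1']
      exact f4_terms32
    have terms12' : chevF4.commTerms (chevF4.simple (S.ρ f4i1)) (chevF4.simple (S.ρ f4i2)) =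
        [(28, 1, 1, 1), (30, -1, 1, 2)] := by
      rw [h1', h2]
      exact f4_terms21
    have terms23' : chevF4.commTerms (chevF4.simple (S.ρ f4i2)) (chevF4.simple (S.ρ f4i3)) =
        (34, 1, 1, 1) :: [] := by
      rw [h2, h3]
      exact f4_terms10
    obtain ⟨heq01, -⟩ := pres_step S h1 f4_ne01 f4_terms01 terms01' (Or.inr rfl) (Or.inl rfl)
      (by decide) (by decide) (by decide) t34 (by simp)
    obtain ⟨heq23, -⟩ := pres_step S h1 f4_ne23 f4_terms23 terms23' (Or.inr rfl) (Or.inl rfl)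
      (by decide) (by decide) (by decide) t26 (by simp)
    obtain ⟨hsq, hmul⟩ := dbl_swap_step S h1 f4_ne12 f4_terms12 terms12' (Or.inr rfl)
      (by decide) (by decide) (by decide) f4_comm_28_30 t28 t30
    obtain ⟨hchar, σ, hσ⟩ := fin_sq (S.f_add f4i1) (S.f_add f4i2)
      ⟨S.f_inj f4i2, S.f_surj f4i2⟩ (h1 f4i1) (h1 f4i2) hsq hmul
    refine ⟨σ, hsym, fun i t => ?_⟩
    rcases f4_cases i with rfl | rfl | rfl | rfl
    · rw [h0, f4_exp03, hchar, heq01, hsq, hσ]
    · rw [h1', f4_exp12, hchar, hsq, hσ]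
    · rw [h2, f4_exp21, pow_one, hσ]
    · rw [h3, f4_exp30, pow_one, ← heq23, hσ]

end

end Cfsg.Agent.Lib.Helper26.ChevNsl
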