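import Cfsg.Agent.Lib.Helper26.ChevNsl7

set_option autoImplicit false

/-! The form of the normalised automorphisms for the types with two root lengths. -/

namespace Cfsg.Agent.Lib.Helper26.ChevNsl

open Cfsg Cfsg.Lie Matrix Cfsg.Agent.Lib.Helper8.Chev

theorem nsl_form {D : ChevalleyDatum} {F : Type*} [Field F] [Finite F]
    (hD3 : D ∈ [chevG2, chevB2, chevF4])
    (hD : D ∈ [chevG2, chevB2, chevD4, chevF4, chevE6, chevE7, chevE8])
    {θ : MulAut ↥(D.group F)} (S : StdAut hD θ) (h1 : ∀ i, S.f i 1 = 1) :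
    ∃ σ : F ≃+* F, D.IsDiagramSymmetry S.ρ ∧ ∀ (i : Fin D.rank) (t : F),
      S.f i t = (σ t) ^ D.graphExp (ringChar F) i (S.ρ i) := by
  simp only [List.mem_cons, List.not_mem_nil, or_false] at hD3
  rcases hD3 with rfl | rfl | rfl
  · exact nsl_G2 S h1
  · exact nsl_B2 S h1
  · exact nsl_F4 S h1

/-- the form of the normalised automorphisms, in the shape of `NormalForm` -/
theorem normalForm_nsl {D : ChevalleyDatum} {F : Type*} [Field F] [Finite F]
    (hD3 : D ∈ [chevG2, chevB2, chevF4])
    (hD : D ∈ [chevG2, chevB2, chevD4, chevF4, chevE6, chevE7, chevE8]) :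
    NormalForm hD F :=
  fun _ S h1 => nsl_form hD3 hD S h1

/-- the form of the normalised automorphisms for all seven types -/
theorem normalForm_all {D : ChevalleyDatum} {F : Type*} [Field F] [Finite F]
    (hD : D ∈ [chevG2, chevB2, chevD4, chevF4, chevE6, chevE7, chevE8]) :
    NormalForm hD F := by
  have h : D ∈ [chevG2, chevB2, chevF4] ∨ D ∈ [chevD4, chevE6, chevE7, chevE8] := by
    simp only [List.mem_cons, List.not_mem_nil, or_false] at hD ⊢
    tauto
  rcases h with h | h
  · exact normalForm_nsl h hD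
  · exact normalForm_sl h hD

end Cfsg.Agent.Lib.Helper26.ChevNsl
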