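import Cfsg.Agent.Lib.Helper26.ChevNsl8

set_option autoImplicit false

/-! Exports for the counting of outer automorphisms: a normalised automorphism in standard form
whose permutation of the nodes is not the identity forces the characteristic (types `G₂`, `B₂`,
`F₄`). -/

namespace Cfsg.Agent.Lib.Helper26.ChevNsl

open Cfsg Cfsg.Lie Matrix Cfsg.Agent.Lib.Helper8.Chev

section

variable {F : Type*} [Field F]

theorem card_eq_two_of_all (hall : ∀ x : F, x = 0 ∨ x = 1) : Nat.card F = 2 := by
  rw [Nat.card_eq_two_iff]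
  refine ⟨0, 1, zero_ne_one, ?_⟩
  ext x
  simp only [Set.mem_insert_iff, Set.mem_singleton_iff, Set.mem_univ, iff_true]
  exact hall x

/-- type `G₂`: a nontrivial permutation of the nodes forces characteristic `3` (or the field with
two elements) -/
theorem char_G2_of_ne_one [Finite F]
    {hD : chevG2 ∈ [chevG2, chevB2, chevD4, chevF4, chevE6, chevE7, chevE8]}
    {θ : MulAut ↥(chevG2.group F)} (S : StdAut hD θ) (h1 : ∀ i, S.f i 1 = 1) (hρ : S.ρ ≠ 1) :
    ringChar F = 3 ∨ Nat.card F = 2 := by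
  rcases g2_cases (S.ρ g2i0) with h0 | h0
  · exfalso
    have h1' : S.ρ g2i1 = g2i1 := by
      rcases g2_cases (S.ρ g2i1) with h | h
      · exact absurd (S.ρ.injective (h0.trans h.symm)) g2_ne
      · exact h
    apply hρ
    ext i
    rcases g2_cases i with rfl | rfl
    · rw [h0]; rfl
    · rw [h1']; rfl
  · have h1' : S.ρ g2i1 = g2i0 := by
      rcases g2_cases (S.ρ g2i1) with h | h
      · exact h
      · exact absurd (S.ρ.injective (h0.trans h.symm)) g2_ne
    have t8 : Tracks hD θ 8 10 := by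
      have := (tracks_simple S g2i0).refl S h1 g2i1
      rw [h0, h1'] at this
      exact this.congr g2_r8 g2_r10
    have t10 : Tracks hD θ 10 8 := by
      have := (tracks_simple S g2i1).refl S h1 g2i0
      rw [h0, h1'] at this
      exact this.congr g2_r10 g2_r8
    have t9 : Tracks hD θ 9 11 := by
      have := t8.refl S h1 g2i0
      rw [h0] at this
      exact this.congr g2_r9 g2_r11
    have t11 : Tracks hD θ 11 9 := by
      have := t10.refl S h1 g2i1
      rw [h1'] at this
      exact this.congr g2_r11 g2_r9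
    have terms' : chevG2.commTerms (chevG2.simple (S.ρ g2i0)) (chevG2.simple (S.ρ g2i1)) =
        [(8, 1, 1, 1), (9, 1, 1, 2), (10, -1, 1, 3), (11, -2, 2, 3)] := by
      rw [h0, h1']
      exact g2_terms10
    obtain ⟨hcube, hmul⟩ := g2_swap_step S h1 g2_ne g2_terms01 terms' (Or.inr rfl)
      (by decide) (by decide) (by decide) (by decide) (by decide)
      g2_comm_8_10 g2_comm_9_10 g2_comm_8_11 g2_comm_9_11 t8 t9 t10 t11
    rcases fin_cube (S.f_add g2i0) (S.f_add g2i1) ⟨S.f_inj g2i1, S.f_surj g2i1⟩ (h1 g2i0)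
      (h1 g2i1) hcube hmul with ⟨hchar, -⟩ | hall
    · exact Or.inl hchar
    · exact Or.inr (card_eq_two_of_all hall)

/-- type `B₂`: a nontrivial permutation of the nodes forces characteristic `2` -/
theorem char_B2_of_ne_one [Finite F]
    {hD : chevB2 ∈ [chevG2, chevB2, chevD4, chevF4, chevE6, chevE7, chevE8]}
    {θ : MulAut ↥(chevB2.group F)} (S : StdAut hD θ) (h1 : ∀ i, S.f i 1 = 1) (hρ : S.ρ ≠ 1) :
    ringChar F = 2 := by
  rcases b2_cases (S.ρ b2i0) with h0 | h0
  · exfalso
    have h1' : S.ρ b2i1 = b2i1 := by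
      rcases b2_cases (S.ρ b2i1) with h | h
      · exact absurd (S.ρ.injective (h0.trans h.symm)) b2_ne
      · exact h
    apply hρ
    ext i
    rcases b2_cases i with rfl | rfl
    · rw [h0]; rfl
    · rw [h1']; rfl
  · have h1' : S.ρ b2i1 = b2i0 := by
      rcases b2_cases (S.ρ b2i1) with h | h
      · exact h
      · exact absurd (S.ρ.injective (h0.trans h.symm)) b2_ne
    have t6 : Tracks hD θ 6 7 := by
      have := (tracks_simple S b2i0).refl S h1 b2i1
      rw [h0, h1'] at this
      exact this.congr b2_r6 b2_r7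
    have t7 : Tracks hD θ 7 6 := by
      have := (tracks_simple S b2i1).refl S h1 b2i0
      rw [h0, h1'] at this
      exact this.congr b2_r7 b2_r6
    have terms' : chevB2.commTerms (chevB2.simple (S.ρ b2i0)) (chevB2.simple (S.ρ b2i1)) =
        [(6, 1, 1, 1), (7, -1, 1, 2)] := by
      rw [h0, h1']
      exact b2_terms10
    obtain ⟨hsq, hmul⟩ := dbl_swap_step S h1 b2_ne b2_terms01 terms' (Or.inr rfl)
      (by decide) (by decide) (by decide) b2_comm_6_7 t6 t7
    exact (fin_sq (S.f_add b2i0) (S.f_add b2i1)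
      ⟨S.f_inj b2i1, S.f_surj b2i1⟩ (h1 b2i0) (h1 b2i1) hsq hmul).1

/-- type `F₄`: the permutation of the nodes is the identity or the reversal -/
theorem rho_F4 {hD : chevF4 ∈ [chevG2, chevB2, chevD4, chevF4, chevE6, chevE7, chevE8]}
    {θ : MulAut ↥(chevF4.group F)} (S : StdAut hD θ) (h1 : ∀ i, S.f i 1 = 1) :
    (∀ i, S.ρ i = i) ∨ (∀ i, S.ρ i = Fin.rev i) :=
  f4_perm S.ρ (f4_adj S h1)

/-- type `F₄`: a nontrivial permutation of the nodes forces characteristic `2` -/
theorem char_F4_of_ne_one [Finite F]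
    {hD : chevF4 ∈ [chevG2, chevB2, chevD4, chevF4, chevE6, chevE7, chevE8]}
    {θ : MulAut ↥(chevF4.group F)} (S : StdAut hD θ) (h1 : ∀ i, S.f i 1 = 1) (hρ1 : S.ρ ≠ 1) :
    ringChar F = 2 := by
  rcases rho_F4 S h1 with hρ | hρ
  · exfalso
    apply hρ1
    ext i
    rw [hρ i]
    rfl
  · have h1' : S.ρ f4i1 = f4i2 := (hρ f4i1).trans f4_rev1
    have h2 : S.ρ f4i2 = f4i1 := (hρ f4i2).trans f4_rev2
    have t28 : Tracks hD θ 28 30 := by
      have := (tracks_simple S f4i1).refl S h1 f4i2
      rw [h1', h2] at this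
      exact this.congr f4_r28 f4_r30
    have t30 : Tracks hD θ 30 28 := by
      have := (tracks_simple S f4i2).refl S h1 f4i1
      rw [h1', h2] at this
      exact this.congr f4_r30 f4_r28
    have terms12' : chevF4.commTerms (chevF4.simple (S.ρ f4i1)) (chevF4.simple (S.ρ f4i2)) =
        [(28, 1, 1, 1), (30, -1, 1, 2)] := by
      rw [h1', h2]
      exact f4_terms21
    obtain ⟨hsq, hmul⟩ := dbl_swap_step S h1 f4_ne12 f4_terms12 terms12' (Or.inr rfl)
      (by decide) (by decide) (by decide) f4_comm_28_30 t28 t30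
    exact (fin_sq (S.f_add f4i1) (S.f_add f4i2)
      ⟨S.f_inj f4i2, S.f_surj f4i2⟩ (h1 f4i1) (h1 f4i2) hsq hmul).1

end

end Cfsg.Agent.Lib.Helper26.ChevNsl
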