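import Mathlib
import Cfsg.Prelude.Def_KGroupFacts
import Cfsg.Agent.H5.TCkSound
import Cfsg.Agent.H5.StemTC
import Cfsg.Agent.H5.StemLift
import Cfsg.Agent.Lib.Helper21.WeakL12
import Cfsg.Agent.Lib.Helper1.WeakL3
import Cfsg.Agent.Lib.Helper1.WeakL4
import Cfsg.Agent.Lib.Helper17.WeakL5
import Cfsg.Agent.Lib.Helper12.McLWData
import Cfsg.Agent.Lib.Helper1.Co2MData

/-!
# S2044 piece [UP2] (helper26 for helper1): a stem extension of a `Co₂`-tuple group with `2`-group kernel is an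
isomorphism, with the statements of [A] and [TC] as hypotheses.
-/

set_option autoImplicit false
set_option linter.unusedVariables false
set_option linter.style.haveILetI false

namespace Cfsg.Agent.Lib.Helper1.Co2M

open Cfsg Cfsg.H5.TCk
open Cfsg.H5.StemTC (cword cwords)
open Cfsg.Agent.Lib.Helper12.McLW (relsG relsU relsW IsMcLTuple)

universe u

namespace Helper26

theorem gl_even' {Γ : Type u} [Group Γ] (γ : ℕ → Γ) (i : ℕ) : gl γ (2 * i) = γ i := by
  unfold gl
  have h1 : (2 * i) % 2 = 0 := by omega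
  have h2 : (2 * i) / 2 = i := by omega
  simp only [h1, if_true, h2]

theorem ev_replicate' {Γ : Type u} [Group Γ] (γ : ℕ → Γ) (l x : ℕ) :
    ev γ (List.replicate l x) = gl γ x ^ l := by
  induction l with
  | zero => simp [ev]
  | succ l ih => rw [List.replicate_succ, ev, ih, pow_succ']

theorem ev_wpow {Γ : Type u} [Group Γ] (γ : ℕ → Γ) (w : List ℕ) (n : ℕ) :
    ev γ (wpow w n) = ev γ w ^ n := by
  induction n with
  | zero => simp [wpow, ev]
  | succ n ih => rw [wpow, ev_append, ih, pow_succ']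

theorem wpow_all (w : List ℕ) (n : ℕ) (p : ℕ → Bool) (hw : w.all p = true) :
    (wpow w n).all p = true := by
  induction n with
  | zero => simp [wpow]
  | succ n ih => rw [wpow, List.all_append, hw, ih]; rfl

/-- words in the letters `< 2 * t` only see the first `t` generators -/
theorem ev_congr_lt {Γ : Type u} [Group Γ] (γ γ' : ℕ → Γ) (t : ℕ) (h : ∀ i < t, γ i = γ' i)
    (w : List ℕ) (hw : w.all (fun l => decide (l < 2 * t)) = true) : ev γ w = ev γ' w := by
  induction w with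
  | nil => simp [ev]
  | cons l w ih =>
    rw [List.all_cons, Bool.and_eq_true, decide_eq_true_eq] at hw
    rw [ev, ev, ih hw.2]
    congr 1
    unfold gl
    have : l / 2 < t := by omega
    rw [h _ this]

/-- [B], local version: an amalgam relator lifts exactly -/
theorem ev_amal_eq_one' {G : Type u} [Group G] {Δ : Type u} [Group Δ]
    (τ : Δ →* G) (hc : τ.ker ≤ Subgroup.center Δ) (hk : IsPGroup 2 τ.ker) (g : ℕ → G) (γ : ℕ → Δ)
    (hγ : (fun i => τ (γ i)) = g)
    (hinj : ∀ w : List ℕ, w.all (fun l => decide (l < 10)) = true → ev g w = 1 → ev γ w = 1)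
    (q : ℕ × List ℕ × List ℕ × ℕ)
    (h1 : q.2.1.all (fun l => decide (l < 10)) = true) (h2 : q.2.2.1.all (fun l => decide (l < 10)) = true)
    (hn : q.2.2.2 % 2 = 1) (hord : ev g (ordWord q) = 1) (hrel : ev g (amalRel q) = 1) :
    ev γ (amalRel q) = 1 := by
  obtain ⟨l, w1, w2, n⟩ := q
  simp only at h1 h2 hn hord hrel ⊢
  unfold ordWord at hord
  unfold amalRel at hrel ⊢
  simp only at hord hrel ⊢
  have hev : ∀ {Γ : Type u} [Group Γ] (δ : ℕ → Γ),
      ev δ ([l] ++ w1 ++ [linv l] ++ w2) = gl δ l * ev δ w1 * (gl δ l)⁻¹ * ev δ w2 := by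
    intro Γ _ δ
    rw [ev_append, ev_append, ev_append]
    simp only [ev, mul_one, gl_linv]
  rw [hev] at hrel ⊢
  have hcop : n.Coprime 2 := by
    rw [Nat.coprime_comm, Nat.Prime.coprime_iff_not_dvd Nat.prime_two]
    omega
  -- the order of `w₁` and `w₂` in `G`
  have hg1 : ev g w1 ^ n = 1 := by rw [← ev_wpow]; exact hord
  have hg2 : ev g w2 ^ n = 1 := by
    have e : ev g w2 = (gl g l * ev g w1 * (gl g l)⁻¹)⁻¹ := eq_inv_of_mul_eq_one_right hrel
    rw [e, inv_pow, conj_pow, hg1, mul_one, mul_inv_cancel, inv_one]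
  -- upstairs
  have hγ1 : ev γ w1 ^ n = 1 := by
    rw [← ev_wpow]
    apply hinj _ (wpow_all _ _ _ h1)
    rw [ev_wpow]; exact hg1
  have hγ2 : ev γ w2 ^ n = 1 := by
    rw [← ev_wpow]
    apply hinj _ (wpow_all _ _ _ h2)
    rw [ev_wpow]; exact hg2
  have hy : (gl γ l * ev γ w1 * (gl γ l)⁻¹) ^ n = 1 := by
    rw [conj_pow, hγ1, mul_one, mul_inv_cancel]
  have hy' : ((ev γ w2)⁻¹) ^ n = 1 := by rw [inv_pow, hγ2, inv_one]
  have himg : τ (gl γ l * ev γ w1 * (gl γ l)⁻¹) = τ ((ev γ w2)⁻¹) := by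
    have e : τ (gl γ l * ev γ w1 * (gl γ l)⁻¹ * ev γ w2) = 1 := by
      rw [← hev, Cfsg.H5.StemTC.map_ev, hγ, hev]
      exact hrel
    rw [map_mul] at e
    rw [map_inv]
    exact eq_inv_of_mul_eq_one_left e
  have := Cfsg.Agent.Lib.Helper10.Weak.lift_unique τ hc hk hcop hcop hy hy' himg
  rw [this, inv_mul_cancel]

set_option maxRecDepth 100000 in
theorem relsG_all : ∀ r ∈ relsG, r.all (fun l => decide (l < 10)) = true := by decide

set_option maxRecDepth 100000 in
theorem amalTop_all : ∀ q ∈ amalTop, q.2.1.all (fun l => decide (l < 10)) = true ∧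
    q.2.2.1.all (fun l => decide (l < 10)) = true ∧ q.2.2.2 % 2 = 1 := by decide

theorem mem_relsTop {r : List ℕ} (h : r ∈ relsTop) :
    r ∈ relsG ∨ r ∈ exactTop ∨ (∃ q, q ∈ amalTop ∧ r = amalRel q) ∨
      ∃ ρ, ρ ∈ mixedTop ∧ ∃ k, k < 6 ∧ r = cword ρ k := by
  unfold relsTop at h
  rcases List.mem_append.mp h with h | h
  · rcases List.mem_append.mp h with h | h
    · rcases List.mem_append.mp h with h | h
      · exact Or.inl h
      · exact Or.inr (Or.inl h)
    · obtain ⟨q, hq, rfl⟩ := List.mem_map.mp h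
      exact Or.inr (Or.inr (Or.inl ⟨q, hq, rfl⟩))
  · unfold cwords at h
    obtain ⟨ρ, hρ, h2⟩ := List.mem_flatMap.mp h
    obtain ⟨k, hk, rfl⟩ := List.mem_map.mp h2
    exact Or.inr (Or.inr (Or.inr ⟨ρ, hρ, k, List.mem_range.mp hk, rfl⟩))

theorem mem_exactTop {r : List ℕ} (h : r ∈ exactTop) :
    r = List.replicate 23 10 ∨ r = Cfsg.Agent.Lib.Helper10.Weak.conjRel [0, 2, 9] 5 5 2 := by
  unfold exactTop at h
  rcases List.mem_cons.mp h with h | h
  · exact Or.inl h
  · rcases List.mem_cons.mp h with h | h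
    · right; rw [h]; rfl
    · simp at h

/-- [UP2] (SPARE copy; helper1's `Lib/Helper1/Co2MUP2.lean` is the wired one) a stem extension of a `Co₂`-tuple group with `2`-group kernel is an isomorphism. -/
theorem card_ker_eq_one_of
    (hA : ∀ {G : Type u} [Group G] {Δ : Type u} [Group Δ] [Finite Δ]
      (τ : Δ →* G), IsStemExtension τ → IsPGroup 2 τ.ker → ∀ (g u : ℕ → G),
      Nat.card (Subgroup.closure (Set.range fun i : Fin 5 => g i.val)) = 898128000 →
      168 ≤ Nat.card (Subgroup.closure (Set.range fun i : Fin 2 => g i.val)) →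
      u 0 = ev g wordU → u 1 = g 0 →
      40320 ≤ Nat.card (Subgroup.closure (Set.range fun i : Fin 2 => u i.val)) →
      (∀ r ∈ relsG, ev g r = 1) → (∀ r ∈ relsU, ev u r = 1) →
      ∃ γ : ℕ → Δ, (∀ i < 5, τ (γ i) = g i) ∧
        Nat.card (Subgroup.closure (Set.range fun i : Fin 5 => γ i.val)) ≤ 898128000 ∧
        ∀ w : List ℕ, w.all (fun l => decide (l < 10)) = true → ev g w = 1 → ev γ w = 1)
    (hC : ∀ {Γ : Type u} [Group Γ] (γ : ℕ → Γ), (∀ r ∈ relsTop, ev γ r = 1) →
      ∀ [Finite (Subgroup.closure (Set.range fun i : Fin 5 => γ i.val))],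
      Finite (Subgroup.closure (Set.range fun i : Fin 6 => γ i.val)) ∧
      Nat.card (Subgroup.closure (Set.range fun i : Fin 6 => γ i.val)) ≤
        47104 * Nat.card (Subgroup.closure (Set.range fun i : Fin 5 => γ i.val)))
    {G : Type u} [Group G] (g u : ℕ → G) (hg : IsCo2Tuple g u)
    {Δ : Type u} [Group Δ] [Finite Δ] (τ : Δ →* G) (hτ : IsStemExtension τ) (hk : IsPGroup 2 τ.ker) :
    Nat.card τ.ker = 1 := by
  classical
  obtain ⟨hcard, hgen, hcard5, h168, hu0, hu1, h40320, hG, hU, hex, ham, hmix⟩ := hg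
  obtain ⟨γ0, hγ0, hcardγ, hinj0⟩ := hA τ hτ hk g u hcard5 h168 hu0 hu1 h40320 hG hU
  have hsurj := hτ.1
  have hc := hτ.2.1
  -- the lift of `g 5` of order `23`
  have h23 : g 5 ^ 23 = 1 := by
    have := hex (List.replicate 23 10) (by unfold exactTop; exact List.mem_cons_self)
    rw [ev_replicate'] at this
    have e : gl g 10 = g 5 := gl_even' g 5
    rw [e] at this
    exact this
  obtain ⟨f, hf1, hf2⟩ := Cfsg.Agent.Lib.Helper10.Weak.exists_lift_pow_eq_one τ hsurj hk (g 5)
    (n := 23) (by norm_num) h23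
  -- all lifts
  have hexl : ∀ k : ℕ, ∃ y : Δ, τ y = g k ∧ (k < 5 → y = γ0 k) ∧ (k = 5 → y = f) := by
    intro k
    by_cases hk5 : k < 5
    · exact ⟨γ0 k, hγ0 k hk5, fun _ => rfl, fun h => by omega⟩
    · by_cases hk5' : k = 5
      · subst hk5'
        exact ⟨f, hf1, fun h => by omega, fun _ => rfl⟩
      · obtain ⟨y, hy⟩ := hsurj (g k)
        exact ⟨y, hy, fun h => absurd h hk5, fun h => absurd h hk5'⟩
  choose γ hγτ hγlt hγ5 using hexl
  have hτγ : (fun k => τ (γ k)) = g := funext hγτ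
  have hγ5' : γ 5 = f := hγ5 5 rfl
  have hinj : ∀ w : List ℕ, w.all (fun l => decide (l < 10)) = true → ev g w = 1 → ev γ w = 1 := by
    intro w hw hw1
    rw [ev_congr_lt γ γ0 5 hγlt w hw]
    exact hinj0 w hw hw1
  -- the relators hold for the lifts
  have hrelΔ : ∀ r ∈ relsTop, ev γ r = 1 := by
    intro r hr
    rcases mem_relsTop hr with h | h | ⟨q, hq, rfl⟩ | ⟨ρ, hρ, k, hk6, rfl⟩
    · exact hinj r (relsG_all r h) (hG r h)
    · have hgr := hex r h
      rcases mem_exactTop h with rfl | rfl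
      · rw [ev_replicate']
        have e : gl γ 10 = γ 5 := gl_even' γ 5
        rw [e, hγ5']
        exact hf2
      · apply Cfsg.Agent.Lib.Helper10.Weak.ev_conjRel_eq_one τ hc hk γ (fun _ => 23) [0, 2, 9] 5 5 2
          (by norm_num) (by norm_num)
        · show γ 5 ^ 23 = 1
          rw [hγ5']; exact hf2
        · show γ 5 ^ 23 = 1
          rw [hγ5']; exact hf2
        · rw [hτγ]; exact hgr
    · obtain ⟨h1, h2, hn⟩ := amalTop_all q hq
      obtain ⟨hrel, hord⟩ := ham q hq
      exact ev_amal_eq_one' τ hc hk g γ hτγ hinj q h1 h2 hn hord hrel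
    · apply Cfsg.H5.StemTC.ev_cword
      apply hc
      rw [MonoidHom.mem_ker, Cfsg.H5.StemTC.map_ev, hτγ]
      exact hmix ρ hρ
  -- the lifts generate
  have hgenΔ : Subgroup.closure (Set.range fun i : Fin 6 => γ i.val) = ⊤ := by
    apply Cfsg.H5.StemLift.eq_top_of_map_eq_top τ hτ
    rw [MonoidHom.map_closure, ← Set.range_comp]
    have : (⇑τ ∘ fun i : Fin 6 => γ i.val) = fun i : Fin 6 => g i.val := by
      funext i; exact hγτ i.val
    rw [this, hgen]
  -- counting
  have h5 : (Subgroup.closure (Set.range fun i : Fin 5 => γ i.val)) =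
      (Subgroup.closure (Set.range fun i : Fin 5 => γ0 i.val)) := by
    congr 2
    funext i
    exact hγlt i.val i.2
  obtain ⟨_, hle⟩ := hC γ hrelΔ
  rw [hgenΔ, Subgroup.card_top, h5] at hle
  have hmul : Nat.card Δ = Nat.card G * Nat.card τ.ker :=
    Cfsg.Agent.Lib.Helper10.Weak.Helper1.card_eq_ker_mul τ hsurj
  have hpos : 0 < Nat.card τ.ker := Nat.card_pos
  rw [hmul, hcard] at hle
  have hle2 : 42305421312000 * Nat.card τ.ker ≤ 47104 * 898128000 :=
    hle.trans (Nat.mul_le_mul_left _ hcardγ)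
  have : Nat.card τ.ker ≤ 1 := by
    by_contra hcon
    have hcon : 2 ≤ Nat.card τ.ker := by omega
    have : 42305421312000 * 2 ≤ 42305421312000 * Nat.card τ.ker := Nat.mul_le_mul_left _ hcon
    omega
  omega

end Helper26

end Cfsg.Agent.Lib.Helper1.Co2M
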