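import Cfsg.Agent.Lib.Helper26.SchurAsm
import Cfsg.Agent.Lib.Helper8.ChevSt22
import Cfsg.Agent.S2395
import Cfsg.Agent.S2397

set_option autoImplicit false

/-! The Schur multiplier of a Chevalley group `D.group F` over a finite field from (i) the order of
the centre of the group presented by Steinberg's relations (helper8) and (ii) the splitting of the
finite central extensions of the group presented by (R1), (R2). -/

namespace Cfsg.Agent.Lib.Helper26.E67

universe u

open Cfsg Cfsg.Lie Cfsg.Agent.Lib.Helper8.Chev

theorem hasCyclicSchur_of_section {F : Type u} [Field F] [Fintype F] {D : ChevalleyDatum}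
    (hD : D ∈ [chevG2, chevB2, chevD4, chevF4, chevE6, chevE7, chevE8])
    (hDK : D ∈ [chevB2, chevG2] → ∃ x : F, x ≠ 0 ∧ x ≠ 1)
    {n : ℕ} (hn : Nat.card (Subgroup.center (D.SteinbergGroup F)) = n) (hn1 : n = 1 ∨ n.Prime)
    (hsec : ∀ (E : Type u) [Group E] [Finite E] (ψ : E →* D.SteinbergCover F),
      Function.Surjective ψ → ψ.ker ≤ Subgroup.center E →
      ∃ τ : D.SteinbergCover F →* E, ψ.comp τ = MonoidHom.id _) :
    HasCyclicSchurMultiplier ↥(D.group F) n := by
  classical
  have hπ : Function.Surjective (scHom hD F) := scHom_surjective hD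
  have hker : (scHom hD F).ker ≤ Subgroup.center (D.SteinbergCover F) := scHom_ker_le hD
  have hkc : (scHom hD F).ker = Subgroup.center (D.SteinbergCover F) := by
    apply le_antisymm hker
    intro z hz
    rw [MonoidHom.mem_ker]
    have hc : scHom hD F z ∈ Subgroup.center ↥(D.group F) := by
      rw [Subgroup.mem_center_iff]
      intro g
      obtain ⟨γ, rfl⟩ := hπ g
      rw [← map_mul, ← map_mul, Subgroup.mem_center_iff.mp hz γ]
    rwa [chev_center_eq_bot hD, Subgroup.mem_bot] at hc
  obtain ⟨e, -⟩ := Cfsg.Agent.S2397.result (K := F) D hD hDK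
  have hcard : Nat.card (scHom hD F).ker = n := by
    rw [hkc, ← hn]
    exact Nat.card_congr (Subgroup.centerCongr e).toEquiv
  have hn0 : n ≠ 0 := by
    rcases hn1 with rfl | h
    · norm_num
    · exact h.ne_zero
  haveI : Finite ↥(D.group F) := inferInstance
  have hfin : Finite (D.SteinbergCover F) := by
    have h1 := Subgroup.card_eq_card_quotient_mul_card_subgroup (scHom hD F).ker
    have h2 : Nat.card (D.SteinbergCover F ⧸ (scHom hD F).ker) = Nat.card ↥(D.group F) :=
      Nat.card_congr (QuotientGroup.quotientKerEquivOfSurjective (scHom hD F) hπ).toEquiv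
    apply Nat.finite_of_card_ne_zero
    rw [h1, h2, hcard]
    exact Nat.mul_ne_zero Nat.card_pos.ne' hn0
  have hperf : commutator (D.SteinbergCover F) = ⊤ := Cfsg.Agent.S2395.result D hD hDK
  have hcyc : IsCyclic (scHom hD F).ker := by
    rcases hn1 with rfl | h
    · haveI : Subsingleton (scHom hD F).ker := (Nat.card_eq_one_iff_unique.mp hcard).1
      exact isCyclic_of_subsingleton
    · haveI := Fact.mk h
      exact isCyclic_of_prime_card hcard
  subst hcard
  exact SchurAsm.hasSchurMultiplier_of_universal (scHom hD F) hπ hker hperf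
    (fun Γ _ _ σ hσ hσc => SchurAsm.exists_lift_of_split (scHom hD F) σ hσ hσc hsec)
    (zmodCyclicMulEquiv hcyc).symm

end Cfsg.Agent.Lib.Helper26.E67
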