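import Cfsg.Agent.Lib.Helper16.F4CC.SectionGen
import Cfsg.Agent.Lib.Helper10.E8CC.Char2
import Cfsg.Agent.S2395

set_option autoImplicit false

/-! Steinberg's Theorem 10 over EVERY field for a simply laced datum of rank at least five, from
five table facts: route X (`|K| ≥ 3`, helper16's `exists_section_gen`) and route Y (`|K| = 2`,
helper10's `exists_section_two`). -/

namespace Cfsg.Agent.Lib.Helper26.E67

open Cfsg.Lie Cfsg.Agent.Lib.Helper8.Chev Cfsg.Agent.Lib.Helper14.StCC
open Cfsg.Agent.Lib.Helper10.E8CC Cfsg.Agent.Lib.Helper16.F4CC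

variable {D : ChevalleyDatum} {K : Type*} [Field K] {E : Type*} [Group E]

/-- every central extension of the group presented by (R1), (R2) splits, over every field, given
the five table facts -/
theorem exists_section_of_tables
    (hD : D ∈ [chevG2, chevB2, chevD4, chevF4, chevE6, chevE7, chevE8])
    (hDK : D ∈ [chevB2, chevG2] → ∃ x : K, x ≠ 0 ∧ x ≠ 1)
    (hshape : ∀ r s : ℕ, r < D.nroots → s < D.nroots → s ≠ r → s ≠ D.neg r → SL1 D r s)
    (hdec : ∀ r s : ℕ, r < D.nroots → s < D.nroots → s ≠ r → s ≠ D.neg r →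
      D.commTerms r s = [] → Dec1 D r s)
    (hcan : ∀ q : ℕ, q < D.nroots → CanP D q)
    (hcd : ∀ r < D.nroots, (∃ m : ℕ → ℤ, wt D m r = 1) ∧ CommData1 D r)
    (hperp : ∀ r s : ℕ, r < D.nroots → s < D.nroots → s ≠ r → s ≠ D.neg r →
      ∃ m : ℕ → ℤ, wt D m r = 0 ∧ (wt D m s = 1 ∨ wt D m s = -1))
    (ψ : E →* D.SteinbergCover K) (hψ : Function.Surjective ψ)
    (hc : ψ.ker ≤ Subgroup.center E) :
    ∃ τ : D.SteinbergCover K →* E, ψ.comp τ = MonoidHom.id _ := by
  by_cases hK : ∃ c : K, c ≠ 0 ∧ c ≠ 1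
  · exact exists_section_gen hD hK (Cfsg.Agent.S2395.result D hD hDK) hcd
      (fun r s hr hs h1 h2 => Or.inl (hperp r s hr hs h1 h2)) ψ hψ hc
  · have hK2 : ∀ x : K, x = 0 ∨ x = 1 := by
      intro x
      by_cases hx : x = 0
      · exact Or.inl hx
      · right
        by_contra hx1
        exact hK ⟨x, hx, hx1⟩
    exact exists_section_two hD hK2 hshape hdec hcan ψ hψ hc

end Cfsg.Agent.Lib.Helper26.E67
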