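import Cfsg.Agent.Lib.Helper26.E67SectionGen
import Cfsg.Agent.Lib.Helper2.E67CCS
import Cfsg.Agent.Lib.Helper20.E67CCE6

set_option autoImplicit false

/-! Every central extension of the group of type `E₆` presented by (R1), (R2) splits, over every
field (tables: helper2 [sl1], helper20 [dec1, canP, commData1, perp1]; cores: helper16 [route X,
`|K| ≥ 3`], helper10 [route Y, `|K| = 2`]). -/

namespace Cfsg.Agent.Lib.Helper26.E67

open Cfsg.Lie Cfsg.Agent.Lib.Helper8.Chev Cfsg.Agent.Lib.Helper14.StCC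
open Cfsg.Agent.Lib.Helper10.E8CC

theorem hD_E6 : chevE6 ∈ [chevG2, chevB2, chevD4, chevF4, chevE6, chevE7, chevE8] := by simp

theorem hDK_E6 {K : Type*} [Field K] : chevE6 ∈ [chevB2, chevG2] → ∃ x : K, x ≠ 0 ∧ x ≠ 1 := by
  intro h
  exfalso
  simp only [List.mem_cons, List.not_mem_nil, or_false] at h
  rcases h with h | h
  · exact absurd (congrArg ChevalleyDatum.rank h) (by decide)
  · exact absurd (congrArg ChevalleyDatum.rank h) (by decide)

variable {K : Type*} [Field K] {E : Type*} [Group E]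

/-- **Steinberg's Theorem 10 for `E₆` over every field** -/
theorem exists_section_E6 (ψ : E →* chevE6.SteinbergCover K) (hψ : Function.Surjective ψ)
    (hc : ψ.ker ≤ Subgroup.center E) :
    ∃ τ : chevE6.SteinbergCover K →* E, ψ.comp τ = MonoidHom.id _ :=
  exists_section_of_tables hD_E6 hDK_E6 (fun r s _ _ _ _ => Helper2.sl1_E6_all r s)
    (fun _ _ hr hs h1 h2 h => dec1_E6 hr hs h1 h2 h) (fun _ hq => canP_E6 hq)
    (fun _ hr => commData1_E6 hr) (fun _ _ hr hs h1 h2 => perp1_E6 hr hs h1 h2) ψ hψ hc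

end Cfsg.Agent.Lib.Helper26.E67
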