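import Mathlib
import Cfsg.Agent.Lib.Helper16.FHDefs

set_option autoImplicit false

/-! S1142 farm-out ALG-3: the explicit two-dimensional representations of the Hecke algebra of
dihedral type (relations and scalar commutant). -/

namespace Cfsg.Agent.Lib.Helper26.FH

open Matrix Cfsg.Agent.Lib.Helper16.FH

theorem alt_add_two {E : Type*} [Monoid E] (a b : E) (k : ℕ) :
    alt a b (k + 2) = a * b * alt a b k := by
  rw [alt_succ, alt_succ, mul_assoc]

theorem alt_two_mul {E : Type*} [Monoid E] (a b : E) (m : ℕ) : alt a b (2 * m) = (a * b) ^ m := by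
  induction m with
  | zero => simp
  | succ m ih => rw [show 2 * (m + 1) = 2 * m + 2 by ring, alt_add_two, ih, pow_succ']

theorem alt_two_mul_add_one {E : Type*} [Monoid E] (a b : E) (m : ℕ) :
    alt a b (2 * m + 1) = (a * b) ^ m * a := by
  induction m with
  | zero => simp
  | succ m ih =>
    rw [show 2 * (m + 1) + 1 = (2 * m + 1) + 2 by ring, alt_add_two, ih, pow_succ']
    simp only [mul_assoc]

theorem sub_one_mul_aux (A B : ℝ) (R r : Matrix (Fin 2) (Fin 2) ℝ) :
    (A • R - B • (1 : Matrix (Fin 2) (Fin 2) ℝ)) * r = A • (R * r) - B • r := by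
  rw [sub_mul, smul_mul_assoc, smul_mul_assoc, one_mul]

/-- Cayley–Hamilton for two by two matrices -/
theorem cayley_two (M : Matrix (Fin 2) (Fin 2) ℝ) :
    M * M = M.trace • M - M.det • (1 : Matrix (Fin 2) (Fin 2) ℝ) := by
  ext i j
  fin_cases i <;> fin_cases j <;>
    simp [Matrix.mul_apply, Fin.sum_univ_two, Matrix.trace_fin_two, Matrix.det_fin_two] <;> ring

/-- the powers of a two by two matrix with trace `2 u cos φ` and determinant `u ^ 2` -/
theorem pow_formula (R : Matrix (Fin 2) (Fin 2) ℝ) (u φ : ℝ)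
    (hR : R * R = (2 * u * Real.cos φ) • R - (u ^ 2) • (1 : Matrix (Fin 2) (Fin 2) ℝ)) (k : ℕ) :
    (u * Real.sin φ) • R ^ k = (u ^ k * Real.sin (k * φ)) • R
      - (u ^ (k + 1) * Real.sin (((k : ℝ) - 1) * φ)) • (1 : Matrix (Fin 2) (Fin 2) ℝ) := by
  induction k with
  | zero =>
    simp only [pow_zero, Nat.cast_zero, zero_mul, Real.sin_zero, mul_zero, zero_smul, zero_add,
      pow_one, zero_sub, neg_mul, one_mul, Real.sin_neg, mul_neg, neg_smul, neg_neg]
  | succ k ih =>
    have h1 : Real.sin (((k + 1 : ℕ) : ℝ) * φ) =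
        Real.sin (k * φ) * Real.cos φ + Real.cos (k * φ) * Real.sin φ := by
      push_cast
      rw [add_mul, one_mul, Real.sin_add]
    have h2 : Real.sin (((k : ℝ) - 1) * φ) =
        Real.sin (k * φ) * Real.cos φ - Real.cos (k * φ) * Real.sin φ := by
      rw [sub_mul, one_mul, Real.sin_sub]
    have h3 : (((k + 1 : ℕ) : ℝ) - 1) * φ = k * φ := by
      push_cast
      ring
    rw [pow_succ, ← smul_mul_assoc, ih, sub_mul, smul_mul_assoc, smul_mul_assoc, one_mul, hR, h1,
      h2, h3]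
    module

section

variable (p q a b : ℝ)

theorem trace_r1r2 :
    (!![p, 0; 0, -1] * !![a, b; b, q - 1 - a] : Matrix (Fin 2) (Fin 2) ℝ).trace
      = (p + 1) * a - q + 1 := by
  simp [Matrix.trace_fin_two]
  ring

theorem trace_r2r1 :
    (!![a, b; b, q - 1 - a] * !![p, 0; 0, -1] : Matrix (Fin 2) (Fin 2) ℝ).trace
      = (p + 1) * a - q + 1 := by
  simp [Matrix.trace_fin_two]
  ring

theorem det_r1r2 (hb : b * b = (a + 1) * (q - a)) :
    (!![p, 0; 0, -1] * !![a, b; b, q - 1 - a] : Matrix (Fin 2) (Fin 2) ℝ).det = p * q := by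
  rw [Matrix.det_mul, Matrix.det_fin_two_of, Matrix.det_fin_two_of]
  linear_combination p * hb

theorem det_r2r1 (hb : b * b = (a + 1) * (q - a)) :
    (!![a, b; b, q - 1 - a] * !![p, 0; 0, -1] : Matrix (Fin 2) (Fin 2) ℝ).det = p * q := by
  rw [Matrix.det_mul, Matrix.det_fin_two_of, Matrix.det_fin_two_of]
  linear_combination p * hb

/-- the key identity in the case `p = q` -/
theorem triple_identity (hb : b * b = (a + 1) * (p - a)) :
    (!![p, 0; 0, -1] * !![a, b; b, p - 1 - a] * !![p, 0; 0, -1]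
      - !![a, b; b, p - 1 - a] * !![p, 0; 0, -1] * !![a, b; b, p - 1 - a] :
        Matrix (Fin 2) (Fin 2) ℝ)
      = ((p + 1) * a + 1) • (!![p, 0; 0, -1] - !![a, b; b, p - 1 - a]) := by
  ext i j
  fin_cases i <;> fin_cases j
  · simp
    linear_combination hb
  · simp
    ring
  · simp
    ring
  · simp
    linear_combination (-p) * hb

end

/-- the relation of the alternating words of length `n` -/
theorem braid_aux (p q a b u φ : ℝ) (n : ℕ) (hb : b * b = (a + 1) * (q - a))
    (hu2 : u ^ 2 = p * q) (hy : (p + 1) * a - q + 1 = 2 * u * Real.cos φ)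
    (hus : u * Real.sin φ ≠ 0)
    (heven : ∀ m : ℕ, n = 2 * m → Real.sin (m * φ) = 0)
    (hodd : ∀ m : ℕ, n = 2 * m + 1 →
      p = q ∧ u = p ∧ Real.sin (m * φ) + Real.sin (((m : ℝ) + 1) * φ) = 0) :
    alt (!![p, 0; 0, -1] : Matrix (Fin 2) (Fin 2) ℝ) !![a, b; b, q - 1 - a] n
      = alt (!![a, b; b, q - 1 - a] : Matrix (Fin 2) (Fin 2) ℝ) !![p, 0; 0, -1] n := by
  have hR : (!![p, 0; 0, -1] * !![a, b; b, q - 1 - a] : Matrix (Fin 2) (Fin 2) ℝ)
        * (!![p, 0; 0, -1] * !![a, b; b, q - 1 - a])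
      = (2 * u * Real.cos φ) • (!![p, 0; 0, -1] * !![a, b; b, q - 1 - a])
        - (u ^ 2) • (1 : Matrix (Fin 2) (Fin 2) ℝ) := by
    rw [cayley_two, trace_r1r2, det_r1r2 p q a b hb, hy, hu2]
  have hR' : (!![a, b; b, q - 1 - a] * !![p, 0; 0, -1] : Matrix (Fin 2) (Fin 2) ℝ)
        * (!![a, b; b, q - 1 - a] * !![p, 0; 0, -1])
      = (2 * u * Real.cos φ) • (!![a, b; b, q - 1 - a] * !![p, 0; 0, -1])
        - (u ^ 2) • (1 : Matrix (Fin 2) (Fin 2) ℝ) := by
    rw [cayley_two, trace_r2r1, det_r2r1 p q a b hb, hy, hu2]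
  rcases Nat.even_or_odd' n with ⟨m, hm | hm⟩
  · -- even
    subst hm
    rw [alt_two_mul, alt_two_mul]
    apply smul_right_injective _ hus
    show (u * Real.sin φ) • _ = (u * Real.sin φ) • _
    rw [pow_formula _ u φ hR m, pow_formula _ u φ hR' m, heven m rfl]
    simp
  · -- odd
    obtain ⟨hpq, hup, hs⟩ := hodd m hm
    subst hm
    subst hpq
    rw [alt_two_mul_add_one, alt_two_mul_add_one]
    apply smul_right_injective _ hus
    show (u * Real.sin φ) • _ = (u * Real.sin φ) • _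
    rw [← smul_mul_assoc, ← smul_mul_assoc, pow_formula _ u φ hR m, pow_formula _ u φ hR' m]
    have hT := triple_identity p a b hb
    have h2 : Real.sin (((m : ℝ) - 1) * φ) =
        Real.sin (m * φ) * Real.cos φ - Real.cos (m * φ) * Real.sin φ := by
      rw [sub_mul, one_mul, Real.sin_sub]
    have h1 : Real.sin (((m : ℝ) + 1) * φ) =
        Real.sin (m * φ) * Real.cos φ + Real.cos (m * φ) * Real.sin φ := by
      rw [add_mul, one_mul, Real.sin_add]
    have hc : u ^ m * Real.sin (m * φ) * ((p + 1) * a + 1)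
        - u ^ (m + 1) * Real.sin (((m : ℝ) - 1) * φ) = 0 := by
      have e1 : (p + 1) * a + 1 = p + 2 * u * Real.cos φ := by linarith
      rw [e1, hup, h2]
      rw [h1] at hs
      have : p ^ m * Real.sin (m * φ) * (p + 2 * p * Real.cos φ)
          - p ^ (m + 1) * (Real.sin (m * φ) * Real.cos φ - Real.cos (m * φ) * Real.sin φ)
          = p ^ (m + 1) * (Real.sin (m * φ)
            + (Real.sin (m * φ) * Real.cos φ + Real.cos (m * φ) * Real.sin φ)) := by ring
      rw [this, hs, mul_zero]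
    rw [sub_one_mul_aux, sub_one_mul_aux, ← sub_eq_zero]
    have : (u ^ m * Real.sin (m * φ)) •
          (!![p, 0; 0, -1] * !![a, b; b, p - 1 - a] * !![p, 0; 0, -1] : Matrix (Fin 2) (Fin 2) ℝ)
        - (u ^ (m + 1) * Real.sin (((m : ℝ) - 1) * φ)) • !![p, 0; 0, -1]
        - ((u ^ m * Real.sin (m * φ)) •
            (!![a, b; b, p - 1 - a] * !![p, 0; 0, -1] * !![a, b; b, p - 1 - a])
          - (u ^ (m + 1) * Real.sin (((m : ℝ) - 1) * φ)) • !![a, b; b, p - 1 - a])
        = (u ^ m * Real.sin (m * φ)) •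
            (!![p, 0; 0, -1] * !![a, b; b, p - 1 - a] * !![p, 0; 0, -1]
              - !![a, b; b, p - 1 - a] * !![p, 0; 0, -1] * !![a, b; b, p - 1 - a])
          - (u ^ (m + 1) * Real.sin (((m : ℝ) - 1) * φ)) •
            (!![p, 0; 0, -1] - !![a, b; b, p - 1 - a]) := by
      module
    rw [this, hT, smul_smul, ← sub_smul, hc, zero_smul]

/-- ALG-3 -/
theorem rho_relations (n j : ℕ) (p q : ℝ) (hp : 1 < p) (hq : 1 < q) (hj : 0 < j) (hjn : 2 * j < n)
    (hodd : Odd n → p = q) :
    (rho1 p)ᵀ = rho1 p ∧ (rho2 p q (ypar n j p q))ᵀ = rho2 p q (ypar n j p q) ∧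
    rho1 p * rho1 p = p • (1 : Matrix (Fin 2) (Fin 2) ℝ) + (p - 1) • rho1 p ∧
    rho2 p q (ypar n j p q) * rho2 p q (ypar n j p q) =
      q • (1 : Matrix (Fin 2) (Fin 2) ℝ) + (q - 1) • rho2 p q (ypar n j p q) ∧
    alt (rho1 p) (rho2 p q (ypar n j p q)) n = alt (rho2 p q (ypar n j p q)) (rho1 p) n ∧
    (∀ M : Matrix (Fin 2) (Fin 2) ℝ, M * rho1 p = rho1 p * M →
      M * rho2 p q (ypar n j p q) = rho2 p q (ypar n j p q) * M →
      ∃ c : ℝ, M = c • (1 : Matrix (Fin 2) (Fin 2) ℝ)) := by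
  have hp0 : 0 < p := by linarith
  have hq0 : 0 < q := by linarith
  have hn0 : (0 : ℝ) < n := by exact_mod_cast (by omega : 0 < n)
  have hj0 : (0 : ℝ) < j := by exact_mod_cast hj
  obtain ⟨φ, hφ⟩ : ∃ φ : ℝ, φ = 2 * Real.pi * j / n := ⟨_, rfl⟩
  obtain ⟨u, hu⟩ : ∃ u : ℝ, u = Real.sqrt (p * q) := ⟨_, rfl⟩
  have hu2 : u ^ 2 = p * q := by rw [hu]; exact Real.sq_sqrt (by positivity)
  have hupos : 0 < u := by rw [hu]; exact Real.sqrt_pos.mpr (by positivity)
  have hφ0 : 0 < φ := by rw [hφ]; positivity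
  have hφπ : φ < Real.pi := by
    rw [hφ, div_lt_iff₀ hn0]
    have : (2 * j : ℝ) < n := by exact_mod_cast hjn
    nlinarith [Real.pi_pos]
  have hsin : 0 < Real.sin φ := Real.sin_pos_of_pos_of_lt_pi hφ0 hφπ
  have hcos1 : Real.cos φ < 1 := by
    have := Real.cos_lt_cos_of_nonneg_of_le_pi (le_refl 0) hφπ.le hφ0
    simpa using this
  have hcos2 : -1 < Real.cos φ := by
    have := Real.cos_lt_cos_of_nonneg_of_le_pi hφ0.le (le_refl Real.pi) hφπ
    simpa using this
  obtain ⟨y, hy⟩ : ∃ y : ℝ, y = ypar n j p q := ⟨_, rfl⟩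
  have hy' : y = 2 * u * Real.cos φ := by rw [hy, ypar, hu, hφ]
  have h2u1 : 2 * u ≤ p + q := by
    by_contra h
    rw [not_le] at h
    nlinarith [sq_nonneg (p - q)]
  have h2u2 : 2 * u ≤ p * q + 1 := by nlinarith [sq_nonneg (u - 1)]
  have hylt : y < 2 * u := by rw [hy']; nlinarith
  have hygt : -(2 * u) < y := by rw [hy']; nlinarith
  obtain ⟨c, hc⟩ : ∃ c : ℝ, c = cpar p q y := ⟨_, rfl⟩
  have hden : 0 < (p + 1) * (q + 1) := by positivity
  have hc0 : 0 < c := by
    rw [hc, cpar]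
    apply div_pos _ hden
    linarith
  have hc1 : c < 1 := by
    rw [hc, cpar, div_lt_one hden]
    nlinarith
  have hcmul : c * ((p + 1) * (q + 1)) = p + q + y := by
    rw [hc, cpar, div_mul_cancel₀ _ hden.ne']
  obtain ⟨a, ha⟩ : ∃ a : ℝ, a = (q + 1) * c - 1 := ⟨_, rfl⟩
  obtain ⟨b, hbdef⟩ : ∃ b : ℝ, b = (q + 1) * Real.sqrt (c * (1 - c)) := ⟨_, rfl⟩
  have hcc : 0 < c * (1 - c) := mul_pos hc0 (by linarith)
  have hb0 : b ≠ 0 := by
    rw [hbdef]
    have := Real.sqrt_pos.mpr hcc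
    positivity
  have hb : b * b = (a + 1) * (q - a) := by
    rw [hbdef, ha]
    have := Real.mul_self_sqrt hcc.le
    linear_combination (q + 1) ^ 2 * this
  have hya : (p + 1) * a - q + 1 = 2 * u * Real.cos φ := by
    rw [← hy', ha]
    linear_combination hcmul
  have hr1 : rho1 p = !![p, 0; 0, -1] := rfl
  have hr2 : rho2 p q (ypar n j p q) = !![a, b; b, q - 1 - a] := by
    rw [rho2, ← hy, ← hc, ← hbdef]
    have : q - (q + 1) * c = q - 1 - a := by rw [ha]; ring
    rw [this, ← ha]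
  rw [hr1, hr2]
  refine ⟨?_, ?_, ?_, ?_, ?_, ?_⟩
  · ext i k
    fin_cases i <;> fin_cases k <;> simp
  · ext i k
    fin_cases i <;> fin_cases k <;> simp
  · ext i k
    fin_cases i <;> fin_cases k <;> simp [Matrix.mul_apply, Fin.sum_univ_two] <;> ring
  · ext i k
    fin_cases i <;> fin_cases k
    · simp [Matrix.mul_apply, Fin.sum_univ_two]
      linear_combination hb
    · simp [Matrix.mul_apply, Fin.sum_univ_two]
      ring
    · simp [Matrix.mul_apply, Fin.sum_univ_two]
      ring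
    · simp [Matrix.mul_apply, Fin.sum_univ_two]
      linear_combination hb
  · apply braid_aux p q a b u φ n hb hu2 hya (mul_pos hupos hsin).ne'
    · intro m hm
      have : (m : ℝ) * φ = j * Real.pi := by
        rw [hφ, hm]
        have hm0 : (m : ℝ) ≠ 0 := by
          intro h0
          have : m = 0 := by exact_mod_cast h0
          omega
        push_cast
        field_simp
      rw [this, Real.sin_nat_mul_pi]
    · intro m hm
      have hpq := hodd ⟨m, hm⟩
      refine ⟨hpq, ?_, ?_⟩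
      · rw [hu, hpq]
        exact Real.sqrt_mul_self hq0.le
      · have : ((m : ℝ) + 1) * φ = j * (2 * Real.pi) - m * φ := by
          rw [hφ, hm]
          push_cast
          field_simp
          ring
        rw [this, Real.sin_nat_mul_two_pi_sub]
        ring
  · intro M h1 h2
    have e12 := congrFun (congrFun h1 0) 1
    have e21 := congrFun (congrFun h1 1) 0
    simp [Matrix.mul_apply, Fin.sum_univ_two] at e12 e21
    have hM12 : M 0 1 = 0 := by
      have : M 0 1 * (p + 1) = 0 := by linarith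
      rcases mul_eq_zero.mp this with h | h
      · exact h
      · linarith
    have hM21 : M 1 0 = 0 := by
      have : M 1 0 * (p + 1) = 0 := by linarith
      rcases mul_eq_zero.mp this with h | h
      · exact h
      · linarith
    have f12 := congrFun (congrFun h2 0) 1
    simp [Matrix.mul_apply, Fin.sum_univ_two, hM12, hM21] at f12
    have hM : M 0 0 = M 1 1 := by
      have : b * (M 0 0 - M 1 1) = 0 := by linarith
      rcases mul_eq_zero.mp this with h | h
      · exact absurd h hb0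
      · linarith
    refine ⟨M 0 0, ?_⟩
    ext i k
    fin_cases i <;> fin_cases k <;> simp [hM12, hM21, hM]

end Cfsg.Agent.Lib.Helper26.FH
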