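import Cfsg.Agent.Lib.Helper7.L34Model

/-!
# S3154: word identities and non-centrality facts in the `960`-point model of `4² · L₃(4)` (helper26; generated)

`wa1 wa2 ww1 ww2` generate (with the centre) the preimage `H₀` of one elementary abelian `2⁴`, `wb1 wb2 ww1 ww2` the
other one `K₀`; `xH, yH` (orders `5, 3`, `(xH yH)² = 1`) generate a complement `A₅` to `H₀` in its normaliser,
`xK, yK` likewise for `K₀`.  Every identity is checked on all `960` points (`Model.fixAll`).
-/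

set_option autoImplicit false

namespace Cfsg.Agent.Lib.Helper26.L34Loc

open Cfsg.H5.TCk Cfsg.Agent.Lib.Helper28.BSGS Cfsg.Agent.Lib.Helper7.L34

/-- `w` repeated `k` times -/
def rp (w : List ℕ) (k : ℕ) : List ℕ := (List.replicate k w).flatten

def wa1 : List ℕ := [0, 2, 4, 0]
def wa2 : List ℕ := [7, 0, 2, 5, 6]
def wb1 : List ℕ := [0, 4, 2]
def wb2 : List ℕ := [7, 1, 4, 3, 6]
def ww1 : List ℕ := [0, 0, 5]
def ww2 : List ℕ := [1, 7, 5, 2, 7, 4]
def yH : List ℕ := [0, 0, 3]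
def cH : List ℕ := [7, 5, 2]
def xH : List ℕ := yH ++ rp cH 8
def yK : List ℕ := [1, 6, 0]
def xK : List ℕ := rp [7, 4] 4

set_option maxRecDepth 100000 in
theorem id_sq_a1 : Model.fixAll (wa1 ++ wa1 ++ winv (Model.kw 2 0)) = true := by decide +kernel
set_option maxRecDepth 100000 in
theorem id_sq_a2 : Model.fixAll (wa2 ++ wa2 ++ winv (Model.kw 2 0)) = true := by decide +kernel
set_option maxRecDepth 100000 in
theorem id_sq_b1 : Model.fixAll (wb1 ++ wb1 ++ winv (Model.kw 2 0)) = true := by decide +kernel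
set_option maxRecDepth 100000 in
theorem id_sq_b2 : Model.fixAll (wb2 ++ wb2 ++ winv (Model.kw 2 0)) = true := by decide +kernel
set_option maxRecDepth 100000 in
theorem id_sq_w1 : Model.fixAll (ww1 ++ ww1 ++ winv (Model.kw 2 0)) = true := by decide +kernel
set_option maxRecDepth 100000 in
theorem id_sq_w2 : Model.fixAll (ww2 ++ ww2 ++ winv (Model.kw 2 0)) = true := by decide +kernel
set_option maxRecDepth 100000 in
theorem id_c_a1_a2 : Model.fixAll (wa1 ++ wa2 ++ winv wa1 ++ winv wa2 ++ winv (Model.kw 2 2)) = true := by decide +kernel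
set_option maxRecDepth 100000 in
theorem id_c_a1_w1 : Model.fixAll (wa1 ++ ww1 ++ winv wa1 ++ winv ww1 ++ winv (Model.kw 2 0)) = true := by decide +kernel
set_option maxRecDepth 100000 in
theorem id_c_a1_w2 : Model.fixAll (wa1 ++ ww2 ++ winv wa1 ++ winv ww2 ++ winv (Model.kw 2 2)) = true := by decide +kernel
set_option maxRecDepth 100000 in
theorem id_c_a2_w1 : Model.fixAll (wa2 ++ ww1 ++ winv wa2 ++ winv ww1 ++ winv (Model.kw 0 2)) = true := by decide +kernel
set_option maxRecDepth 100000 in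
theorem id_c_a2_w2 : Model.fixAll (wa2 ++ ww2 ++ winv wa2 ++ winv ww2 ++ winv (Model.kw 2 0)) = true := by decide +kernel
set_option maxRecDepth 100000 in
theorem id_c_w1_w2 : Model.fixAll (ww1 ++ ww2 ++ winv ww1 ++ winv ww2 ++ winv (Model.kw 0 0)) = true := by decide +kernel
set_option maxRecDepth 100000 in
theorem id_c_b1_b2 : Model.fixAll (wb1 ++ wb2 ++ winv wb1 ++ winv wb2 ++ winv (Model.kw 0 0)) = true := by decide +kernel
set_option maxRecDepth 100000 in
theorem id_c_b1_w1 : Model.fixAll (wb1 ++ ww1 ++ winv wb1 ++ winv ww1 ++ winv (Model.kw 2 0)) = true := by decide +kernel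
set_option maxRecDepth 100000 in
theorem id_c_b1_w2 : Model.fixAll (wb1 ++ ww2 ++ winv wb1 ++ winv ww2 ++ winv (Model.kw 0 2)) = true := by decide +kernel
set_option maxRecDepth 100000 in
theorem id_c_b2_w1 : Model.fixAll (wb2 ++ ww1 ++ winv wb2 ++ winv ww1 ++ winv (Model.kw 2 2)) = true := by decide +kernel
set_option maxRecDepth 100000 in
theorem id_c_b2_w2 : Model.fixAll (wb2 ++ ww2 ++ winv wb2 ++ winv ww2 ++ winv (Model.kw 2 0)) = true := by decide +kernel
set_option maxRecDepth 100000 in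
theorem id_ab_a1_b1 : Model.fixAll (wa1 ++ wb1 ++ winv wa1 ++ winv wb1 ++ winv (rp ww1 1 ++ rp ww2 0 ++ Model.kw 0 0)) = true := by decide +kernel
set_option maxRecDepth 100000 in
theorem id_ab_a1_b2 : Model.fixAll (wa1 ++ wb2 ++ winv wa1 ++ winv wb2 ++ winv (rp ww1 1 ++ rp ww2 1 ++ Model.kw 2 3)) = true := by decide +kernel
set_option maxRecDepth 100000 in
theorem id_ab_a2_b1 : Model.fixAll (wa2 ++ wb1 ++ winv wa2 ++ winv wb1 ++ winv (rp ww1 1 ++ rp ww2 1 ++ Model.kw 3 1)) = true := by decide +kernel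
set_option maxRecDepth 100000 in
theorem id_ab_a2_b2 : Model.fixAll (wa2 ++ wb2 ++ winv wa2 ++ winv wb2 ++ winv (rp ww1 0 ++ rp ww2 1 ++ Model.kw 0 2)) = true := by decide +kernel
set_option maxRecDepth 100000 in
theorem id_nH_x_a1 : Model.fixAll (xH ++ wa1 ++ winv xH ++ winv (rp wa1 0 ++ rp wa2 0 ++ rp ww1 1 ++ rp ww2 0 ++ Model.kw 0 2)) = true := by decide +kernel
set_option maxRecDepth 100000 in
theorem id_nH_x_a2 : Model.fixAll (xH ++ wa2 ++ winv xH ++ winv (rp wa1 1 ++ rp wa2 1 ++ rp ww1 0 ++ rp ww2 1 ++ Model.kw 3 0)) = true := by decide +kernel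
set_option maxRecDepth 100000 in
theorem id_nH_x_w1 : Model.fixAll (xH ++ ww1 ++ winv xH ++ winv (rp wa1 1 ++ rp wa2 0 ++ rp ww1 0 ++ rp ww2 1 ++ Model.kw 2 1)) = true := by decide +kernel
set_option maxRecDepth 100000 in
theorem id_nH_x_w2 : Model.fixAll (xH ++ ww2 ++ winv xH ++ winv (rp wa1 1 ++ rp wa2 1 ++ rp ww1 1 ++ rp ww2 0 ++ Model.kw 2 2)) = true := by decide +kernel
set_option maxRecDepth 100000 in
theorem id_nH_y_a1 : Model.fixAll (yH ++ wa1 ++ winv yH ++ winv (rp wa1 1 ++ rp wa2 0 ++ rp ww1 1 ++ rp ww2 0 ++ Model.kw 2 0)) = true := by decide +kernel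
set_option maxRecDepth 100000 in
theorem id_nH_y_a2 : Model.fixAll (yH ++ wa2 ++ winv yH ++ winv (rp wa1 1 ++ rp wa2 0 ++ rp ww1 1 ++ rp ww2 1 ++ Model.kw 0 1)) = true := by decide +kernel
set_option maxRecDepth 100000 in
theorem id_nH_y_w1 : Model.fixAll (yH ++ ww1 ++ winv yH ++ winv (rp wa1 1 ++ rp wa2 0 ++ rp ww1 0 ++ rp ww2 0 ++ Model.kw 2 0)) = true := by decide +kernel
set_option maxRecDepth 100000 in
theorem id_nH_y_w2 : Model.fixAll (yH ++ ww2 ++ winv yH ++ winv (rp wa1 1 ++ rp wa2 1 ++ rp ww1 0 ++ rp ww2 1 ++ Model.kw 1 0)) = true := by decide +kernel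
set_option maxRecDepth 100000 in
theorem id_pH_x5 : Model.fixAll (rp xH 5) = true := by decide +kernel
set_option maxRecDepth 100000 in
theorem id_pH_y3 : Model.fixAll (rp yH 3) = true := by decide +kernel
set_option maxRecDepth 100000 in
theorem id_pH_xy2 : Model.fixAll (rp (xH ++ yH) 2) = true := by decide +kernel
set_option maxRecDepth 100000 in
theorem id_nK_x_b1 : Model.fixAll (xK ++ wb1 ++ winv xK ++ winv (rp wb1 0 ++ rp wb2 0 ++ rp ww1 0 ++ rp ww2 1 ++ Model.kw 0 0)) = true := by decide +kernel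
set_option maxRecDepth 100000 in
theorem id_nK_x_b2 : Model.fixAll (xK ++ wb2 ++ winv xK ++ winv (rp wb1 0 ++ rp wb2 0 ++ rp ww1 1 ++ rp ww2 0 ++ Model.kw 2 0)) = true := by decide +kernel
set_option maxRecDepth 100000 in
theorem id_nK_x_w1 : Model.fixAll (xK ++ ww1 ++ winv xK ++ winv (rp wb1 0 ++ rp wb2 1 ++ rp ww1 1 ++ rp ww2 1 ++ Model.kw 2 1)) = true := by decide +kernel
set_option maxRecDepth 100000 in
theorem id_nK_x_w2 : Model.fixAll (xK ++ ww2 ++ winv xK ++ winv (rp wb1 1 ++ rp wb2 0 ++ rp ww1 1 ++ rp ww2 0 ++ Model.kw 0 2)) = true := by decide +kernel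
set_option maxRecDepth 100000 in
theorem id_nK_y_b1 : Model.fixAll (yK ++ wb1 ++ winv yK ++ winv (rp wb1 1 ++ rp wb2 1 ++ rp ww1 1 ++ rp ww2 1 ++ Model.kw 2 2)) = true := by decide +kernel
set_option maxRecDepth 100000 in
theorem id_nK_y_b2 : Model.fixAll (yK ++ wb2 ++ winv yK ++ winv (rp wb1 1 ++ rp wb2 0 ++ rp ww1 0 ++ rp ww2 1 ++ Model.kw 1 3)) = true := by decide +kernel
set_option maxRecDepth 100000 in
theorem id_nK_y_w1 : Model.fixAll (yK ++ ww1 ++ winv yK ++ winv (rp wb1 0 ++ rp wb2 0 ++ rp ww1 1 ++ rp ww2 1 ++ Model.kw 1 0)) = true := by decide +kernel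
set_option maxRecDepth 100000 in
theorem id_nK_y_w2 : Model.fixAll (yK ++ ww2 ++ winv yK ++ winv (rp wb1 0 ++ rp wb2 0 ++ rp ww1 1 ++ rp ww2 0 ++ Model.kw 0 0)) = true := by decide +kernel
set_option maxRecDepth 100000 in
theorem id_pK_x5 : Model.fixAll (rp xK 5) = true := by decide +kernel
set_option maxRecDepth 100000 in
theorem id_pK_y3 : Model.fixAll (rp yK 3) = true := by decide +kernel
set_option maxRecDepth 100000 in
theorem id_pK_xy2 : Model.fixAll (rp (xK ++ yK) 2) = true := by decide +kernel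

/-! ### non-centrality -/

/-- the image of the point `p` under `w` differs from its images under the sixteen central elements -/
def ncOK (w : List ℕ) (p : ℕ) : Bool :=
  w.all (fun l => decide (l < 8)) && (List.range 4).all fun i => (List.range 4).all fun j =>
    evalW 10 (w.map Model.mtab) p != evalW 10 ((Model.kw i j).map Model.mtab) p

/-- witness point `0` or `1` -/
def ncOK2 (w : List ℕ) : Bool := ncOK w 0 || ncOK w 1

/-- the word `x1 ^ i * x2 ^ j * y1 ^ k * y2 ^ l` -/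
def word4 (x1 x2 y1 y2 : List ℕ) (i j k l : ℕ) : List ℕ := rp x1 i ++ rp x2 j ++ rp y1 k ++ rp y2 l

/-- the commutator word of `a1 ^ i * a2 ^ j` and `b1 ^ k * b2 ^ l` -/
def wordCr (i j k l : ℕ) : List ℕ :=
  (rp wa1 i ++ rp wa2 j) ++ (rp wb1 k ++ rp wb2 l) ++ winv (rp wa1 i ++ rp wa2 j) ++ winv (rp wb1 k ++ rp wb2 l)

set_option synthInstance.maxSize 2048 in
set_option synthInstance.maxHeartbeats 400000 in
set_option maxRecDepth 100000 in
theorem nc_indepA : ∀ i < 2, ∀ j < 2, ∀ k < 2, ∀ l < 2, ¬ (i = 0 ∧ j = 0 ∧ k = 0 ∧ l = 0) →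
    ncOK2 (word4 wa1 wa2 ww1 ww2 i j k l) = true := by decide +kernel

set_option synthInstance.maxSize 2048 in
set_option synthInstance.maxHeartbeats 400000 in
set_option maxRecDepth 100000 in
theorem nc_indepB : ∀ i < 2, ∀ j < 2, ∀ k < 2, ∀ l < 2, ¬ (i = 0 ∧ j = 0 ∧ k = 0 ∧ l = 0) →
    ncOK2 (word4 wb1 wb2 ww1 ww2 i j k l) = true := by decide +kernel

set_option synthInstance.maxSize 2048 in
set_option synthInstance.maxHeartbeats 400000 in
set_option maxRecDepth 100000 in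
theorem nc_cross : ∀ i < 2, ∀ j < 2, ∀ k < 2, ∀ l < 2, ¬ (i = 0 ∧ j = 0) → ¬ (k = 0 ∧ l = 0) →
    ncOK2 (wordCr i j k l) = true := by decide +kernel

set_option maxRecDepth 100000 in
theorem nc_yH : ncOK2 yH = true := by decide +kernel

set_option maxRecDepth 100000 in
theorem nc_yK : ncOK2 yK = true := by decide +kernel

end Cfsg.Agent.Lib.Helper26.L34Loc
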