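import Cfsg.Agent.Lib.Helper26.L34LocGlue
import Cfsg.Agent.Lib.Helper3.L34LocBR

/-!
# S3154: assembly (helper26)

The bridge (helper3) gives generators `γ` of `X` satisfying every word identity of the `960`-point model of
`4² · L₃(4)`; the glue turns the checked identities into `Hyp` and `Comp`; a Sylow `2`-subgroup is conjugate to
`quad a ⊔ quad b`, and conjugating `γ` makes it equal; the abstract main theorem concludes (with `A₅`).
-/

set_option autoImplicit false

namespace Cfsg.Agent.Lib.Helper26.L34Loc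

open Cfsg Cfsg.H5.TCk Cfsg.Agent.Lib.Helper7.L34

theorem final {X : Type*} [Group X] [Finite X] (hperf : commutator X = ⊤)
    (hsimp : IsSimpleGroup (X ⧸ Subgroup.center X))
    (hZ : Cfsg.IsElementaryAbelian 2 (Subgroup.center X))
    {F : Type*} [Field F] [Fintype F] (hF : Fintype.card F = 4)
    (e : (X ⧸ Subgroup.center X) ≃* Matrix.ProjectiveSpecialLinearGroup (Fin 3) F)
    (T : Sylow 2 X) (H K : Subgroup X) (hHK : H ≠ K) (hHT : H ≤ T) (hKT : K ≤ T)
    (hZH : Subgroup.center X ≤ H) (hZK : Subgroup.center X ≤ K)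
    (hH : Cfsg.IsElementaryAbelian 2 (H.map (QuotientGroup.mk' (Subgroup.center X))) ∧
      Nat.card ↥(H.map (QuotientGroup.mk' (Subgroup.center X))) = 16)
    (hK : Cfsg.IsElementaryAbelian 2 (K.map (QuotientGroup.mk' (Subgroup.center X))) ∧
      Nat.card ↥(K.map (QuotientGroup.mk' (Subgroup.center X))) = 16) :
    Cfsg.IsElementaryAbelian 2 H ∧ Cfsg.IsElementaryAbelian 2 K ∧
      H ⊓ K = (Subgroup.center ↥(H ⊔ K)).map (H ⊔ K).subtype ∧
      (∃ C : Subgroup X, C ≤ Subgroup.normalizer (H : Set X) ∧ C ⊓ H = ⊥ ∧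
        H ⊔ C = Subgroup.normalizer (H : Set X) ∧ Nonempty (↥C ≃* alternatingGroup (Fin 5))) ∧
      (∃ C : Subgroup X, C ≤ Subgroup.normalizer (K : Set X) ∧ C ⊓ K = ⊥ ∧
        K ⊔ C = Subgroup.normalizer (K : Set X) ∧ Nonempty (↥C ≃* alternatingGroup (Fin 5))) := by
  have hexp : ∀ z ∈ Subgroup.center X, z * z = 1 := by
    intro z hz
    have := hZ.2 z hz
    rwa [pow_two] at this
  obtain ⟨γ, hrel, hka, hkb, hnc, hcard⟩ := bridge hF hperf hsimp hexp e
  have hγ : Good γ := ⟨hrel, hka, hkb, hnc⟩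
  have hyp := hγ.hyp hexp
  obtain ⟨g, hg⟩ := exists_conj_sylow hyp hZ hcard (isPGroup_sup hyp hZ) T
  have hγ' : Good (fun i => g * γ i * g⁻¹) := hγ.conj g
  have hT : (T : Subgroup X) =
      quad (ev (fun i => g * γ i * g⁻¹) wa1) (ev (fun i => g * γ i * g⁻¹) wa2)
        (ev (fun i => g * γ i * g⁻¹) ww1) (ev (fun i => g * γ i * g⁻¹) ww2) ⊔
      quad (ev (fun i => g * γ i * g⁻¹) wb1) (ev (fun i => g * γ i * g⁻¹) wb2)
        (ev (fun i => g * γ i * g⁻¹) ww1) (ev (fun i => g * γ i * g⁻¹) ww2) := by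
    rw [hg, Subgroup.map_sup, quad_map_conj, quad_map_conj]
    simp only [ev_conj]
  exact main_of_hyp hperf hsimp hZ hcard (hγ'.hyp hexp) hγ'.compH hγ'.compK H K hHK
    (hHT.trans hT.le) (hKT.trans hT.le) hZH hZK hH hK

end Cfsg.Agent.Lib.Helper26.L34Loc
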