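import Mathlib
import Cfsg.Prelude.Def_Transfer
import Cfsg.Agent.Lib.Helper26.L34LocDefs
import Cfsg.Agent.Lib.Helper21.L34LocQ
import Cfsg.Agent.Lib.Helper11.L34LocT1
import Cfsg.Agent.Lib.Helper9.L34LocT2
import Cfsg.Agent.Lib.Helper9.L34LocT3
import Cfsg.Agent.Lib.Helper9.L34LocS
import Cfsg.Agent.Lib.Helper9.L34LocN
import Cfsg.Agent.Lib.Helper3.L34LocTC235
import Cfsg.Agent.Lib.Helper3.L34LocP

/-!
# S3154 (local structure of the covers `2^k · L₃(4)`): the abstract main theorem (helper26)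

From the hypotheses `Hyp` on six elements and `Comp` on two pairs of complement generators, the conclusion of
S3154 for the Sylow `2`-subgroup `quad a ⊔ quad b` (with `A₅` in place of `PSL₂(4)`).
-/

set_option autoImplicit false

namespace Cfsg.Agent.Lib.Helper26.L34Loc

variable {X : Type*} [Group X]

/-- `x, y` satisfy the `(5,3,2)` relations, `y` is not central, and both normalise `quad x1 x2 y1 y2` -/
structure Comp (x1 x2 y1 y2 x y : X) : Prop where
  hx : x ^ 5 = 1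
  hy : y ^ 3 = 1
  hxy : (x * y) ^ 2 = 1
  hyc : y ∉ Subgroup.center X
  nx1 : x * x1 * x⁻¹ ∈ quad x1 x2 y1 y2
  nx2 : x * x2 * x⁻¹ ∈ quad x1 x2 y1 y2
  nx3 : x * y1 * x⁻¹ ∈ quad x1 x2 y1 y2
  nx4 : x * y2 * x⁻¹ ∈ quad x1 x2 y1 y2
  ny1 : y * x1 * y⁻¹ ∈ quad x1 x2 y1 y2
  ny2 : y * x2 * y⁻¹ ∈ quad x1 x2 y1 y2
  ny3 : y * y1 * y⁻¹ ∈ quad x1 x2 y1 y2
  ny4 : y * y2 * y⁻¹ ∈ quad x1 x2 y1 y2

theorem center_le_quad (x1 x2 y1 y2 : X) : Subgroup.center X ≤ quad x1 x2 y1 y2 :=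
  le_sup_right

theorem conj_mem_quad {x1 x2 y1 y2 g : X}
    (h1 : g * x1 * g⁻¹ ∈ quad x1 x2 y1 y2) (h2 : g * x2 * g⁻¹ ∈ quad x1 x2 y1 y2)
    (h3 : g * y1 * g⁻¹ ∈ quad x1 x2 y1 y2) (h4 : g * y2 * g⁻¹ ∈ quad x1 x2 y1 y2) :
    ∀ q ∈ quad x1 x2 y1 y2, g * q * g⁻¹ ∈ quad x1 x2 y1 y2 := by
  have hle : Subgroup.closure {x1, x2, y1, y2} ⊔ Subgroup.center X ≤
      (quad x1 x2 y1 y2).comap (MulAut.conj g).toMonoidHom := by
    apply sup_le
    · rw [Subgroup.closure_le]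
      intro q hq
      simp only [Set.mem_insert_iff, Set.mem_singleton_iff] at hq
      rcases hq with rfl | rfl | rfl | rfl
      · exact h1
      · exact h2
      · exact h3
      · exact h4
    · intro z hz
      show g * z * g⁻¹ ∈ quad x1 x2 y1 y2
      have hz' := Subgroup.mem_center_iff.mp hz g
      rw [hz', mul_inv_cancel_right]
      exact center_le_quad _ _ _ _ hz
  intro q hq
  exact hle hq

theorem mem_normalizer_of_conj_mem [Finite X] (Q : Subgroup X) (x : X)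
    (h : ∀ q ∈ Q, x * q * x⁻¹ ∈ Q) : x ∈ Subgroup.normalizer (Q : Set X) := by
  rw [Subgroup.mem_normalizer_iff_map_conj_eq]
  apply Subgroup.eq_of_le_of_card_ge
  · rintro _ ⟨q, hq, rfl⟩
    exact h q hq
  · rw [Subgroup.card_map_of_injective (MulAut.conj x).injective]

/-- the complement -/
theorem exists_complement [Finite X] (hperf : commutator X = ⊤)
    (hsimp : IsSimpleGroup (X ⧸ Subgroup.center X))
    (hZ : Cfsg.IsElementaryAbelian 2 (Subgroup.center X))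
    (hcard : Nat.card X = 20160 * Nat.card (Subgroup.center X))
    {x1 x2 y1 y2 x y : X} (h4 : Inv4 x1 x2 y1 y2) (hi : Indep4 x1 x2 y1 y2)
    (hc : Comp x1 x2 y1 y2 x y) :
    ∃ C : Subgroup X, C ≤ Subgroup.normalizer ((quad x1 x2 y1 y2 : Subgroup X) : Set X) ∧
      C ⊓ quad x1 x2 y1 y2 = ⊥ ∧
      quad x1 x2 y1 y2 ⊔ C = Subgroup.normalizer ((quad x1 x2 y1 y2 : Subgroup X) : Set X) ∧
      Nonempty (↥C ≃* alternatingGroup (Fin 5)) := by
  have hxN : x ∈ Subgroup.normalizer ((quad x1 x2 y1 y2 : Subgroup X) : Set X) :=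
    mem_normalizer_of_conj_mem _ x (conj_mem_quad hc.nx1 hc.nx2 hc.nx3 hc.nx4)
  have hyN : y ∈ Subgroup.normalizer ((quad x1 x2 y1 y2 : Subgroup X) : Set X) :=
    mem_normalizer_of_conj_mem _ y (conj_mem_quad hc.ny1 hc.ny2 hc.ny3 hc.ny4)
  have hDN : Subgroup.closure {x, y} ≤
      Subgroup.normalizer ((quad x1 x2 y1 y2 : Subgroup X) : Set X) := by
    rw [Subgroup.closure_le]
    intro g hg
    simp only [Set.mem_insert_iff, Set.mem_singleton_iff] at hg
    rcases hg with rfl | rfl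
    · exact hxN
    · exact hyN
  have hxD : x ∈ Subgroup.closure ({x, y} : Set X) := Subgroup.subset_closure (by simp)
  have hyD : y ∈ Subgroup.closure ({x, y} : Set X) := Subgroup.subset_closure (by simp)
  have hgen : Subgroup.closure
      {(⟨x, hxD⟩ : Subgroup.closure ({x, y} : Set X)), ⟨y, hyD⟩} = ⊤ := by
    have := Subgroup.closure_closure_coe_preimage (k := ({x, y} : Set X))
    convert this using 2
    ext d
    simp [Subtype.ext_iff]
  have hx5 : (⟨x, hxD⟩ : Subgroup.closure ({x, y} : Set X)) ^ 5 = 1 :=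
    Subtype.ext (by simpa using hc.hx)
  have hy3 : (⟨y, hyD⟩ : Subgroup.closure ({x, y} : Set X)) ^ 3 = 1 :=
    Subtype.ext (by simpa using hc.hy)
  have hxy2 : ((⟨x, hxD⟩ : Subgroup.closure ({x, y} : Set X)) * ⟨y, hyD⟩) ^ 2 = 1 :=
    Subtype.ext (by simpa using hc.hxy)
  have hy1 : (⟨y, hyD⟩ : Subgroup.closure ({x, y} : Set X)) ≠ 1 := by
    intro h
    apply hc.hyc
    have : y = 1 := congrArg Subtype.val h
    rw [this]
    exact Subgroup.one_mem _
  obtain ⟨-, hle⟩ := card_le_of_235 _ _ hgen hx5 hy3 hxy2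
  obtain ⟨hc60, hsimpD, ⟨e⟩⟩ := equiv_alt5 _ _ hgen hx5 hy3 hxy2 hy1 hle
  have hinf : Subgroup.closure {x, y} ⊓ quad x1 x2 y1 y2 = ⊥ := by
    have : ((quad x1 x2 y1 y2).subgroupOf (Subgroup.closure {x, y})).Normal :=
      Subgroup.normal_subgroupOf_of_le_normalizer hDN
    rcases hsimpD.eq_bot_or_eq_top_of_normal
      ((quad x1 x2 y1 y2).subgroupOf (Subgroup.closure {x, y})) inferInstance with h | h
    · rw [Subgroup.subgroupOf_eq_bot] at h
      rw [inf_comm]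
      exact h.eq_bot
    · exfalso
      rw [Subgroup.subgroupOf_eq_top] at h
      have hyQ : y ∈ quad x1 x2 y1 y2 := h hyD
      have hyy : y ^ 2 = 1 := (quad_elementary h4 hZ).2 y hyQ
      apply hc.hyc
      have h3 := hc.hy
      rw [pow_succ, hyy, one_mul] at h3
      rw [h3]
      exact Subgroup.one_mem _
  refine ⟨Subgroup.closure {x, y}, hDN, hinf, ?_, ⟨e⟩⟩
  exact normalizer_eq_sup hperf hsimp hcard _ _ (center_le_quad _ _ _ _) (card_quad h4 hi) hc60 hDN hinf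

/-- conjugating `quad` -/
theorem quad_map_conj (g x1 x2 y1 y2 : X) :
    (quad x1 x2 y1 y2).map (MulAut.conj g).toMonoidHom =
      quad (g * x1 * g⁻¹) (g * x2 * g⁻¹) (g * y1 * g⁻¹) (g * y2 * g⁻¹) := by
  unfold quad
  rw [Subgroup.map_sup, MonoidHom.map_closure]
  congr 1
  · congr 1
    ext q
    simp only [Set.mem_image, Set.mem_insert_iff, Set.mem_singleton_iff, MulEquiv.coe_toMonoidHom,
      MulAut.conj_apply]
    constructor
    · rintro ⟨z, hz | hz | hz | hz, rfl⟩ <;> simp [hz]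
    · rintro (rfl | rfl | rfl | rfl)
      · exact ⟨x1, Or.inl rfl, rfl⟩
      · exact ⟨x2, Or.inr (Or.inl rfl), rfl⟩
      · exact ⟨y1, Or.inr (Or.inr (Or.inl rfl)), rfl⟩
      · exact ⟨y2, Or.inr (Or.inr (Or.inr rfl)), rfl⟩
  · exact Subgroup.characteristic_iff_map_eq.mp inferInstance (MulAut.conj g)

section Main

variable [Finite X] {a1 a2 b1 b2 w1 w2 xH yH xK yK : X}

/-- the abstract form of S3154 for the Sylow subgroup `quad a ⊔ quad b` -/
theorem main_of_hyp (hperf : commutator X = ⊤)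
    (hsimp : IsSimpleGroup (X ⧸ Subgroup.center X))
    (hZ : Cfsg.IsElementaryAbelian 2 (Subgroup.center X))
    (hcard : Nat.card X = 20160 * Nat.card (Subgroup.center X))
    (h : Hyp a1 a2 b1 b2 w1 w2) (hcH : Comp a1 a2 w1 w2 xH yH) (hcK : Comp b1 b2 w1 w2 xK yK)
    (H K : Subgroup X) (hHK : H ≠ K)
    (hHT : H ≤ quad a1 a2 w1 w2 ⊔ quad b1 b2 w1 w2) (hKT : K ≤ quad a1 a2 w1 w2 ⊔ quad b1 b2 w1 w2)
    (hZH : Subgroup.center X ≤ H) (hZK : Subgroup.center X ≤ K)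
    (hH : Cfsg.IsElementaryAbelian 2 (H.map (QuotientGroup.mk' (Subgroup.center X))) ∧
      Nat.card ↥(H.map (QuotientGroup.mk' (Subgroup.center X))) = 16)
    (hK : Cfsg.IsElementaryAbelian 2 (K.map (QuotientGroup.mk' (Subgroup.center X))) ∧
      Nat.card ↥(K.map (QuotientGroup.mk' (Subgroup.center X))) = 16) :
    Cfsg.IsElementaryAbelian 2 H ∧ Cfsg.IsElementaryAbelian 2 K ∧
      H ⊓ K = (Subgroup.center ↥(H ⊔ K)).map (H ⊔ K).subtype ∧
      (∃ C : Subgroup X, C ≤ Subgroup.normalizer (H : Set X) ∧ C ⊓ H = ⊥ ∧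
        H ⊔ C = Subgroup.normalizer (H : Set X) ∧ Nonempty (↥C ≃* alternatingGroup (Fin 5))) ∧
      (∃ C : Subgroup X, C ≤ Subgroup.normalizer (K : Set X) ∧ C ⊓ K = ⊥ ∧
        K ⊔ C = Subgroup.normalizer (K : Set X) ∧ Nonempty (↥C ≃* alternatingGroup (Fin 5))) := by
  have hA := exists_complement hperf hsimp hZ hcard h.hA h.iA hcH
  have hB := exists_complement hperf hsimp hZ hcard h.hB h.iB hcK
  have eA := quad_elementary h.hA hZ
  have eB := quad_elementary h.hB hZ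
  have hcs := center_sup h hZ
  rcases ident h hZ H hHT hZH hH.1 hH.2 with rfl | rfl <;>
    rcases ident h hZ K hKT hZK hK.1 hK.2 with rfl | rfl
  · exact absurd rfl hHK
  · exact ⟨eA, eB, hcs, hA, hB⟩
  · refine ⟨eB, eA, ?_, hB, hA⟩
    rw [inf_comm, sup_comm]
    exact hcs
  · exact absurd rfl hHK

end Main

end Cfsg.Agent.Lib.Helper26.L34Loc
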