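import Cfsg.Agent.Lib.Helper26.L34LocData
import Cfsg.Agent.Lib.Helper26.L34LocMain
import Cfsg.Agent.H5.StemTC

/-!
# S3154: from the word identities of the `960`-point model to the hypotheses `Hyp`, `Comp` in `X` (helper26)

`Good γ` is what the bridge provides: the images `γ i` of the eight generators satisfy every word identity of the
model, the two central words are central in `X`, and a word that is central in `X` acts on the model as one of the
sixteen central elements.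
-/

set_option autoImplicit false

namespace Cfsg.Agent.Lib.Helper26.L34Loc

open Cfsg.H5.TCk Cfsg.Agent.Lib.Helper28.BSGS Cfsg.Agent.Lib.Helper7.L34

variable {X : Type*} [Group X]

/-- the transfer package from the model to `X` -/
structure Good (γ : ℕ → X) : Prop where
  rel : ∀ w : List ℕ, Model.fixAll w = true → ev γ w = 1
  ka : ev γ wordKa ∈ Subgroup.center X
  kb : ev γ wordKb ∈ Subgroup.center X
  nc : ∀ w : List ℕ, w.all (fun l => decide (l < 8)) = true → ev γ w ∈ Subgroup.center X →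
    ∃ i j : Fin 4, ev Model.mp w = ev Model.mp (Model.kw i.val j.val)

theorem ev_rp (γ : ℕ → X) (w : List ℕ) (k : ℕ) : ev γ (rp w k) = ev γ w ^ k :=
  Model.ev_flatten_replicate γ w k

theorem ev_conj (γ : ℕ → X) (g : X) (w : List ℕ) :
    ev (fun i => g * γ i * g⁻¹) w = g * ev γ w * g⁻¹ :=
  (Cfsg.H5.StemTC.map_ev (MulAut.conj g).toMonoidHom γ w).symm

theorem ev_word4 (γ : ℕ → X) (x1 x2 y1 y2 : List ℕ) (i j k l : ℕ) :
    ev γ (word4 x1 x2 y1 y2 i j k l) = ev γ x1 ^ i * ev γ x2 ^ j * ev γ y1 ^ k * ev γ y2 ^ l := by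
  unfold word4
  rw [ev_append, ev_append, ev_append, ev_rp, ev_rp, ev_rp, ev_rp]

theorem ev_wordCr (γ : ℕ → X) (i j k l : ℕ) :
    ev γ (wordCr i j k l) =
      (ev γ wa1 ^ i * ev γ wa2 ^ j) * (ev γ wb1 ^ k * ev γ wb2 ^ l) *
        (ev γ wa1 ^ i * ev γ wa2 ^ j)⁻¹ * (ev γ wb1 ^ k * ev γ wb2 ^ l)⁻¹ := by
  unfold wordCr
  rw [ev_append, ev_append, ev_append, ev_winv, ev_winv, ev_append, ev_append, ev_rp, ev_rp, ev_rp,
    ev_rp]

theorem Good.conj {γ : ℕ → X} (hγ : Good γ) (g : X) : Good (fun i => g * γ i * g⁻¹) where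
  rel w hw := by rw [ev_conj, hγ.rel w hw, mul_one, mul_inv_cancel]
  ka := by
    rw [ev_conj]
    exact (inferInstance : (Subgroup.center X).Normal).conj_mem _ hγ.ka g
  kb := by
    rw [ev_conj]
    exact (inferInstance : (Subgroup.center X).Normal).conj_mem _ hγ.kb g
  nc w hw hc := by
    apply hγ.nc w hw
    rw [ev_conj] at hc
    have := (inferInstance : (Subgroup.center X).Normal).conj_mem _ hc g⁻¹
    simpa [mul_assoc] using this

section

variable {γ : ℕ → X} (hγ : Good γ) (hexp : ∀ z ∈ Subgroup.center X, z * z = 1)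
include hγ

theorem Good.kw_mem (m n : ℕ) : ev γ (Model.kw m n) ∈ Subgroup.center X := by
  rw [Model.ev_kw]
  exact Subgroup.mul_mem _ (Subgroup.pow_mem _ hγ.ka m) (Subgroup.pow_mem _ hγ.kb n)

theorem Good.eq_of_id {u v : List ℕ} (h : Model.fixAll (u ++ winv v) = true) : ev γ u = ev γ v := by
  have := hγ.rel _ h
  rw [ev_append, ev_winv, mul_inv_eq_one] at this
  exact this

theorem Good.quad_of_id {x u p1 p2 p3 p4 : List ℕ} {i j k l m n : ℕ}
    (h : Model.fixAll (x ++ u ++ winv x ++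
      winv (rp p1 i ++ rp p2 j ++ rp p3 k ++ rp p4 l ++ Model.kw m n)) = true) :
    ev γ x * ev γ u * (ev γ x)⁻¹ ∈ quad (ev γ p1) (ev γ p2) (ev γ p3) (ev γ p4) := by
  have := hγ.eq_of_id h
  rw [ev_append, ev_append, ev_winv, ev_append, ev_append, ev_append, ev_append, ev_rp, ev_rp, ev_rp,
    ev_rp] at this
  rw [this]
  have hcl : ∀ q ∈ ({ev γ p1, ev γ p2, ev γ p3, ev γ p4} : Set X),
      q ∈ Subgroup.closure ({ev γ p1, ev γ p2, ev γ p3, ev γ p4} : Set X) :=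
    fun q hq => Subgroup.subset_closure hq
  refine Subgroup.mul_mem_sup ?_ (hγ.kw_mem m n)
  refine Subgroup.mul_mem _ (Subgroup.mul_mem _ (Subgroup.mul_mem _ ?_ ?_) ?_) ?_
  · exact Subgroup.pow_mem _ (hcl _ (by simp)) _
  · exact Subgroup.pow_mem _ (hcl _ (by simp)) _
  · exact Subgroup.pow_mem _ (hcl _ (by simp)) _
  · exact Subgroup.pow_mem _ (hcl _ (by simp)) _

theorem Good.duo_of_id {u v p1 p2 : List ℕ} {i j m n : ℕ}
    (h : Model.fixAll (u ++ v ++ winv u ++ winv v ++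
      winv (rp p1 i ++ rp p2 j ++ Model.kw m n)) = true) :
    ev γ u * ev γ v * (ev γ u)⁻¹ * (ev γ v)⁻¹ ∈ duo (ev γ p1) (ev γ p2) := by
  have := hγ.eq_of_id h
  rw [ev_append, ev_append, ev_append, ev_winv, ev_winv, ev_append, ev_append, ev_rp, ev_rp] at this
  rw [this]
  have hcl : ∀ q ∈ ({ev γ p1, ev γ p2} : Set X),
      q ∈ Subgroup.closure ({ev γ p1, ev γ p2} : Set X) :=
    fun q hq => Subgroup.subset_closure hq
  refine Subgroup.mul_mem_sup ?_ (hγ.kw_mem m n)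
  refine Subgroup.mul_mem _ ?_ ?_
  · exact Subgroup.pow_mem _ (hcl _ (by simp)) _
  · exact Subgroup.pow_mem _ (hcl _ (by simp)) _

/-- a word passing the point test is not central -/
theorem Good.not_center {w : List ℕ} (h : ncOK2 w = true) : ev γ w ∉ Subgroup.center X := by
  intro hc
  have key : ∀ p : ℕ, p < 960 → ncOK w p = true → False := by
    intro p hp hw
    unfold ncOK at hw
    rw [Bool.and_eq_true] at hw
    obtain ⟨hall, hne⟩ := hw
    obtain ⟨i, j, hij⟩ := hγ.nc w hall hc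
    have h1 := Model.ev_acts w hall (⟨p, hp⟩ : Fin 960)
    have h2 := Model.ev_acts _ (Model.kw_all i j) (⟨p, hp⟩ : Fin 960)
    rw [hij] at h1
    rw [List.all_eq_true] at hne
    have h3 := hne i.val (List.mem_range.mpr i.isLt)
    rw [List.all_eq_true] at h3
    have h4 := h3 j.val (List.mem_range.mpr j.isLt)
    rw [bne_iff_ne] at h4
    exact h4 (h1.symm.trans h2)
  unfold ncOK2 at h
  rw [Bool.or_eq_true] at h
  rcases h with h | h
  · exact key 0 (by norm_num) h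
  · exact key 1 (by norm_num) h

include hexp

theorem Good.kw_even {m n : ℕ} (hm : m % 2 = 0) (hn : n % 2 = 0) : ev γ (Model.kw m n) = 1 := by
  rw [Model.ev_kw]
  obtain ⟨m', rfl⟩ : ∃ m', m = 2 * m' := ⟨m / 2, by omega⟩
  obtain ⟨n', rfl⟩ : ∃ n', n = 2 * n' := ⟨n / 2, by omega⟩
  rw [pow_mul, pow_mul, pow_two, pow_two, hexp _ hγ.ka, hexp _ hγ.kb, one_pow, one_pow, one_mul]

theorem Good.sq_of_id {u : List ℕ} {m n : ℕ} (hm : m % 2 = 0) (hn : n % 2 = 0)
    (h : Model.fixAll (u ++ u ++ winv (Model.kw m n)) = true) : ev γ u * ev γ u = 1 := by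
  have := hγ.eq_of_id h
  rw [ev_append, hγ.kw_even hexp hm hn] at this
  exact this

theorem Good.comm_of_id {u v : List ℕ} {m n : ℕ} (hm : m % 2 = 0) (hn : n % 2 = 0)
    (h : Model.fixAll (u ++ v ++ winv u ++ winv v ++ winv (Model.kw m n)) = true) :
    ev γ u * ev γ v = ev γ v * ev γ u := by
  have := hγ.eq_of_id h
  rw [ev_append, ev_append, ev_append, ev_winv, ev_winv, hγ.kw_even hexp hm hn, mul_inv_eq_one,
    mul_inv_eq_iff_eq_mul] at this
  exact this

theorem Good.inv4A : Inv4 (ev γ wa1) (ev γ wa2) (ev γ ww1) (ev γ ww2) where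
  s1 := hγ.sq_of_id hexp rfl rfl id_sq_a1
  s2 := hγ.sq_of_id hexp rfl rfl id_sq_a2
  s3 := hγ.sq_of_id hexp rfl rfl id_sq_w1
  s4 := hγ.sq_of_id hexp rfl rfl id_sq_w2
  c12 := hγ.comm_of_id hexp rfl rfl id_c_a1_a2
  c13 := hγ.comm_of_id hexp rfl rfl id_c_a1_w1
  c14 := hγ.comm_of_id hexp rfl rfl id_c_a1_w2
  c23 := hγ.comm_of_id hexp rfl rfl id_c_a2_w1
  c24 := hγ.comm_of_id hexp rfl rfl id_c_a2_w2
  c34 := hγ.comm_of_id hexp rfl rfl id_c_w1_w2

theorem Good.inv4B : Inv4 (ev γ wb1) (ev γ wb2) (ev γ ww1) (ev γ ww2) where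
  s1 := hγ.sq_of_id hexp rfl rfl id_sq_b1
  s2 := hγ.sq_of_id hexp rfl rfl id_sq_b2
  s3 := hγ.sq_of_id hexp rfl rfl id_sq_w1
  s4 := hγ.sq_of_id hexp rfl rfl id_sq_w2
  c12 := hγ.comm_of_id hexp rfl rfl id_c_b1_b2
  c13 := hγ.comm_of_id hexp rfl rfl id_c_b1_w1
  c14 := hγ.comm_of_id hexp rfl rfl id_c_b1_w2
  c23 := hγ.comm_of_id hexp rfl rfl id_c_b2_w1
  c24 := hγ.comm_of_id hexp rfl rfl id_c_b2_w2
  c34 := hγ.comm_of_id hexp rfl rfl id_c_w1_w2

omit hexp

theorem Good.indepA : Indep4 (ev γ wa1) (ev γ wa2) (ev γ ww1) (ev γ ww2) := by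
  intro i j k l hi hj hk hl hc
  by_contra hne
  have := hγ.not_center (nc_indepA i hi j hj k hk l hl hne)
  rw [ev_word4] at this
  exact this hc

theorem Good.indepB : Indep4 (ev γ wb1) (ev γ wb2) (ev γ ww1) (ev γ ww2) := by
  intro i j k l hi hj hk hl hc
  by_contra hne
  have := hγ.not_center (nc_indepB i hi j hj k hk l hl hne)
  rw [ev_word4] at this
  exact this hc

theorem Good.cross : Cross (ev γ wa1) (ev γ wa2) (ev γ wb1) (ev γ wb2) := by
  intro i j k l hi hj hk hl h1 h2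
  have := hγ.not_center (nc_cross i hi j hj k hk l hl h1 h2)
  rw [ev_wordCr] at this
  exact this

include hexp

theorem Good.hyp : Hyp (ev γ wa1) (ev γ wa2) (ev γ wb1) (ev γ wb2) (ev γ ww1) (ev γ ww2) where
  hA := hγ.inv4A hexp
  hB := hγ.inv4B hexp
  ab11 := hγ.duo_of_id id_ab_a1_b1
  ab12 := hγ.duo_of_id id_ab_a1_b2
  ab21 := hγ.duo_of_id id_ab_a2_b1
  ab22 := hγ.duo_of_id id_ab_a2_b2
  iA := hγ.indepA
  iB := hγ.indepB
  cr := hγ.cross

omit hexp

theorem Good.compH : Comp (ev γ wa1) (ev γ wa2) (ev γ ww1) (ev γ ww2) (ev γ xH) (ev γ yH) where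
  hx := by have := hγ.rel _ id_pH_x5; rwa [ev_rp] at this
  hy := by have := hγ.rel _ id_pH_y3; rwa [ev_rp] at this
  hxy := by have := hγ.rel _ id_pH_xy2; rwa [ev_rp, ev_append] at this
  hyc := hγ.not_center nc_yH
  nx1 := hγ.quad_of_id id_nH_x_a1
  nx2 := hγ.quad_of_id id_nH_x_a2
  nx3 := hγ.quad_of_id id_nH_x_w1
  nx4 := hγ.quad_of_id id_nH_x_w2
  ny1 := hγ.quad_of_id id_nH_y_a1
  ny2 := hγ.quad_of_id id_nH_y_a2
  ny3 := hγ.quad_of_id id_nH_y_w1
  ny4 := hγ.quad_of_id id_nH_y_w2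

theorem Good.compK : Comp (ev γ wb1) (ev γ wb2) (ev γ ww1) (ev γ ww2) (ev γ xK) (ev γ yK) where
  hx := by have := hγ.rel _ id_pK_x5; rwa [ev_rp] at this
  hy := by have := hγ.rel _ id_pK_y3; rwa [ev_rp] at this
  hxy := by have := hγ.rel _ id_pK_xy2; rwa [ev_rp, ev_append] at this
  hyc := hγ.not_center nc_yK
  nx1 := hγ.quad_of_id id_nK_x_b1
  nx2 := hγ.quad_of_id id_nK_x_b2
  nx3 := hγ.quad_of_id id_nK_x_w1
  nx4 := hγ.quad_of_id id_nK_x_w2
  ny1 := hγ.quad_of_id id_nK_y_b1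
  ny2 := hγ.quad_of_id id_nK_y_b2
  ny3 := hγ.quad_of_id id_nK_y_w1
  ny4 := hγ.quad_of_id id_nK_y_w2

end

end Cfsg.Agent.Lib.Helper26.L34Loc
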