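import Cfsg.Agent.Lib.Helper28.SylowTwo
import Cfsg.Agent.Lib.Helper26.M23IdxA

set_option autoImplicit false

/-!
Explicit elements of the Sylow 2-subgroup `syT` of `M24` (helper28): the stabilizer of the point
`ptN 5` in `syT` joins the points inside each of the blocks `{19}`, `{17, 21}`, `{8, 10, 12, 20}`
and the sixteen points outside the octad `sy_O0`, and `syT` is transitive on the octad.
-/

namespace Cfsg.Agent.H26.M23Idx

open Cfsg MulAction Cfsg.Agent.Lib.Helper28
open scoped Pointwise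

/-- the action of a word in the four generators of `syT` (given by indices) on a point number -/
def wact (ws : List ℕ) (a : ℕ) : ℕ := ws.foldr (fun i b => look (sy_ttabs.getD i 0) b) a

theorem exists_word (ws : List ℕ) (h : ∀ i ∈ ws, i < 4) :
    ∃ g ∈ syT, ∀ a, a < 24 → wact ws a < 24 ∧ g (ptN a) = ptN (wact ws a) := by
  induction ws with
  | nil => exact ⟨1, syT.one_mem, fun a ha => ⟨ha, rfl⟩⟩
  | cons i ws ih =>
    obtain ⟨g, hg, hga⟩ := ih (fun j hj => h j (List.mem_cons_of_mem _ hj))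
    have hi : i < 4 := h i List.mem_cons_self
    have hmem : sy_ttabs.getD i 0 ∈ sy_ttabs := by
      have hlen : i < sy_ttabs.length := hi
      rw [List.getD_eq_getElem _ _ hlen]
      exact List.getElem_mem hlen
    obtain ⟨t, ht, hta⟩ := sy_tgens _ hmem
    refine ⟨t * g, syT.mul_mem ht hg, fun a ha => ?_⟩
    obtain ⟨h1, h2⟩ := hga a ha
    obtain ⟨h3, h4⟩ := hta _ h1
    refine ⟨h3, ?_⟩
    rw [Equiv.Perm.mul_apply, h2, h4]
    rfl

/-- words in the stabilizer of the point 5 joining the block representative to each point -/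
def connWords : List (List ℕ) :=
  [[], [3, 3, 2, 2], [3, 1, 2, 1], [2, 3, 3, 0], [1, 1], [], [2, 0, 0, 0], [0, 2, 0, 0], [],
   [2, 1, 0], [1], [3, 2, 3, 0], [0, 1, 0], [0, 1, 0], [2, 3, 0, 2], [3, 2, 2, 0], [1], [],
   [3, 2, 0, 2], [], [1, 1], [1], [3, 3, 0, 0], [3, 1, 3]]

set_option maxRecDepth 100000 in
theorem connWords_check : ∀ a : Fin 24, (∀ i ∈ connWords.getD a.val [], i < 4) ∧
    wact (connWords.getD a.val []) 5 = 5 ∧ wact (connWords.getD a.val []) (rep a.val) = a.val := by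
  decide +kernel

/-- the stabilizer of `ptN 5` in `syT` joins the block representative of `a` to `a` -/
theorem exists_conn (a : ℕ) (ha : a < 24) :
    ∃ t ∈ syT, t (ptN 5) = ptN 5 ∧ t (ptN (rep a)) = ptN a := by
  obtain ⟨h1, h2, h3⟩ := connWords_check ⟨a, ha⟩
  obtain ⟨g, hg, hga⟩ := exists_word _ h1
  have hb : rep a < 24 := by
    unfold rep
    split_ifs <;> omega
  refine ⟨g, hg, ?_, ?_⟩
  · rw [(hga 5 (by norm_num)).2, h2]
  · rw [(hga _ hb).2, h3]

/-- words of `syT` mapping the point 5 to the points of the octad -/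
def octWords : List (List ℕ) := [[], [2], [1, 2], [1, 0], [0, 0], [3, 1, 0], [0], [2, 0]]

set_option maxRecDepth 100000 in
theorem octWords_check : ∀ j : Fin 8, (∀ i ∈ octWords.getD j.val [], i < 4) ∧
    wact (octWords.getD j.val []) 5 = sy_O0.getD j.val 0 := by
  decide +kernel

theorem exists_oct (a : ℕ) (ha : a ∈ sy_O0) : ∃ t ∈ syT, t (ptN 5) = ptN a := by
  obtain ⟨j, hj, rfl⟩ := List.getElem_of_mem ha
  have hj8 : j < 8 := hj
  obtain ⟨h1, h2⟩ := octWords_check ⟨j, hj8⟩
  obtain ⟨g, hg, hga⟩ := exists_word _ h1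
  refine ⟨g, hg, ?_⟩
  rw [(hga 5 (by norm_num)).2, h2, List.getD_eq_getElem _ _ hj]

end Cfsg.Agent.H26.M23Idx
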