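import Cfsg.Agent.Lib.Helper26.M23IdxA
import Cfsg.Agent.Lib.Helper26.M23IdxB
import Cfsg.Agent.Lib.Helper28.M24Stab
import Cfsg.Agent.Lib.Helper28.OctadStab

set_option autoImplicit false

/-!
The subgroups of order 40320 of the stabilizer of the point `ptN 5` in `M24` which contain the
stabilizer of that point in the Sylow 2-subgroup `syT`: the stabilizer of the duad
`{ptN 17, ptN 21}` and the stabilizer of the octad `ptSet sy_O0`.
-/

namespace Cfsg.Agent.H26.M23Idx

open Cfsg MulAction Cfsg.Agent.Lib.Helper28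
open scoped Pointwise

theorem exists_ptN (p : GolayPt) : ∃ a, a < 24 ∧ ptN a = p :=
  ⟨(ptInv p).val, (ptInv p).2, ptN_ptInv p⟩

/-- a list of point numbers described by an invariant predicate gives an invariant set -/
theorem smul_ptSet_eq_of_pred (K : Subgroup ↥M24) (P : GolayPt → Prop)
    (hP : ∀ k ∈ K, ∀ p : GolayPt, P (k • p) ↔ P p) (L : List ℕ) (hL : ∀ b ∈ L, b < 24)
    (h : ∀ a, a < 24 → (a ∈ L ↔ P (ptN a))) : ∀ k ∈ K, k • ptSet L = ptSet L := by
  have key : ∀ p, p ∈ ptSet L ↔ P p := by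
    intro p
    obtain ⟨a, ha, rfl⟩ := exists_ptN p
    rw [mem_ptSet]
    constructor
    · rintro ⟨b, hb, hbe⟩
      have hba : b = a := ptN_inj (hL b hb) ha hbe
      subst hba
      exact (h b ha).mp hb
    · intro hp
      exact ⟨a, (h a ha).mpr hp, rfl⟩
  intro k hk
  ext q
  rw [Finset.mem_smul_finset]
  constructor
  · rintro ⟨p, hp, rfl⟩
    rw [key] at hp ⊢
    exact (hP k hk p).mpr hp
  · intro hq
    refine ⟨k⁻¹ • q, ?_, smul_inv_smul k q⟩
    rw [key] at hq ⊢
    have := hP k hk (k⁻¹ • q)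
    rw [smul_inv_smul] at this
    exact this.mp hq

/-- bound for the stabilizer of the point `ptN 5` and of a set of points -/
theorem card_stab_mul_le (L L' : List ℕ) (hL : GoodSet L) (hL' : GoodSet L') (k : ℕ)
    (hk : L'.length = k) (hk5 : k ≤ 5) (hsub : ∀ a ∈ L', a = 5 ∨ a ∈ L) :
    Nat.card ↥(stabilizer M24 (ptN 5) ⊓ stabilizer M24 (ptSet L)) *
      ((24).factorial / (24 - k).factorial) ≤ L.length.factorial * 244823040 := by
  have hs : ((ptSet L' : Finset GolayPt) : Set GolayPt).ncard = k := by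
    rw [Set.ncard_coe_finset, card_ptSet hL', hk]
  have h1 := card_fixingSubgroup_M24 ((ptSet L' : Finset GolayPt) : Set GolayPt) k hk5 hs
  have h2 := card_le_factorial_mul (G := ↥M24) (α := GolayPt) (ptSet L)
    (stabilizer M24 (ptN 5) ⊓ stabilizer M24 (ptSet L))
    (fixingSubgroup M24 ((ptSet L' : Finset GolayPt) : Set GolayPt))
    (by
      intro d hd p
      have hd2 : d • ptSet L = ptSet L := mem_stabilizer_iff.mp (Subgroup.mem_inf.mp hd).2
      constructor
      · intro hp
        rw [← hd2] at hp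
        exact Finset.smul_mem_smul_finset_iff d |>.mp hp
      · intro hp
        rw [← hd2]
        exact Finset.smul_mem_smul_finset hp)
    (by
      intro d hd hfix
      rw [mem_fixingSubgroup_iff]
      intro y hy
      rw [Finset.mem_coe, mem_ptSet] at hy
      obtain ⟨a, ha, rfl⟩ := hy
      rcases hsub a ha with rfl | haL
      · exact mem_stabilizer_iff.mp (Subgroup.mem_inf.mp hd).1
      · exact hfix _ (mem_ptSet.mpr ⟨a, haL, rfl⟩))
  rw [card_ptSet hL] at h2
  calc Nat.card ↥(stabilizer M24 (ptN 5) ⊓ stabilizer M24 (ptSet L)) *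
        ((24).factorial / (24 - k).factorial)
      ≤ (L.length.factorial *
          Nat.card (fixingSubgroup M24 ((ptSet L' : Finset GolayPt) : Set GolayPt))) *
        ((24).factorial / (24 - k).factorial) := Nat.mul_le_mul_right _ h2
    _ = L.length.factorial * 244823040 := by rw [Nat.mul_assoc, h1]

theorem card_stab_duad_le :
    Nat.card ↥(stabilizer M24 (ptN 5) ⊓ stabilizer M24 (ptSet [17, 21])) ≤ 40320 := by
  have h := card_stab_mul_le [17, 21] [5, 17, 21] (by decide) (by decide) 3 rfl (by norm_num)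
    (by decide)
  have e : (24).factorial / (24 - 3).factorial = 12144 := by decide
  have e2 : [17, 21].length.factorial = 2 := by decide
  rw [e, e2] at h
  exact Nat.le_of_mul_le_mul_right (h.trans (by norm_num)) (by norm_num : 0 < 12144)

theorem card_stab_three_le :
    Nat.card ↥(stabilizer M24 (ptN 5) ⊓ stabilizer M24 (ptSet [19, 17, 21])) ≤ 5760 := by
  have h := card_stab_mul_le [19, 17, 21] [5, 19, 17, 21] (by decide) (by decide) 4 rfl
    (by norm_num) (by decide)
  have e : (24).factorial / (24 - 4).factorial = 255024 := by decide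
  have e2 : [19, 17, 21].length.factorial = 6 := by decide
  rw [e, e2] at h
  exact Nat.le_of_mul_le_mul_right (h.trans (by norm_num)) (by norm_num : 0 < 255024)

theorem card_stab_five_le :
    Nat.card ↥(stabilizer M24 (ptN 5) ⊓ stabilizer M24 (ptSet [19, 8, 10, 12, 20])) ≤ 5760 := by
  have h := card_stab_mul_le [19, 8, 10, 12, 20] [5, 19, 8, 10, 12] (by decide) (by decide) 5 rfl
    (by norm_num) (by decide)
  have e : (24).factorial / (24 - 5).factorial = 5100480 := by decide
  have e2 : [19, 8, 10, 12, 20].length.factorial = 120 := by decide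
  rw [e, e2] at h
  exact Nat.le_of_mul_le_mul_right (h.trans (by norm_num)) (by norm_num : 0 < 5100480)

theorem card_stab_octad_le :
    Nat.card ↥(stabilizer M24 (ptN 5) ⊓ stabilizer M24 (ptSet sy_O0)) ≤ 40320 := by
  have hA : Nat.card (stabilizer M24 (ptSet sy_O0)) = 322560 :=
    card_stabilizer_octad sy_base_check.1.mem
  have h := card_eq_orbit_mul_card_inf_stabilizer' (stabilizer M24 (ptSet sy_O0)) (ptN 5)
  rw [hA] at h
  have h8 : 8 ≤ (orbit (stabilizer M24 (ptSet sy_O0)) (ptN 5)).ncard := by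
    have hsub : ((ptSet sy_O0 : Finset GolayPt) : Set GolayPt) ⊆
        orbit (stabilizer M24 (ptSet sy_O0)) (ptN 5) := by
      intro p hp
      rw [Finset.mem_coe, mem_ptSet] at hp
      obtain ⟨a, ha, rfl⟩ := hp
      obtain ⟨t, ht, hta⟩ := exists_oct a ha
      have htA : (⟨t, syT_le ht⟩ : ↥M24) ∈ stabilizer M24 (ptSet sy_O0) :=
        mem_stabilizer_iff.mpr (mem_syT.mp ht).2.2.1
      exact ⟨⟨⟨t, syT_le ht⟩, htA⟩, hta⟩
    have := Set.ncard_le_ncard hsub (Set.toFinite _)
    rw [Set.ncard_coe_finset, card_ptSet sy_O0_good] at this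
    exact this
  rw [inf_comm]
  have h3 : 8 * Nat.card ↥(stabilizer M24 (ptSet sy_O0) ⊓ stabilizer M24 (ptN 5)) ≤ 8 * 40320 := by
    calc 8 * Nat.card ↥(stabilizer M24 (ptSet sy_O0) ⊓ stabilizer M24 (ptN 5))
        ≤ (orbit (stabilizer M24 (ptSet sy_O0)) (ptN 5)).ncard *
          Nat.card ↥(stabilizer M24 (ptSet sy_O0) ⊓ stabilizer M24 (ptN 5)) :=
          Nat.mul_le_mul_right _ h8
      _ = 322560 := h.symm
      _ = 8 * 40320 := by norm_num
  exact Nat.le_of_mul_le_mul_left h3 (by norm_num)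

/-- membership in the orbit of the point 0, as a Boolean function of the point number -/
noncomputable def inO (K : Subgroup ↥M24) (a : ℕ) : Bool :=
  @decide (ptN a ∈ orbit K (ptN 0)) (Classical.propDecidable _)

theorem inO_iff {K : Subgroup ↥M24} {a : ℕ} : inO K a = true ↔ ptN a ∈ orbit K (ptN 0) := by
  unfold inO
  exact @decide_eq_true_iff _ (Classical.propDecidable _)

theorem inO_false_iff {K : Subgroup ↥M24} {a : ℕ} :
    inO K a = false ↔ ptN a ∉ orbit K (ptN 0) := by
  rw [← inO_iff, Bool.not_eq_true]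

theorem smul_mem_orbit_iff' {K : Subgroup ↥M24} (k : ↥M24) (hk : k ∈ K) (p q : GolayPt) :
    k • p ∈ orbit K q ↔ p ∈ orbit K q := by
  constructor
  · intro h
    rw [mem_orbit_iff] at h ⊢
    obtain ⟨c, hc⟩ := h
    refine ⟨⟨k, hk⟩⁻¹ * c, ?_⟩
    rw [mul_smul, hc]
    exact inv_smul_smul k p
  · intro h
    rw [mem_orbit_iff] at h ⊢
    obtain ⟨c, rfl⟩ := h
    exact ⟨⟨k, hk⟩ * c, mul_smul _ _ _⟩

theorem ncard_orbit (K : Subgroup ↥M24) :
    (orbit K (ptN 0)).ncard = ((List.range 24).filter (inO K)).length := by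
  have hgood : GoodSet ((List.range 24).filter (inO K)) :=
    ⟨(List.nodup_range).filter _, fun a ha => List.mem_range.mp (List.mem_filter.mp ha).1⟩
  have e : orbit K (ptN 0) =
      ((ptSet ((List.range 24).filter (inO K)) : Finset GolayPt) : Set GolayPt) := by
    ext p
    obtain ⟨a, ha, rfl⟩ := exists_ptN p
    rw [Finset.mem_coe, mem_ptSet]
    constructor
    · intro h
      exact ⟨a, List.mem_filter.mpr ⟨List.mem_range.mpr ha, inO_iff.mpr h⟩, rfl⟩
    · rintro ⟨b, hb, hbe⟩
      have hba : b = a := ptN_inj (hgood.2 b hb) ha hbe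
      subst hba
      exact inO_iff.mp (List.mem_filter.mp hb).2
  rw [e, Set.ncard_coe_finset, card_ptSet hgood]

section core

variable {K : Subgroup ↥M24}

theorem inO_zero : inO K 0 = true := inO_iff.mpr (mem_orbit_self _)

theorem inO_five (hfix : ∀ k ∈ K, (k : ↥M24) • ptN 5 = ptN 5) : inO K 5 = false := by
  rw [inO_false_iff]
  rintro ⟨c, hc⟩
  have h1 : (c : ↥M24) • ptN 0 = ptN 5 := hc
  have h2 : (c : ↥M24) • ptN 5 = ptN 5 := hfix _ c.2
  have h3 : ptN 0 = ptN 5 := smul_left_cancel (c : ↥M24) (h1.trans h2.symm)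
  have := ptN_inj (by norm_num) (by norm_num) h3
  omega

theorem inO_rep (hT : ∀ t (ht : t ∈ syT), t (ptN 5) = ptN 5 → (⟨t, syT_le ht⟩ : ↥M24) ∈ K)
    (a : ℕ) (ha : a < 24) : inO K a = inO K (rep a) := by
  obtain ⟨t, ht, h5, hta⟩ := exists_conn a ha
  have hk := hT t ht h5
  have hsm : (⟨t, syT_le ht⟩ : ↥M24) • ptN (rep a) = ptN a := hta
  rw [Bool.eq_iff_iff, inO_iff, inO_iff, ← hsm, smul_mem_orbit_iff' _ hk]

theorem ncard_orbit_eq (hfix : ∀ k ∈ K, (k : ↥M24) • ptN 5 = ptN 5)
    (hT : ∀ t (ht : t ∈ syT), t (ptN 5) = ptN 5 → (⟨t, syT_le ht⟩ : ↥M24) ∈ K) :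
    (orbit K (ptN 0)).ncard = (if inO K 19 then 1 else 0) + (if inO K 17 then 2 else 0) +
      (if inO K 8 then 4 else 0) + 16 := by
  rw [ncard_orbit]
  have hc : (List.range 24).filter (inO K) =
      (List.range 24).filter (sel (inO K 5) (inO K 19) (inO K 17) (inO K 8) (inO K 0)) := by
    apply List.filter_congr
    intro a ha
    exact eq_sel_of_rep (inO K) (inO_rep hT) a (List.mem_range.mp ha)
  rw [hc, sel_count, inO_zero, inO_five hfix]
  simp

theorem inO_eq_sel (hfix : ∀ k ∈ K, (k : ↥M24) • ptN 5 = ptN 5)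
    (hT : ∀ t (ht : t ∈ syT), t (ptN 5) = ptN 5 → (⟨t, syT_le ht⟩ : ↥M24) ∈ K)
    (a : ℕ) (ha : a < 24) : inO K a = sel false (inO K 19) (inO K 17) (inO K 8) true a := by
  rw [eq_sel_of_rep (inO K) (inO_rep hT) a ha, inO_zero, inO_five hfix]

/-- the complement of the orbit of the point 0 and of the point 5 is invariant -/
theorem le_stab_of_list (hfix : ∀ k ∈ K, (k : ↥M24) • ptN 5 = ptN 5) (L : List ℕ)
    (hL : ∀ b ∈ L, b < 24) (h : ∀ a, a < 24 → (a ∈ L ↔ (inO K a = false ∧ a ≠ 5))) :
    K ≤ stabilizer M24 (ptN 5) ⊓ stabilizer M24 (ptSet L) := by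
  intro k hk
  refine Subgroup.mem_inf.mpr ⟨mem_stabilizer_iff.mpr (hfix k hk), mem_stabilizer_iff.mpr ?_⟩
  refine smul_ptSet_eq_of_pred K (fun p => p ∉ orbit K (ptN 0) ∧ p ≠ ptN 5) ?_ L hL ?_ k hk
  · intro c hc p
    constructor
    · rintro ⟨h1, h2⟩
      refine ⟨fun hp => h1 ((smul_mem_orbit_iff' c hc p _).mpr hp), ?_⟩
      rintro rfl
      exact h2 (hfix c hc)
    · rintro ⟨h1, h2⟩
      refine ⟨fun hp => h1 ((smul_mem_orbit_iff' c hc p _).mp hp), ?_⟩
      intro h3
      apply h2
      have h4 : c • p = c • ptN 5 := h3.trans (hfix c hc).symm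
      exact smul_left_cancel c h4
  · intro a ha
    rw [h a ha, inO_false_iff]
    constructor
    · rintro ⟨h1, h2⟩
      exact ⟨h1, fun h3 => h2 (ptN_inj ha (by norm_num) h3)⟩
    · rintro ⟨h1, h2⟩
      exact ⟨h1, fun h3 => h2 (by rw [h3])⟩

/-- the complement of the orbit of the point 0 is invariant -/
theorem le_stab_of_list' (hfix : ∀ k ∈ K, (k : ↥M24) • ptN 5 = ptN 5) (L : List ℕ)
    (hL : ∀ b ∈ L, b < 24) (h : ∀ a, a < 24 → (a ∈ L ↔ inO K a = false)) :
    K ≤ stabilizer M24 (ptN 5) ⊓ stabilizer M24 (ptSet L) := by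
  intro k hk
  refine Subgroup.mem_inf.mpr ⟨mem_stabilizer_iff.mpr (hfix k hk), mem_stabilizer_iff.mpr ?_⟩
  refine smul_ptSet_eq_of_pred K (fun p => p ∉ orbit K (ptN 0)) ?_ L hL ?_ k hk
  · intro c hc p
    exact not_congr (smul_mem_orbit_iff' c hc p _)
  · intro a ha
    rw [h a ha, inO_false_iff]

theorem core (hfix : ∀ k ∈ K, (k : ↥M24) • ptN 5 = ptN 5)
    (hT : ∀ t (ht : t ∈ syT), t (ptN 5) = ptN 5 → (⟨t, syT_le ht⟩ : ↥M24) ∈ K)
    (hcard : Nat.card K = 40320) :
    K = stabilizer M24 (ptN 5) ⊓ stabilizer M24 (ptSet [17, 21]) ∨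
      K = stabilizer M24 (ptN 5) ⊓ stabilizer M24 (ptSet sy_O0) := by
  have hn := ncard_orbit_eq hfix hT
  have hsel := inO_eq_sel hfix hT
  have hdvd : (orbit K (ptN 0)).ncard ∣ 40320 := by
    have := card_eq_orbit_mul_card_inf_stabilizer' K (ptN 0)
    rw [hcard] at this
    exact ⟨_, this⟩
  rw [hn] at hdvd
  cases h19 : inO K 19 <;> cases h17 : inO K 17 <;> cases h8 : inO K 8 <;>
    rw [h19, h17, h8] at hdvd hsel
  · -- 16 : the octad
    right
    have hle := le_stab_of_list' hfix sy_O0 (by decide) (by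
      intro a ha
      rw [hsel a ha]
      revert a
      decide)
    exact Subgroup.eq_of_le_of_card_ge hle (by rw [hcard]; exact card_stab_octad_le)
  · -- 20 : a 3-set
    exfalso
    have hle := le_stab_of_list hfix [19, 17, 21] (by decide) (by
      intro a ha
      rw [hsel a ha]
      revert a
      decide)
    have := Subgroup.card_le_of_le hle
    rw [hcard] at this
    have := card_stab_three_le
    omega
  · -- 18 : a 5-set
    exfalso
    have hle := le_stab_of_list hfix [19, 8, 10, 12, 20] (by decide) (by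
      intro a ha
      rw [hsel a ha]
      revert a
      decide)
    have := Subgroup.card_le_of_le hle
    rw [hcard] at this
    have := card_stab_five_le
    omega
  · exact absurd hdvd (by norm_num)
  · exact absurd hdvd (by norm_num)
  · -- 21 : the duad
    left
    have hle := le_stab_of_list hfix [17, 21] (by decide) (by
      intro a ha
      rw [hsel a ha]
      revert a
      decide)
    exact Subgroup.eq_of_le_of_card_ge hle (by rw [hcard]; exact card_stab_duad_le)
  · exact absurd hdvd (by norm_num)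
  · exact absurd hdvd (by norm_num)

end core

end Cfsg.Agent.H26.M23Idx
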