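import Cfsg.Agent.Lib.Helper26.M23IdxC
import Cfsg.Agent.Lib.Helper28.M24Five

set_option autoImplicit false

/-!
Transport: a subgroup of index 253 of a point stabilizer of `M24` is conjugate (by an element `m`
of `M24` mapping `ptN 5` to the point) to the stabilizer of the duad or of the octad.
-/

namespace Cfsg.Agent.H26.M23Idx

open Cfsg MulAction Cfsg.Agent.Lib.Helper28
open scoped Pointwise

theorem exists_M24_smul_eq (p q : GolayPt) : ∃ g : ↥M24, g • p = q := by
  have h1 : IsMultiplyPretransitive M24 GolayPt 1 :=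
    isMultiplyPretransitive_of_le (G := M24) (α := GolayPt) (n := 5) (by norm_num)
      (by rw [natCard_golayPt]; norm_num)
  have : IsPretransitive M24 GolayPt := is_one_pretransitive_iff.mp h1
  exact exists_smul_eq M24 p q

theorem transport (x : GolayPt) (H : Subgroup ↥(stabilizer M24 x)) (hH : H.index = 253) :
    ∃ m : ↥M24, m • ptN 5 = x ∧ ∃ L : List ℕ, (L = [17, 21] ∨ L = sy_O0) ∧
      ∀ h : ↥(stabilizer M24 x), h ∈ H ↔ (h : ↥M24) • (m • ptSet L) = m • ptSet L := by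
  have : Fact (Nat.Prime 2) := ⟨Nat.prime_two⟩
  obtain ⟨g0, hg0⟩ := exists_M24_smul_eq (ptN 5) x
  have hT0p : IsPGroup 2 ↥(syT0 ⊓ stabilizer M24 (ptN 5)) :=
    (IsPGroup.of_card (n := 10) (by rw [syT0_card]; norm_num)).to_le inf_le_left
  obtain ⟨m, K', hmx, hTK, hKx, hcard, hmem⟩ :=
    transport_abstract (G := ↥M24) (α := GolayPt) (β := Finset GolayPt) (p := 2) x (ptN 5) g0 hg0 H
      (by rw [hH]; norm_num) (syT0 ⊓ stabilizer M24 (ptN 5)) hT0p inf_le_right
  have hcardH : Nat.card H = 40320 := by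
    have := Subgroup.card_mul_index H
    rw [hH, card_stabilizer_M24 x] at this
    omega
  rw [hcardH] at hcard
  have hfix : ∀ k ∈ K', (k : ↥M24) • ptN 5 = ptN 5 := fun k hk => mem_stabilizer_iff.mp (hKx hk)
  have hT : ∀ t (ht : t ∈ syT), t (ptN 5) = ptN 5 → (⟨t, syT_le ht⟩ : ↥M24) ∈ K' := by
    intro t ht h5
    exact hTK (Subgroup.mem_inf.mpr ⟨Subgroup.mem_subgroupOf.mpr ht, mem_stabilizer_iff.mpr h5⟩)
  refine ⟨m, hmx, ?_⟩
  rcases core hfix hT hcard with hK' | hK'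
  · exact ⟨[17, 21], Or.inl rfl, hmem _ hK'⟩
  · exact ⟨sy_O0, Or.inr rfl, hmem _ hK'⟩

end Cfsg.Agent.H26.M23Idx
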