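import Cfsg.Agent.Lib.Helper26.M24IdxS

set_option autoImplicit false

/-!
The subgroups of index 276 of `M24` are the stabilizers of the duads (helper26).  The argument uses
only the elements of order 11 and 7 and their numbers of fixed points.
-/

namespace Cfsg.Agent.H26.M24Idx

open Cfsg MulAction Cfsg.Agent.Lib.Helper28 Cfsg.Agent.H26.M23Idx
open scoped Pointwise

/-- Cauchy's theorem in a subgroup of `M24` -/
theorem exists_orderOf_eq (K : Subgroup ↥M24) (p : ℕ) [hp : Fact p.Prime]
    (hd : p ∣ Nat.card K) : ∃ s ∈ K, orderOf s = p := by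
  obtain ⟨s, hs⟩ := exists_prime_orderOf_dvd_card' p hd
  exact ⟨s.1, s.2, by rw [← hs]; exact Subgroup.orderOf_coe s⟩

/-- the length of an orbit is congruent modulo `p` to a number bounded by the size of any set
containing the fixed points, in the orbit, of an element of order `p` -/
theorem orbit_modEq_le (K : Subgroup ↥M24) {s : ↥M24} (hs : s ∈ K) {p : ℕ} [Fact p.Prime]
    (hp : orderOf s = p) (x : GolayPt) (E : Finset GolayPt)
    (hE : ∀ y ∈ orbit K x, s • y = y → y ∈ E) :
    ∃ f, f ≤ E.card ∧ (orbit K x).ncard ≡ f [MOD p] := by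
  refine ⟨_, ?_, ncard_orbit_modEq K hs hp x⟩
  rw [← Set.ncard_coe_finset E]
  apply Set.ncard_le_ncard _ (Finset.finite_toSet E)
  intro y hy
  exact Finset.mem_coe.mpr (hE y hy.1 hy.2)

/-- the stabilizer of a duad has order at most 887040 -/
theorem card_stab_pair_le (s2 : Finset GolayPt) (h2 : s2.card = 2) :
    Nat.card ↥(stabilizer M24 s2) ≤ 887040 := by
  have h1 := card_fixingSubgroup_M24 (s2 : Set GolayPt) 2 (by norm_num)
    (by rw [Set.ncard_coe_finset, h2])
  have e : (24).factorial / (24 - 2).factorial = 552 := by decide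
  rw [e] at h1
  have h3 := card_le_factorial_mul (G := ↥M24) (α := GolayPt) s2 (stabilizer M24 s2)
    (fixingSubgroup M24 (s2 : Set GolayPt))
    (by
      intro d hd p
      have hd2 : d • s2 = s2 := mem_stabilizer_iff.mp hd
      constructor
      · intro hp
        rw [← hd2] at hp
        exact Finset.smul_mem_smul_finset_iff d |>.mp hp
      · intro hp
        rw [← hd2]
        exact Finset.smul_mem_smul_finset hp)
    (by
      intro d _ hfix
      rw [mem_fixingSubgroup_iff]
      intro y hy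
      exact hfix y (Finset.mem_coe.mp hy))
  rw [h2] at h3
  have e2 : (2 : ℕ).factorial = 2 := rfl
  rw [e2] at h3
  omega

/-- a subgroup of order 887040 stabilizing a duad is its stabilizer -/
theorem eq_stab_of_invariant (H : Subgroup ↥M24) (hc : Nat.card H = 887040)
    (P : GolayPt → Prop) [DecidablePred P] (hP : ∀ h ∈ H, ∀ p, P (h • p) ↔ P p)
    (h2 : (Finset.univ.filter P).card = 2) :
    ∃ s : Finset GolayPt, s.card = 2 ∧ H = stabilizer M24 s := by
  refine ⟨Finset.univ.filter P, h2, ?_⟩
  have hle : H ≤ stabilizer M24 (Finset.univ.filter P) := by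
    intro h hh
    rw [mem_stabilizer_iff]
    apply Finset.eq_of_subset_of_card_le
    · intro q hq
      obtain ⟨p, hp, rfl⟩ := Finset.mem_smul_finset.mp hq
      rw [Finset.mem_filter] at hp ⊢
      exact ⟨Finset.mem_univ _, (hP h hh p).mpr hp.2⟩
    · rw [Finset.card_smul_finset]
  exact Subgroup.eq_of_le_of_card_ge hle (by rw [hc]; exact card_stab_pair_le _ h2)

/-- there is no fixed-point-free involution of a set of three elements -/
theorem no_invol_three {α : Type*} [DecidableEq α] (F : Finset α) (hF : F.card = 3) (σ : α → α)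
    (h1 : ∀ p, σ p ≠ p) (h2 : ∀ p, σ (σ p) = p) (h3 : ∀ p ∈ F, σ p ∈ F) : False := by
  obtain ⟨a, b, c, hab, hac, hbc, rfl⟩ := Finset.card_eq_three.mp hF
  have ha := h3 a (by simp)
  have hb := h3 b (by simp)
  have hc := h3 c (by simp)
  simp only [Finset.mem_insert, Finset.mem_singleton] at ha hb hc
  have ha2 := h2 a
  have hb2 := h2 b
  have hc2 := h2 c
  have ha1 := h1 a
  have hb1 := h1 b
  have hc1 := h1 c
  rcases ha with ha | ha | ha <;> rcases hb with hb | hb | hb <;> rcases hc with hc | hc | hc <;>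
    simp_all

/-- in a subgroup `H` whose point stabilizer `H ⊓ stabilizer M24 c` has order 36960, the point
stabilizer fixes exactly one further point -/
theorem exists_partner (H : Subgroup ↥M24) (c : GolayPt)
    (hHc : Nat.card ↥(H ⊓ stabilizer M24 c) = 36960) :
    ∃ c', c' ≠ c ∧ (∀ k ∈ H ⊓ stabilizer M24 c, k • c' = c') ∧
      ∀ z, (∀ k ∈ H ⊓ stabilizer M24 c, k • z = z) → z = c ∨ z = c' := by
  classical
  have : Fact (Nat.Prime 11) := ⟨by norm_num⟩
  have : Fact (Nat.Prime 7) := ⟨by norm_num⟩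
  set K := H ⊓ stabilizer M24 c with hK
  have hKc : ∀ k ∈ K, k • c = c := fun k hk => mem_stabilizer_iff.mp (Subgroup.mem_inf.mp hk).2
  obtain ⟨s, hsK, hs⟩ := exists_orderOf_eq K 11 (by rw [hHc]; norm_num)
  obtain ⟨t, htK, ht⟩ := exists_orderOf_eq K 7 (by rw [hHc]; norm_num)
  have hfs : (fixSet s).card = 2 := card_fixSet_of_prime hs (by norm_num)
  have hft : (fixSet t).card = 3 := card_fixSet_of_prime ht (by norm_num)
  have hcs : c ∈ fixSet s := mem_fixSet.mpr (hKc s hsK)
  have hct : c ∈ fixSet t := mem_fixSet.mpr (hKc t htK)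
  -- the second fixed point of `s`
  obtain ⟨c', hc'c, hfs'⟩ : ∃ c', c' ≠ c ∧ ∀ z, z ∈ fixSet s ↔ z = c ∨ z = c' := by
    obtain ⟨a, b, hab, he⟩ := Finset.card_eq_two.mp hfs
    rw [he] at hcs
    simp only [Finset.mem_insert, Finset.mem_singleton] at hcs
    rcases hcs with rfl | rfl
    · exact ⟨b, hab.symm, fun z => by rw [he]; simp⟩
    · exact ⟨a, hab, fun z => by rw [he]; simp [or_comm]⟩
  have hc's : s • c' = c' := mem_fixSet.mp ((hfs' c').mpr (Or.inr rfl))
  -- `c` is not in the orbit of `c'`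
  have hnotin : ∀ y ∈ orbit K c', y ≠ c := by
    rintro _ ⟨k, rfl⟩ hkc
    apply hc'c
    have h1 : (k : ↥M24) • c' = c := hkc
    have h2 : (k : ↥M24) • c = c := hKc k k.2
    exact (MulAction.injective (k : ↥M24)) (h1.trans h2.symm)
  -- the orbit of `c'` under `K` has length 1
  have h11 := ncard_orbit_modEq K hsK hs c'
  have hset : ({y | y ∈ orbit K c' ∧ s • y = y} : Set GolayPt) = {c'} := by
    ext y
    simp only [Set.mem_ofPred_eq, Set.mem_singleton_iff]
    constructor
    · rintro ⟨hy1, hy2⟩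
      rcases (hfs' y).mp (mem_fixSet.mpr hy2) with h | h
      · exact absurd h (hnotin y hy1)
      · exact h
    · rintro rfl
      exact ⟨mem_orbit_self _, hc's⟩
  rw [hset, Set.ncard_singleton] at h11
  obtain ⟨g, hg2, h7⟩ := orbit_modEq_le K htK ht c' ((fixSet t).erase c) (by
    intro y hy hty
    exact Finset.mem_erase.mpr ⟨hnotin y hy, mem_fixSet.mpr hty⟩)
  rw [Finset.card_erase_of_mem hct, hft] at hg2
  have hdvd : (orbit K c').ncard ∣ 36960 := by
    have := card_eq_orbit_mul_card_inf_stabilizer' K c'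
    rw [hHc] at this
    exact ⟨_, this⟩
  have hle24 : (orbit K c').ncard ≤ 24 := by
    have := Set.ncard_le_card (orbit K c')
    rwa [natCard_golayPt] at this
  have hone : (orbit K c').ncard = 1 := by
    have key : ∀ n g : ℕ, n ≤ 24 → n ∣ 36960 → n % 11 = 1 % 11 → n % 7 = g % 7 → g ≤ 3 - 1 →
        n = 1 := by
      intro n g h1 h2 h3 h4 h5
      interval_cases n <;> omega
    exact key _ g hle24 hdvd h11 h7 hg2
  obtain ⟨a, ha⟩ := Set.ncard_eq_one.mp hone
  have hfixc' : ∀ k ∈ K, k • c' = c' := by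
    intro k hk
    have h1 : c' ∈ orbit K c' := mem_orbit_self _
    have h2 : k • c' ∈ orbit K c' := ⟨⟨k, hk⟩, rfl⟩
    rw [ha, Set.mem_singleton_iff] at h1 h2
    rw [h2, h1]
  refine ⟨c', hc'c, hfixc', ?_⟩
  intro z hz
  exact (hfs' z).mp (mem_fixSet.mpr (hz s hsK))

/-- the subgroups of order 887040 of `M24` are the stabilizers of the duads -/
theorem part_276 (H : Subgroup ↥M24) (hc : Nat.card H = 887040) :
    ∃ s : Finset GolayPt, s.card = 2 ∧ H = stabilizer M24 s := by
  classical
  have : Fact (Nat.Prime 11) := ⟨by norm_num⟩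
  have : Fact (Nat.Prime 7) := ⟨by norm_num⟩
  obtain ⟨s, hsH, hs⟩ := exists_orderOf_eq H 11 (by rw [hc]; norm_num)
  obtain ⟨t, htH, ht⟩ := exists_orderOf_eq H 7 (by rw [hc]; norm_num)
  have hfs : (fixSet s).card = 2 := card_fixSet_of_prime hs (by norm_num)
  have hft : (fixSet t).card = 3 := card_fixSet_of_prime ht (by norm_num)
  have hcardU : (Finset.univ : Finset GolayPt).card = 24 := by
    rw [Finset.card_univ]; rfl
  -- a point not fixed by `s`
  obtain ⟨x, hx⟩ : ∃ x, x ∉ fixSet s := by
    by_contra hcon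
    push Not at hcon
    have : fixSet s = Finset.univ := Finset.eq_univ_iff_forall.mpr hcon
    rw [this, hcardU] at hfs
    omega
  have hsx : s • x ≠ x := fun h => hx (mem_fixSet.mpr h)
  obtain ⟨f, hf2, h11⟩ := orbit_modEq_le H hsH hs x (fixSet s) (fun y _ h => mem_fixSet.mpr h)
  obtain ⟨g, hg3, h7⟩ := orbit_modEq_le H htH ht x (fixSet t) (fun y _ h => mem_fixSet.mpr h)
  rw [hfs] at hf2
  rw [hft] at hg3
  have hdvd : (orbit H x).ncard ∣ 887040 := by
    have := card_eq_orbit_mul_card_inf_stabilizer' H x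
    rw [hc] at this
    exact ⟨_, this⟩
  have hle24 : (orbit H x).ncard ≤ 24 := by
    have := Set.ncard_le_card (orbit H x)
    rwa [natCard_golayPt] at this
  have hcases : (orbit H x).ncard = 1 ∨ (orbit H x).ncard = 2 ∨ (orbit H x).ncard = 22 ∨
      (orbit H x).ncard = 24 := by
    have key : ∀ n f g : ℕ, n ≤ 24 → n ∣ 887040 → n % 11 = f % 11 → f ≤ 2 → n % 7 = g % 7 →
        g ≤ 3 → n = 1 ∨ n = 2 ∨ n = 22 ∨ n = 24 := by
      intro n f g h1 h2 h3 h4 h5 h6
      interval_cases n <;> omega
    exact key _ f g hle24 hdvd h11 hf2 h7 hg3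
  have hinv : ∀ h ∈ H, ∀ p, (h • p ∈ orbit H x) ↔ p ∈ orbit H x :=
    fun h hh p => smul_mem_orbit_iff' h hh p x
  have hfilt : (Finset.univ.filter (fun y => y ∈ orbit H x)).card = (orbit H x).ncard := by
    rw [← Set.ncard_coe_finset]
    congr 1
    ext y
    simp
  rcases hcases with h1 | h2 | h22 | h24
  · -- the orbit is a point: impossible
    exfalso
    obtain ⟨a, ha⟩ := Set.ncard_eq_one.mp h1
    have e1 : x ∈ orbit H x := mem_orbit_self _
    have e2 : s • x ∈ orbit H x := ⟨⟨s, hsH⟩, rfl⟩
    rw [ha, Set.mem_singleton_iff] at e1 e2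
    exact hsx (e2.trans e1.symm)
  · exact eq_stab_of_invariant H hc (fun y => y ∈ orbit H x) hinv (by rw [hfilt, h2])
  · refine eq_stab_of_invariant H hc (fun y => y ∉ orbit H x)
      (fun h hh p => not_congr (hinv h hh p)) ?_
    have := Finset.card_filter_add_card_filter_not (s := (Finset.univ : Finset GolayPt))
      (fun y => y ∈ orbit H x)
    rw [hfilt, h22, hcardU] at this
    omega
  · -- the transitive case: impossible
    exfalso
    have horb : orbit H x = Set.univ := by
      rw [← hfilt] at h24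
      ext y
      constructor
      · intro _; trivial
      · intro _
        by_contra hy
        have hsub : Finset.univ.filter (fun y => y ∈ orbit H x) ⊆ Finset.univ.erase y := by
          intro z hz
          rw [Finset.mem_filter] at hz
          exact Finset.mem_erase.mpr ⟨fun hzy => hy (hzy ▸ hz.2), Finset.mem_univ _⟩
        have := Finset.card_le_card hsub
        rw [Finset.card_erase_of_mem (Finset.mem_univ _), hcardU] at this
        omega
    have hHc : ∀ c : GolayPt, Nat.card ↥(H ⊓ stabilizer M24 c) = 36960 := by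
      intro c
      have h1 := card_eq_orbit_mul_card_inf_stabilizer' H c
      have h2 : orbit H c = orbit H x := orbit_eq_iff.mpr (by rw [horb]; trivial)
      rw [h2, h24, hc] at h1
      omega
    choose σ hσ1 hσ2 hσ3 using fun c => exists_partner H c (hHc c)
    have hσσ : ∀ c, σ (σ c) = c := by
      intro c
      have hle : H ⊓ stabilizer M24 c ≤ H ⊓ stabilizer M24 (σ c) := by
        intro k hk
        exact Subgroup.mem_inf.mpr ⟨(Subgroup.mem_inf.mp hk).1,
          mem_stabilizer_iff.mpr (hσ2 c k hk)⟩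
      have heq : H ⊓ stabilizer M24 c = H ⊓ stabilizer M24 (σ c) :=
        Subgroup.eq_of_le_of_card_ge hle (by rw [hHc, hHc])
      have h3 : ∀ k ∈ H ⊓ stabilizer M24 (σ c), k • c = c := by
        intro k hk
        rw [← heq] at hk
        exact mem_stabilizer_iff.mp (Subgroup.mem_inf.mp hk).2
      rcases hσ3 (σ c) c h3 with h | h
      · exact absurd h.symm (hσ1 c)
      · exact h.symm
    refine no_invol_three (fixSet t) hft σ hσ1 hσσ ?_
    intro p hp
    apply mem_fixSet.mpr
    exact hσ2 p t (Subgroup.mem_inf.mpr ⟨htH, mem_stabilizer_iff.mpr (mem_fixSet.mp hp)⟩)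

end Cfsg.Agent.H26.M24Idx
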