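import Cfsg.Agent.Lib.Helper26.M23IdxC
import Cfsg.Agent.Lib.Helper28.M24Five

set_option autoImplicit false

/-!
Shared lemmas for the determination of the subgroups of index 759, 276, 1771, 253 of `M24`
(helper26): transitivity of the pointwise stabilizers of at most four points, the number of fixed
points of the elements of prime order at least 5, congruences for orbit lengths, the reduction to
subgroups containing the Sylow 2-subgroup `syT0`, and the trio bound.
-/

namespace Cfsg.Agent.H26.M24Idx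

open Cfsg MulAction Cfsg.Agent.Lib.Helper28 Cfsg.Agent.H26.M23Idx
open scoped Pointwise

/-! ### transitivity of the pointwise stabilizer of at most four points -/

theorem exists_fixing_smul_eq (s : Finset GolayPt) (hs : s.card ≤ 4) {p q : GolayPt}
    (hp : p ∉ s) (hq : q ∉ s) : ∃ g : ↥M24, (∀ y ∈ s, g • y = y) ∧ g • p = q := by
  have hcard : ((5 : ℕ) : ENat) ≤ ENat.card GolayPt := by
    rw [ENat.card_eq_coe_fintype_card]
    exact_mod_cast (by decide : 5 ≤ Fintype.card GolayPt)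
  have h1 : IsMultiplyPretransitive (fixingSubgroup M24 (s : Set GolayPt))
      (SubMulAction.ofFixingSubgroup M24 (s : Set GolayPt)) 1 :=
    SubMulAction.ofFixingSubgroup.isMultiplyPretransitive' (G := M24) (α := GolayPt) (n := 5)
      (s : Set GolayPt) (by rw [Set.ncard_coe_finset]; omega) hcard
  have h2 : IsPretransitive (fixingSubgroup M24 (s : Set GolayPt))
      (SubMulAction.ofFixingSubgroup M24 (s : Set GolayPt)) := is_one_pretransitive_iff.mp h1
  have hp' : p ∈ SubMulAction.ofFixingSubgroup M24 (s : Set GolayPt) := by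
    rw [SubMulAction.mem_ofFixingSubgroup_iff]
    simpa using hp
  have hq' : q ∈ SubMulAction.ofFixingSubgroup M24 (s : Set GolayPt) := by
    rw [SubMulAction.mem_ofFixingSubgroup_iff]
    simpa using hq
  obtain ⟨g, hg⟩ := h2.exists_smul_eq (⟨p, hp'⟩ : SubMulAction.ofFixingSubgroup M24 (s : Set GolayPt))
    ⟨q, hq'⟩
  refine ⟨g.1, fun y hy => ?_, ?_⟩
  · exact (mem_fixingSubgroup_iff M24).mp g.2 y (Finset.mem_coe.mpr hy)
  · exact congrArg Subtype.val hg

theorem exists_M24_smul_eq' (p q : GolayPt) : ∃ g : ↥M24, g • p = q := by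
  obtain ⟨g, -, hg⟩ := exists_fixing_smul_eq ∅ (by simp) (Finset.notMem_empty p) (Finset.notMem_empty q)
  exact ⟨g, hg⟩

/-! ### orbit lengths modulo a prime -/

/-- the length of an orbit of a subgroup `K` is congruent, modulo `p`, to the number of points of
the orbit fixed by an element of `K` of order `p` -/
theorem ncard_orbit_modEq (K : Subgroup ↥M24) {s : ↥M24} (hs : s ∈ K) {p : ℕ} [Fact p.Prime]
    (hp : orderOf s = p) (x : GolayPt) :
    (orbit K x).ncard ≡ ({y | y ∈ orbit K x ∧ s • y = y} : Set GolayPt).ncard [MOD p] := by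
  have hZ : IsPGroup p ↥(Subgroup.zpowers (⟨s, hs⟩ : ↥K)) := by
    apply IsPGroup.of_card (n := 1)
    rw [Nat.card_zpowers, pow_one, ← hp]
    exact Subgroup.orderOf_mk s hs
  have h := hZ.card_modEq_card_fixedPoints (α := ↥(orbit K x))
  rw [Nat.card_coe_set_eq] at h
  have e : Nat.card ↥(fixedPoints ↥(Subgroup.zpowers (⟨s, hs⟩ : ↥K)) ↥(orbit K x)) =
      ({y | y ∈ orbit K x ∧ s • y = y} : Set GolayPt).ncard := by
    rw [← Nat.card_coe_set_eq]
    apply Nat.card_congr
    refine ⟨fun y => ⟨y.1.1, y.1.2, ?_⟩, fun y => ⟨⟨y.1, y.2.1⟩, ?_⟩, fun y => rfl, fun y => rfl⟩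
    · have h1 := y.2 ⟨⟨s, hs⟩, Subgroup.mem_zpowers _⟩
      exact congrArg Subtype.val h1
    · rintro ⟨z, hz⟩
      obtain ⟨k, rfl⟩ := Subgroup.mem_zpowers_iff.mp hz
      apply Subtype.ext
      show ((⟨s, hs⟩ : ↥K) ^ k) • y.1 = y.1
      have h2 : (⟨s, hs⟩ : ↥K) • y.1 = y.1 := y.2.2
      exact mem_stabilizer_iff.mp (Subgroup.zpow_mem _ (mem_stabilizer_iff.mpr h2) k)
  rw [e] at h
  exact h

/-! ### fixed points of elements of prime order -/

/-- the set of fixed points of an element of `M24` -/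
def fixSet (g : ↥M24) : Finset GolayPt := Finset.univ.filter (fun p => g • p = p)

theorem mem_fixSet {g : ↥M24} {p : GolayPt} : p ∈ fixSet g ↔ g • p = p := by
  unfold fixSet
  rw [Finset.mem_filter]
  exact ⟨fun h => h.2, fun h => ⟨Finset.mem_univ _, h⟩⟩

/-- an element whose order does not divide 48 fixes at most four points -/
theorem card_fixSet_le_four {g : ↥M24} (h48 : ¬ orderOf g ∣ 48) : (fixSet g).card ≤ 4 := by
  by_contra hcon
  push Not at hcon
  obtain ⟨t, hts, htc⟩ := Finset.exists_subset_card_eq (show 5 ≤ (fixSet g).card from hcon)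
  have hmem : g ∈ fixingSubgroup M24 (t : Set GolayPt) := by
    rw [mem_fixingSubgroup_iff]
    intro y hy
    exact mem_fixSet.mp (hts (Finset.mem_coe.mp hy))
  have hc := card_fixingSubgroup_M24 (t : Set GolayPt) 5 le_rfl
    (by rw [Set.ncard_coe_finset, htc])
  have e : (24).factorial / (24 - 5).factorial = 5100480 := by decide
  rw [e] at hc
  have h48' : Nat.card (fixingSubgroup M24 (t : Set GolayPt)) = 48 := by omega
  apply h48
  rw [← h48']
  exact Subgroup.orderOf_dvd_natCard _ hmem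

/-- an element of prime order `p ≥ 5` fixes exactly `24 % p` points -/
theorem card_fixSet_of_prime {g : ↥M24} {p : ℕ} [hp : Fact p.Prime] (hg : orderOf g = p)
    (hp5 : 5 ≤ p) : (fixSet g).card = 24 % p := by
  have h48 : ¬ orderOf g ∣ 48 := by
    rw [hg]
    intro hd
    have h2 : p ∣ 2 ^ 4 * 3 := by simpa using hd
    rcases (Nat.Prime.dvd_mul hp.out).mp h2 with h | h
    · have := (Nat.prime_dvd_prime_iff_eq hp.out Nat.prime_two).mp (hp.out.dvd_of_dvd_pow h)
      omega
    · have := (Nat.prime_dvd_prime_iff_eq hp.out Nat.prime_three).mp h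
      omega
  have hle := card_fixSet_le_four h48
  have hmod := ncard_orbit_modEq ⊤ (Subgroup.mem_top g) hg (ptN 0)
  have horb : orbit (⊤ : Subgroup ↥M24) (ptN 0) = Set.univ := by
    ext q
    constructor
    · intro _; trivial
    · intro _
      obtain ⟨k, hk⟩ := exists_M24_smul_eq' (ptN 0) q
      exact ⟨⟨k, Subgroup.mem_top k⟩, hk⟩
  rw [horb] at hmod
  have e1 : (Set.univ : Set GolayPt).ncard = 24 := by
    rw [Set.ncard_univ, natCard_golayPt]
  have e2 : ({y | y ∈ (Set.univ : Set GolayPt) ∧ g • y = y} : Set GolayPt).ncard =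
      (fixSet g).card := by
    rw [← Set.ncard_coe_finset]
    congr 1
    ext y
    simp [mem_fixSet]
  rw [e1, e2] at hmod
  have h3 : (fixSet g).card % p = 24 % p := hmod.symm
  rw [← h3, Nat.mod_eq_of_lt (by omega)]

/-! ### reduction to subgroups containing the Sylow 2-subgroup `syT0` -/

theorem syT0_isPGroup : IsPGroup 2 ↥syT0 :=
  IsPGroup.of_card (n := 10) (by rw [syT0_card]; norm_num)

/-- a subgroup `H` of odd index is conjugate to a subgroup `H'` containing `syT0`; if `H'` is the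
stabilizer of `x` then `H` is the stabilizer of `c • x` -/
theorem odd_index_reduction {X : Type*} [MulAction ↥M24 X] (H : Subgroup ↥M24)
    (hodd : ¬ 2 ∣ H.index) :
    ∃ (c : ↥M24) (H' : Subgroup ↥M24), syT0 ≤ H' ∧ Nat.card H' = Nat.card H ∧
      H'.index = H.index ∧ ∀ x : X, H' = stabilizer M24 x → H = stabilizer M24 (c • x) := by
  haveI : Fact (Nat.Prime 2) := ⟨Nat.prime_two⟩
  obtain ⟨g, hg⟩ := exists_conj_le_of_isPGroup syT0 H syT0_isPGroup hodd
  have hmem : ∀ k, k ∈ H.comap (MulAut.conj g⁻¹).toMonoidHom ↔ g⁻¹ * k * g ∈ H := by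
    intro k
    rw [Subgroup.mem_comap]
    simp [MulAut.conj_apply]
  have hcard : Nat.card ↥(H.comap (MulAut.conj g⁻¹).toMonoidHom) = Nat.card H := by
    apply Nat.card_congr
    refine ⟨fun k => ⟨g⁻¹ * k.1 * g, (hmem k.1).mp k.2⟩,
      fun y => ⟨g * y.1 * g⁻¹, (hmem _).mpr (by
        have e : g⁻¹ * (g * y.1 * g⁻¹) * g = y.1 := by group
        rw [e]; exact y.2)⟩, ?_, ?_⟩
    · intro k
      apply Subtype.ext
      show g * (g⁻¹ * k.1 * g) * g⁻¹ = k.1
      group
    · intro y
      apply Subtype.ext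
      show g⁻¹ * (g * y.1 * g⁻¹) * g = y.1
      group
  refine ⟨g⁻¹, H.comap (MulAut.conj g⁻¹).toMonoidHom, ?_, hcard, ?_, ?_⟩
  · intro t ht
    exact (hmem t).mpr (hg t ht)
  · have h1 := Subgroup.card_mul_index (H.comap (MulAut.conj g⁻¹).toMonoidHom)
    have h2 := Subgroup.card_mul_index H
    rw [hcard, ← h2] at h1
    exact Nat.eq_of_mul_eq_mul_left Nat.card_pos h1
  · intro x hx
    ext y
    rw [mem_stabilizer_iff]
    have h1 : y ∈ H ↔ g * y * g⁻¹ ∈ H.comap (MulAut.conj g⁻¹).toMonoidHom := by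
      rw [hmem]
      have e : g⁻¹ * (g * y * g⁻¹) * g = y := by group
      rw [e]
    rw [h1, hx, mem_stabilizer_iff, mul_smul, mul_smul, smul_eq_iff_eq_inv_smul]

/-! ### subgroups containing `syT0`: intransitive or transitive -/

theorem syT0_mem {t : Equiv.Perm GolayPt} (ht : t ∈ syT) : (⟨t, syT_le ht⟩ : ↥M24) ∈ syT0 :=
  Subgroup.mem_subgroupOf.mpr ht

theorem rep_eq_zero_of_not_mem : ∀ b, b < 24 → b ∉ sy_O0 → rep b = 0 := by decide

/-- a subgroup containing `syT0` stabilizes the octad `ptSet sy_O0` or is transitive -/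
theorem stab_or_transitive {H : Subgroup ↥M24} (hT : syT0 ≤ H) :
    (∀ h ∈ H, h • ptSet sy_O0 = ptSet sy_O0) ∨ ∀ q : GolayPt, ∃ h ∈ H, h • ptN 5 = q := by
  by_cases hc : ∃ h ∈ H, ∃ a ∈ sy_O0, h • ptN a ∉ ptSet sy_O0
  · right
    obtain ⟨h, hh, a, ha, hb⟩ := hc
    -- the point `ptN a` is joined to `ptN 5`
    obtain ⟨t, ht, hta⟩ := exists_oct a ha
    have h5a : ∃ k ∈ H, k • ptN 5 = ptN a := ⟨⟨t, syT_le ht⟩, hT (syT0_mem ht), hta⟩
    obtain ⟨b, hb24, hbe⟩ := exists_ptN (h • ptN a)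
    have hbO : b ∉ sy_O0 := fun hmem => hb (by rw [← hbe]; exact mem_ptSet.mpr ⟨b, hmem, rfl⟩)
    -- `ptN 0` is joined to `ptN b`
    obtain ⟨t1, ht1, -, ht1b⟩ := exists_conn b hb24
    rw [rep_eq_zero_of_not_mem b hb24 hbO] at ht1b
    have h50 : ∃ k ∈ H, k • ptN 5 = ptN 0 := by
      obtain ⟨k, hk, hk5⟩ := h5a
      refine ⟨(⟨t1, syT_le ht1⟩ : ↥M24)⁻¹ * h * k, H.mul_mem (H.mul_mem (H.inv_mem
        (hT (syT0_mem ht1))) hh) hk, ?_⟩
      rw [mul_smul, mul_smul, hk5, ← hbe, inv_smul_eq_iff]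
      exact ht1b.symm
    intro q
    obtain ⟨c, hc24, rfl⟩ := exists_ptN q
    by_cases hcO : c ∈ sy_O0
    · obtain ⟨t2, ht2, ht2c⟩ := exists_oct c hcO
      exact ⟨⟨t2, syT_le ht2⟩, hT (syT0_mem ht2), ht2c⟩
    · obtain ⟨t2, ht2, -, ht2c⟩ := exists_conn c hc24
      rw [rep_eq_zero_of_not_mem c hc24 hcO] at ht2c
      obtain ⟨k, hk, hk5⟩ := h50
      refine ⟨(⟨t2, syT_le ht2⟩ : ↥M24) * k, H.mul_mem (hT (syT0_mem ht2)) hk, ?_⟩
      rw [mul_smul, hk5]
      exact ht2c
  · left
    push Not at hc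
    intro h hh
    apply Finset.eq_of_subset_of_card_le
    · intro q hq
      rw [Finset.mem_smul_finset] at hq
      obtain ⟨p, hp, rfl⟩ := hq
      obtain ⟨a, ha, rfl⟩ := mem_ptSet.mp hp
      exact hc h hh a ha
    · rw [Finset.card_smul_finset]

/-! ### the point stabilizer of a transitive subgroup containing `syT0` -/

/-- the hypotheses of `M23Idx.core` hold for the stabilizer of `ptN 5` -/
theorem stab_hfix (H : Subgroup ↥M24) :
    ∀ k ∈ H ⊓ stabilizer M24 (ptN 5), (k : ↥M24) • ptN 5 = ptN 5 :=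
  fun _ hk => mem_stabilizer_iff.mp (Subgroup.mem_inf.mp hk).2

theorem stab_hT {H : Subgroup ↥M24} (hT : syT0 ≤ H) :
    ∀ t (ht : t ∈ syT), t (ptN 5) = ptN 5 →
      (⟨t, syT_le ht⟩ : ↥M24) ∈ H ⊓ stabilizer M24 (ptN 5) :=
  fun _ ht h5 => Subgroup.mem_inf.mpr ⟨hT (syT0_mem ht), mem_stabilizer_iff.mpr h5⟩

theorem card_eq_mul_stab {H : Subgroup ↥M24} (htr : ∀ q : GolayPt, ∃ h ∈ H, h • ptN 5 = q) :
    Nat.card H = 24 * Nat.card ↥(H ⊓ stabilizer M24 (ptN 5)) := by
  have h := card_eq_orbit_mul_card_inf_stabilizer' H (ptN 5)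
  have horb : orbit H (ptN 5) = Set.univ := by
    ext q
    constructor
    · intro _; trivial
    · intro _
      obtain ⟨k, hk, hkq⟩ := htr q
      exact ⟨⟨k, hk⟩, hkq⟩
  rw [horb, Set.ncard_univ, natCard_golayPt] at h
  exact h

/-- the possible shapes of the orbit of `ptN 0` under a subgroup `K` of the stabilizer of `ptN 5`
containing the stabilizer of `ptN 5` in `syT`: its length `m` and the list `L` of the points
outside the orbit, other than `ptN 5` -/
def orbitShapes : List (ℕ × List ℕ) :=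
  [(16, [19, 17, 21, 8, 10, 12, 20]), (20, [19, 17, 21]), (18, [19, 8, 10, 12, 20]), (22, [19]),
   (17, [17, 21, 8, 10, 12, 20]), (21, [17, 21]), (19, [8, 10, 12, 20]), (23, [])]

theorem orbit_cases {K : Subgroup ↥M24} (hfix : ∀ k ∈ K, (k : ↥M24) • ptN 5 = ptN 5)
    (hT : ∀ t (ht : t ∈ syT), t (ptN 5) = ptN 5 → (⟨t, syT_le ht⟩ : ↥M24) ∈ K) :
    ∃ (m : ℕ) (L : List ℕ), (m, L) ∈ orbitShapes ∧ (orbit K (ptN 0)).ncard = m ∧
      m ∣ Nat.card K ∧ K ≤ stabilizer M24 (ptN 5) ⊓ stabilizer M24 (ptSet L) ∧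
      ∀ p : GolayPt, p ∈ orbit K (ptN 0) ↔ (p ≠ ptN 5 ∧ p ∉ ptSet L) := by
  have hn := ncard_orbit_eq hfix hT
  have hsel := inO_eq_sel hfix hT
  have hdvd : (orbit K (ptN 0)).ncard ∣ Nat.card K := by
    have := card_eq_orbit_mul_card_inf_stabilizer' K (ptN 0)
    exact ⟨_, this⟩
  have key : ∀ (m : ℕ) (L : List ℕ), (orbit K (ptN 0)).ncard = m → (∀ b ∈ L, b < 24) →
      (∀ a, a < 24 → (a ∈ L ↔ (inO K a = false ∧ a ≠ 5))) →
      (orbit K (ptN 0)).ncard = m ∧ m ∣ Nat.card K ∧
        K ≤ stabilizer M24 (ptN 5) ⊓ stabilizer M24 (ptSet L) ∧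
        ∀ p : GolayPt, p ∈ orbit K (ptN 0) ↔ (p ≠ ptN 5 ∧ p ∉ ptSet L) := by
    intro m L hm hL h
    refine ⟨hm, hm ▸ hdvd, le_stab_of_list hfix L hL h, ?_⟩
    intro p
    obtain ⟨a, ha, rfl⟩ := exists_ptN p
    have h5 : ptN a ≠ ptN 5 ↔ a ≠ 5 :=
      ⟨fun h1 h2 => h1 (by rw [h2]), fun h1 h2 => h1 (ptN_inj ha (by norm_num) h2)⟩
    have hL' : ptN a ∈ ptSet L ↔ a ∈ L := by
      rw [mem_ptSet]
      constructor
      · rintro ⟨b, hb, hbe⟩
        have hba : b = a := ptN_inj (hL b hb) ha hbe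
        exact hba ▸ hb
      · intro h1
        exact ⟨a, h1, rfl⟩
    rw [h5, hL', h a ha, ← inO_iff]
    by_cases h1 : a = 5
    · subst h1
      simp [inO_five hfix]
    · cases h2 : inO K a <;> simp [h1]
  cases h19 : inO K 19 <;> cases h17 : inO K 17 <;> cases h8 : inO K 8 <;>
    rw [h19, h17, h8] at hn hsel
  · exact ⟨16, [19, 17, 21, 8, 10, 12, 20], by decide, key _ _ (by simpa using hn) (by decide) (by
      intro a ha
      rw [hsel a ha]
      revert a
      decide)⟩
  · exact ⟨20, [19, 17, 21], by decide, key _ _ (by simpa using hn) (by decide) (by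
      intro a ha
      rw [hsel a ha]
      revert a
      decide)⟩
  · exact ⟨18, [19, 8, 10, 12, 20], by decide, key _ _ (by simpa using hn) (by decide) (by
      intro a ha
      rw [hsel a ha]
      revert a
      decide)⟩
  · exact ⟨22, [19], by decide, key _ _ (by simpa using hn) (by decide) (by
      intro a ha
      rw [hsel a ha]
      revert a
      decide)⟩
  · exact ⟨17, [17, 21, 8, 10, 12, 20], by decide, key _ _ (by simpa using hn) (by decide) (by
      intro a ha
      rw [hsel a ha]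
      revert a
      decide)⟩
  · exact ⟨21, [17, 21], by decide, key _ _ (by simpa using hn) (by decide) (by
      intro a ha
      rw [hsel a ha]
      revert a
      decide)⟩
  · exact ⟨19, [8, 10, 12, 20], by decide, key _ _ (by simpa using hn) (by decide) (by
      intro a ha
      rw [hsel a ha]
      revert a
      decide)⟩
  · exact ⟨23, [], by decide, key _ _ (by simpa using hn) (by decide) (by
      intro a ha
      rw [hsel a ha]
      revert a
      decide)⟩

/-! ### the trio bound -/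

theorem disjoint_of_cover {X Y Z : Finset GolayPt} (hX : X.card = 8) (hY : Y.card = 8)
    (hZ : Z.card = 8) (hcov : ∀ q : GolayPt, q ∈ X ∨ q ∈ Y ∨ q ∈ Z) : Disjoint X Y := by
  have huniv : X ∪ Y ∪ Z = Finset.univ := by
    ext q
    simp only [Finset.mem_union, Finset.mem_univ, iff_true]
    rcases hcov q with h | h | h
    · exact Or.inl (Or.inl h)
    · exact Or.inl (Or.inr h)
    · exact Or.inr h
  have h24 : (X ∪ Y ∪ Z).card = 24 := by
    rw [huniv, Finset.card_univ]
    rfl
  have h1 := Finset.card_union_le (X ∪ Y) Z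
  have h2 := Finset.card_union_add_card_inter X Y
  rw [Finset.disjoint_iff_inter_eq_empty, ← Finset.card_eq_zero]
  omega

/-- a transitive subgroup containing `syT0` whose point stabilizer stabilizes the octad `sy_O0`
stabilizes a trio, hence has order at most 64512 -/
theorem card_le_of_stab_le_octad {H : Subgroup ↥M24} (hT : syT0 ≤ H)
    (htr : ∀ q : GolayPt, ∃ h ∈ H, h • ptN 5 = q)
    (hst : H ⊓ stabilizer M24 (ptN 5) ≤ stabilizer M24 (ptSet sy_O0)) :
    Nat.card H ≤ 64512 := by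
  have hoct : ptSet sy_O0 ∈ octads := sy_base_check.1.mem
  have h5 : ptN 5 ∈ ptSet sy_O0 := mem_ptSet.mpr ⟨5, by decide, rfl⟩
  have hP := card_eq_orbit_mul_card_inf_stabilizer' (H ⊓ stabilizer M24 (ptSet sy_O0)) (ptN 5)
  have horbP : orbit ↥(H ⊓ stabilizer M24 (ptSet sy_O0)) (ptN 5) =
      ((ptSet sy_O0 : Finset GolayPt) : Set GolayPt) := by
    ext q
    constructor
    · rintro ⟨k, rfl⟩
      have hk : (k : ↥M24) • ptSet sy_O0 = ptSet sy_O0 :=
        mem_stabilizer_iff.mp (Subgroup.mem_inf.mp k.2).2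
      have h6 := Finset.smul_mem_smul_finset (a := (k : ↥M24)) h5
      rw [hk] at h6
      exact h6
    · intro hq
      obtain ⟨a, ha, rfl⟩ := mem_ptSet.mp (Finset.mem_coe.mp hq)
      obtain ⟨t, ht, hta⟩ := exists_oct a ha
      exact ⟨⟨⟨t, syT_le ht⟩, Subgroup.mem_inf.mpr ⟨hT (syT0_mem ht),
        mem_stabilizer_iff.mpr (mem_syT.mp ht).2.2.1⟩⟩, hta⟩
  have hPa : (H ⊓ stabilizer M24 (ptSet sy_O0)) ⊓ stabilizer M24 (ptN 5) =
      H ⊓ stabilizer M24 (ptN 5) := by
    apply le_antisymm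
    · exact inf_le_inf_right _ inf_le_left
    · exact le_inf (le_inf inf_le_left hst) inf_le_right
  rw [horbP, Set.ncard_coe_finset, card_ptSet sy_O0_good, hPa] at hP
  have h8 : sy_O0.length = 8 := rfl
  rw [h8] at hP
  have hH := card_eq_mul_stab htr
  have hO := card_eq_orbit_mul_card_inf_stabilizer' H (ptSet sy_O0)
  have hpos : 0 < Nat.card ↥(H ⊓ stabilizer M24 (ptN 5)) := Nat.card_pos
  have h3 : (orbit H (ptSet sy_O0)).ncard = 3 := by
    rw [hP, hH] at hO
    have h4 : 3 * (8 * Nat.card ↥(H ⊓ stabilizer M24 (ptN 5))) =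
        (orbit H (ptSet sy_O0)).ncard * (8 * Nat.card ↥(H ⊓ stabilizer M24 (ptN 5))) := by
      rw [← hO]; ring
    exact (Nat.eq_of_mul_eq_mul_right (by omega) h4).symm
  clear hP hO hH horbP hPa hst h8 hpos
  generalize ptSet sy_O0 = O at *
  obtain ⟨A, B, C, hAB, hAC, hBC, hABC⟩ := Set.ncard_eq_three.mp h3
  have hmemO : ∀ X, X ∈ orbit H O ↔ X = A ∨ X = B ∨ X = C := by
    intro X
    rw [hABC]
    simp
  have horb_oct : ∀ X, X ∈ orbit H O → X ∈ octads := by
    rintro _ ⟨k, rfl⟩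
    exact smul_mem_octads (k : ↥M24).2 hoct
  have hA : A ∈ octads := horb_oct A ((hmemO A).mpr (Or.inl rfl))
  have hB : B ∈ octads := horb_oct B ((hmemO B).mpr (Or.inr (Or.inl rfl)))
  have hC : C ∈ octads := horb_oct C ((hmemO C).mpr (Or.inr (Or.inr rfl)))
  have hcov : ∀ q : GolayPt, q ∈ A ∨ q ∈ B ∨ q ∈ C := by
    intro q
    obtain ⟨k, hk, rfl⟩ := htr q
    have h1 : k • ptN 5 ∈ k • O := Finset.smul_mem_smul_finset h5
    have h2 : k • O ∈ orbit H O := ⟨⟨k, hk⟩, rfl⟩
    rcases (hmemO _).mp h2 with h | h | h <;> rw [h] at h1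
    · exact Or.inl h1
    · exact Or.inr (Or.inl h1)
    · exact Or.inr (Or.inr h1)
  have cA : A.card = 8 := hA.2
  have cB : B.card = 8 := hB.2
  have cC : C.card = 8 := hC.2
  have dAB : Disjoint A B := disjoint_of_cover cA cB cC hcov
  have dAC : Disjoint A C := disjoint_of_cover cA cC cB (fun q => by
    rcases hcov q with h | h | h
    · exact Or.inl h
    · exact Or.inr (Or.inr h)
    · exact Or.inr (Or.inl h))
  have dBC : Disjoint B C := disjoint_of_cover cB cC cA (fun q => by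
    rcases hcov q with h | h | h
    · exact Or.inr (Or.inr h)
    · exact Or.inl h
    · exact Or.inr (Or.inl h))
  have hTmem : ∀ X, X ∈ ({A, B, C} : Finset (Finset GolayPt)) ↔ X = A ∨ X = B ∨ X = C := by
    intro X
    simp
  have hcard3 : ({A, B, C} : Finset (Finset GolayPt)).card = 3 := by
    rw [Finset.card_insert_of_notMem (by
      rw [Finset.mem_insert, Finset.mem_singleton]
      rintro (h | h)
      · exact hAB h
      · exact hAC h), Finset.card_insert_of_notMem (by
      rw [Finset.mem_singleton]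
      exact hBC), Finset.card_singleton]
  have htrio : ({A, B, C} : Finset (Finset GolayPt)) ∈ trios := by
    refine ⟨hcard3, ?_, ?_⟩
    · intro o ho
      rcases (hTmem o).mp ho with rfl | rfl | rfl
      · exact hA
      · exact hB
      · exact hC
    · intro o ho o' ho' hne
      rcases (hTmem o).mp ho with rfl | rfl | rfl <;>
        rcases (hTmem o').mp ho' with rfl | rfl | rfl
      · exact absurd rfl hne
      · exact dAB
      · exact dAC
      · exact dAB.symm
      · exact absurd rfl hne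
      · exact dBC
      · exact dAC.symm
      · exact dBC.symm
      · exact absurd rfl hne
  have hle : H ≤ stabilizer M24 ({A, B, C} : Finset (Finset GolayPt)) := by
    intro k hk
    rw [mem_stabilizer_iff]
    apply Finset.eq_of_subset_of_card_le
    · intro X hX
      rw [Finset.mem_smul_finset] at hX
      obtain ⟨Y, hY, rfl⟩ := hX
      have hYo : Y ∈ orbit H O := (hmemO Y).mpr ((hTmem Y).mp hY)
      obtain ⟨c, hc⟩ := hYo
      have h7 : k • Y ∈ orbit H O := by
        refine ⟨⟨k, hk⟩ * c, ?_⟩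
        show ((⟨k, hk⟩ * c : ↥H) : ↥M24) • O = k • Y
        rw [Subgroup.coe_mul, mul_smul]
        congr 1
      exact (hTmem _).mpr ((hmemO _).mp h7)
    · rw [Finset.card_smul_finset]
  calc Nat.card H ≤ Nat.card (stabilizer M24 ({A, B, C} : Finset (Finset GolayPt))) :=
        Subgroup.card_le_of_le hle
    _ = 64512 := card_stabilizer_trio htrio

end Cfsg.Agent.H26.M24Idx
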