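import Mathlib
import Cfsg.Prelude.Def_GeometricClasses

/-!
# EVEN ORTHOGONAL ROWS, OE-F5CORE piece P2 (QEXT) (helper26): the quadratic extension `K[J]` of a field subalgebra

`exists_quadExt`: `K` a field subalgebra of degree `r`, `J` a matrix commuting with `K`, `J² = βJ − γ` with `β, γ ∈ K`, the
binary form `x² + βxy + γy²` anisotropic over `K`.  Then `K₂ = {a + bJ}` is a field subalgebra of degree `2r`.
Exact signature of notes/OEField5Skel_helper17.lean.txt.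
-/

set_option autoImplicit false

namespace Cfsg.Agent.Lib.Helper26.OEField5P2

open Matrix Module Cfsg.Geo

variable {F : Type*} [Field F] {ι : Type} [Fintype ι] [DecidableEq ι]

/-- the product formula in `K[J]` -/
theorem mul_formula (K : Subalgebra F (Matrix ι ι F)) (Jm β γ : Matrix ι ι F)
    (hKc : ∀ x ∈ K, ∀ y ∈ K, x * y = y * x) (hβ : β ∈ K) (hγ : γ ∈ K)
    (hcomm : ∀ k ∈ K, k * Jm = Jm * k) (hJ2 : Jm * Jm = β * Jm - γ)
    {a b a' b' : Matrix ι ι F} (ha : a ∈ K) (hb : b ∈ K) (ha' : a' ∈ K) (hb' : b' ∈ K) :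
    (a + b * Jm) * (a' + b' * Jm) = (a * a' - γ * (b * b')) + (a * b' + b * a' + β * (b * b')) * Jm := by
  have h1 : Jm * a' = a' * Jm := (hcomm a' ha').symm
  have h2 : Jm * b' = b' * Jm := (hcomm b' hb').symm
  have hbb : b * b' ∈ K := K.mul_mem hb hb'
  have h3 : b * b' * β = β * (b * b') := hKc _ hbb _ hβ
  have h4 : b * b' * γ = γ * (b * b') := hKc _ hbb _ hγ
  calc (a + b * Jm) * (a' + b' * Jm)
      = a * a' + a * b' * Jm + b * (Jm * a') + b * (Jm * b') * Jm := by noncomm_ring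
    _ = a * a' + a * b' * Jm + b * a' * Jm + b * b' * (Jm * Jm) := by rw [h1, h2]; noncomm_ring
    _ = a * a' + a * b' * Jm + b * a' * Jm + (b * b' * β * Jm - b * b' * γ) := by rw [hJ2]; noncomm_ring
    _ = (a * a' - γ * (b * b')) + (a * b' + b * a' + β * (b * b')) * Jm := by rw [h3, h4]; noncomm_ring

/-- `K[J]` as a subalgebra -/
def quadExt (K : Subalgebra F (Matrix ι ι F)) (Jm β γ : Matrix ι ι F)
    (hKc : ∀ x ∈ K, ∀ y ∈ K, x * y = y * x) (hβ : β ∈ K) (hγ : γ ∈ K)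
    (hcomm : ∀ k ∈ K, k * Jm = Jm * k) (hJ2 : Jm * Jm = β * Jm - γ) : Subalgebra F (Matrix ι ι F) where
  carrier := {m | ∃ a ∈ K, ∃ b ∈ K, m = a + b * Jm}
  mul_mem' := by
    rintro _ _ ⟨a, ha, b, hb, rfl⟩ ⟨a', ha', b', hb', rfl⟩
    refine ⟨a * a' - γ * (b * b'), K.sub_mem (K.mul_mem ha ha') (K.mul_mem hγ (K.mul_mem hb hb')),
      a * b' + b * a' + β * (b * b'),
      K.add_mem (K.add_mem (K.mul_mem ha hb') (K.mul_mem hb ha')) (K.mul_mem hβ (K.mul_mem hb hb')), ?_⟩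
    exact mul_formula K Jm β γ hKc hβ hγ hcomm hJ2 ha hb ha' hb'
  add_mem' := by
    rintro _ _ ⟨a, ha, b, hb, rfl⟩ ⟨a', ha', b', hb', rfl⟩
    refine ⟨a + a', K.add_mem ha ha', b + b', K.add_mem hb hb', ?_⟩
    noncomm_ring
  algebraMap_mem' := by
    intro c
    refine ⟨algebraMap F _ c, K.algebraMap_mem c, 0, K.zero_mem, ?_⟩
    rw [zero_mul, add_zero]

theorem mem_quadExt (K : Subalgebra F (Matrix ι ι F)) (Jm β γ : Matrix ι ι F)
    (hKc : ∀ x ∈ K, ∀ y ∈ K, x * y = y * x) (hβ : β ∈ K) (hγ : γ ∈ K)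
    (hcomm : ∀ k ∈ K, k * Jm = Jm * k) (hJ2 : Jm * Jm = β * Jm - γ) (m : Matrix ι ι F) :
    m ∈ quadExt K Jm β γ hKc hβ hγ hcomm hJ2 ↔ ∃ a ∈ K, ∃ b ∈ K, m = a + b * Jm := Iff.rfl

theorem quadExt_comm (K : Subalgebra F (Matrix ι ι F)) (Jm β γ : Matrix ι ι F)
    (hKc : ∀ x ∈ K, ∀ y ∈ K, x * y = y * x) (hβ : β ∈ K) (hγ : γ ∈ K)
    (hcomm : ∀ k ∈ K, k * Jm = Jm * k) (hJ2 : Jm * Jm = β * Jm - γ) :
    ∀ x ∈ quadExt K Jm β γ hKc hβ hγ hcomm hJ2, ∀ y ∈ quadExt K Jm β γ hKc hβ hγ hcomm hJ2, x * y = y * x := by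
  rintro _ ⟨a, ha, b, hb, rfl⟩ _ ⟨a', ha', b', hb', rfl⟩
  rw [mul_formula K Jm β γ hKc hβ hγ hcomm hJ2 ha hb ha' hb',
    mul_formula K Jm β γ hKc hβ hγ hcomm hJ2 ha' hb' ha hb]
  rw [hKc a ha a' ha', hKc b hb b' hb', hKc a ha b' hb', hKc b hb a' ha', add_comm (b' * a) (a' * b)]

theorem quadExt_inv (K : Subalgebra F (Matrix ι ι F)) (Jm β γ : Matrix ι ι F)
    (hKc : ∀ x ∈ K, ∀ y ∈ K, x * y = y * x) (hβ : β ∈ K) (hγ : γ ∈ K)
    (hcomm : ∀ k ∈ K, k * Jm = Jm * k) (hJ2 : Jm * Jm = β * Jm - γ)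
    (hKinv : ∀ x ∈ K, x ≠ 0 → ∃ y ∈ K, x * y = 1)
    (haniso : ∀ x ∈ K, ∀ y ∈ K, x * x + β * x * y + γ * y * y = 0 → x = 0 ∧ y = 0) :
    ∀ x ∈ quadExt K Jm β γ hKc hβ hγ hcomm hJ2, x ≠ 0 → ∃ y ∈ quadExt K Jm β γ hKc hβ hγ hcomm hJ2, x * y = 1 := by
  rintro _ ⟨a, ha, b, hb, rfl⟩ hne
  have hNK : a * a + β * a * b + γ * b * b ∈ K :=
    K.add_mem (K.add_mem (K.mul_mem ha ha) (K.mul_mem (K.mul_mem hβ ha) hb)) (K.mul_mem (K.mul_mem hγ hb) hb)
  have hN0 : a * a + β * a * b + γ * b * b ≠ 0 := by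
    intro h
    obtain ⟨rfl, rfl⟩ := haniso a ha b hb h
    apply hne
    rw [zero_mul, add_zero]
  obtain ⟨N', hN'K, hNN'⟩ := hKinv _ hNK hN0
  have hc : a + β * b ∈ K := K.add_mem ha (K.mul_mem hβ hb)
  have hnb : -b ∈ K := K.neg_mem hb
  refine ⟨((a + β * b) + (-b) * Jm) * N', ?_, ?_⟩
  · apply Subalgebra.mul_mem
    · exact ⟨a + β * b, hc, -b, hnb, rfl⟩
    · exact ⟨N', hN'K, 0, K.zero_mem, by rw [zero_mul, add_zero]⟩
  · rw [← mul_assoc, mul_formula K Jm β γ hKc hβ hγ hcomm hJ2 ha hb hc hnb]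
    have hab : a * β = β * a := hKc a ha β hβ
    have hba : b * a = a * b := hKc b hb a ha
    have hbβ : b * β = β * b := hKc b hb β hβ
    have e1 : a * (a + β * b) - γ * (b * -b) = a * a + β * a * b + γ * b * b := by
      calc a * (a + β * b) - γ * (b * -b) = a * a + (a * β) * b + γ * b * b := by noncomm_ring
        _ = a * a + β * a * b + γ * b * b := by rw [hab]
    have e2 : a * -b + b * (a + β * b) + β * (b * -b) = 0 := by
      calc a * -b + b * (a + β * b) + β * (b * -b) = -(a * b) + b * a + (b * β) * b - β * b * b := by noncomm_ring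
        _ = 0 := by rw [hba, hbβ]; noncomm_ring
    rw [e1, e2, zero_mul, add_zero, hNN']

theorem quadExt_finrank [Nonempty ι] (K : Subalgebra F (Matrix ι ι F)) (Jm β γ : Matrix ι ι F)
    (hKc : ∀ x ∈ K, ∀ y ∈ K, x * y = y * x) (hβ : β ∈ K) (hγ : γ ∈ K)
    (hcomm : ∀ k ∈ K, k * Jm = Jm * k) (hJ2 : Jm * Jm = β * Jm - γ)
    (hKinv : ∀ x ∈ K, x ≠ 0 → ∃ y ∈ K, x * y = 1)
    (haniso : ∀ x ∈ K, ∀ y ∈ K, x * x + β * x * y + γ * y * y = 0 → x = 0 ∧ y = 0)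
    (r : ℕ) (hr : finrank F K = r) :
    finrank F (quadExt K Jm β γ hKc hβ hγ hcomm hJ2) = 2 * r := by
  let φ : (K × K) →ₗ[F] Matrix ι ι F :=
    (K.val.toLinearMap).coprod ((LinearMap.mulRight F Jm).comp K.val.toLinearMap)
  have hφ : ∀ p : K × K, φ p = (p.1 : Matrix ι ι F) + (p.2 : Matrix ι ι F) * Jm := fun p => by
    simp [φ]
  have hinj : Function.Injective φ := by
    rw [injective_iff_map_eq_zero]
    rintro ⟨⟨a, ha⟩, ⟨b, hb⟩⟩ h0
    rw [hφ] at h0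
    simp only at h0
    by_cases hb0 : b = 0
    · subst hb0
      rw [zero_mul, add_zero] at h0
      subst h0
      rfl
    · exfalso
      obtain ⟨b', hb'K, hbb'⟩ := hKinv b hb hb0
      have hb'b : b' * b = 1 := by rw [hKc b' hb'K b hb]; exact hbb'
      have hJ : Jm = -(b' * a) := by
        have h1 : b * Jm = -a := by
          rw [eq_neg_iff_add_eq_zero, add_comm]; exact h0
        calc Jm = (b' * b) * Jm := by rw [hb'b, one_mul]
          _ = b' * (b * Jm) := by rw [mul_assoc]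
          _ = -(b' * a) := by rw [h1, mul_neg]
      have hjK : -(b' * a) ∈ K := K.neg_mem (K.mul_mem hb'K ha)
      have h1K : (-1 : Matrix ι ι F) ∈ K := K.neg_mem K.one_mem
      have hJ2' := hJ2
      rw [hJ] at hJ2'
      have hz : -(b' * a) * -(b' * a) + β * -(b' * a) * (-1) + γ * (-1) * (-1) = 0 := by
        rw [hJ2']; noncomm_ring
      have := (haniso _ hjK _ h1K hz).2
      exact (neg_ne_zero.mpr (one_ne_zero (α := Matrix ι ι F))) this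
  have hrange : LinearMap.range φ = Subalgebra.toSubmodule (quadExt K Jm β γ hKc hβ hγ hcomm hJ2) := by
    ext m
    rw [LinearMap.mem_range, Subalgebra.mem_toSubmodule, mem_quadExt]
    constructor
    · rintro ⟨p, rfl⟩
      exact ⟨p.1, p.1.2, p.2, p.2.2, hφ p⟩
    · rintro ⟨a, ha, b, hb, rfl⟩
      exact ⟨(⟨a, ha⟩, ⟨b, hb⟩), hφ _⟩
  calc finrank F (quadExt K Jm β γ hKc hβ hγ hcomm hJ2)
      = finrank F (Subalgebra.toSubmodule (quadExt K Jm β γ hKc hβ hγ hcomm hJ2)) := rfl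
    _ = finrank F (LinearMap.range φ) := by rw [hrange]
    _ = finrank F (K × K) := LinearMap.finrank_range_of_inj hinj
    _ = 2 * r := by rw [Module.finrank_prod, hr]; ring

/-- **P2 (QEXT)**: `K[J]` is a field subalgebra of degree `2r`. -/
theorem exists_quadExt [Nonempty ι] (r : ℕ) (K : Subalgebra F (Matrix ι ι F)) (hK : IsFieldSubalgebra r K)
    (Jm β γ : Matrix ι ι F) (hβ : β ∈ K) (hγ : γ ∈ K)
    (hcomm : ∀ k ∈ K, k * Jm = Jm * k) (hJ2 : Jm * Jm = β * Jm - γ)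
    (haniso : ∀ x ∈ K, ∀ y ∈ K, x * x + β * x * y + γ * y * y = 0 → x = 0 ∧ y = 0) :
    ∃ K₂ : Subalgebra F (Matrix ι ι F),
      (∀ m, m ∈ K₂ ↔ ∃ a ∈ K, ∃ b ∈ K, m = a + b * Jm) ∧ IsFieldSubalgebra (2 * r) K₂ :=
  ⟨quadExt K Jm β γ hK.comm hβ hγ hcomm hJ2, fun _ => Iff.rfl,
    ⟨quadExt_comm K Jm β γ hK.comm hβ hγ hcomm hJ2,
      quadExt_inv K Jm β γ hK.comm hβ hγ hcomm hJ2 hK.inv haniso,
      quadExt_finrank K Jm β γ hK.comm hβ hγ hcomm hJ2 hK.inv haniso r hK.finrank_eq⟩⟩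

end Cfsg.Agent.Lib.Helper26.OEField5P2
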