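import Mathlib
import Cfsg.Agent.Lib.Helper28.OTDefs

/-!
# S5681 / S5709 (`O_a ⊗ O_b`), pieces ROOT-B + END-TS (helper26)

(e) `finrank_Lp`, (f) `Rg_nL`, (g) `yL_mem_kron`, (k) `Lp_ts`, (l) `Rg_conj`, (m) `img_ts`, END-TS `ts_of_tW_ts`:
exact signatures of notes/S5681Skel_helper28.lean.txt.
-/

set_option autoImplicit false
set_option linter.unusedSectionVars false
set_option linter.unusedVariables false

namespace Cfsg.Agent.Lib.Helper26.OTROOTB

open Matrix Module
open Cfsg.Agent.Lib.Helper16.Tens Cfsg.Agent.Lib.Helper10.TensFund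
open Cfsg.Agent.Lib.Helper3.SpT (bf E adj uni Over bf_add_left bf_add_right bf_smul_left bf_smul_right bf_sub_left
  bf_kron_pur pur_induction uni_val)
open Cfsg.Agent.Lib.Helper13.TensSO (OrthG IsoG)
open Cfsg.Agent.Lib.Helper28.OT
open scoped Kronecker

variable {F : Type*} [Field F] [Fintype F] {a b : ℕ}
variable {J1 : Matrix (Fin a) (Fin a) F} {J2 : Matrix (Fin b) (Fin b) F}

/-! ## the dimension of `U ⊗ W'` -/

/-- the map `(Fin a → W') → V`, `f ↦ ((i,j) ↦ f i j)` -/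
def rowMap (W' : Submodule F (Fin b → F)) : (Fin a → W') →ₗ[F] (Fin a × Fin b → F) where
  toFun f := fun p => ((f p.1 : W') : Fin b → F) p.2
  map_add' f g := by
    funext p
    simp
  map_smul' c f := by
    funext p
    simp

theorem rowMap_apply (W' : Submodule F (Fin b → F)) (f : Fin a → W') (p : Fin a × Fin b) :
    rowMap (a := a) W' f p = ((f p.1 : W') : Fin b → F) p.2 := rfl

theorem rowMap_injective (W' : Submodule F (Fin b → F)) : Function.Injective (rowMap (a := a) W') := by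
  rw [injective_iff_map_eq_zero]
  intro f hf
  funext i
  apply Subtype.ext
  funext j
  have := congrFun hf (i, j)
  rw [rowMap_apply] at this
  exact this

theorem range_rowMap (W' : Submodule F (Fin b → F)) : LinearMap.range (rowMap (a := a) W') = tW (a := a) W' := by
  apply le_antisymm
  · rintro _ ⟨f, rfl⟩
    have h : rowMap (a := a) W' f = ∑ i : Fin a, pur (Pi.single i (1 : F)) ((f i : W') : Fin b → F) := by
      funext ⟨i0, j0⟩
      rw [rowMap_apply, Finset.sum_apply]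
      simp only [pur_apply]
      rw [Finset.sum_eq_single i0]
      · simp
      · intro i _ hi
        simp [Ne.symm hi]
      · simp
    rw [h]
    exact Submodule.sum_mem _ fun i _ => pur_mem_tW _ (f i).2
  · unfold tW
    rw [Submodule.span_le]
    rintro _ ⟨u, w, hw, rfl⟩
    refine ⟨fun i => u i • (⟨w, hw⟩ : W'), ?_⟩
    funext ⟨i, j⟩
    rw [rowMap_apply, pur_apply]
    simp

theorem finrank_tW' (W' : Submodule F (Fin b → F)) : finrank F (tW (a := a) W') = a * finrank F W' := by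
  rw [← range_rowMap, LinearMap.finrank_range_of_inj (rowMap_injective W'), Module.finrank_pi_fintype]
  simp

/-! ## bilinear vanishing on spans -/

theorem bf_zero_left {κ : Type} [Fintype κ] (J : Matrix κ κ F) (y : κ → F) : bf J 0 y = 0 := by
  unfold bf
  rw [zero_dotProduct]

theorem bf_zero_right {κ : Type} [Fintype κ] (J : Matrix κ κ F) (x : κ → F) : bf J x 0 = 0 := by
  unfold bf
  rw [Matrix.mulVec_zero, dotProduct_zero]

theorem bf_zero_of_span {κ : Type} [Fintype κ] (J : Matrix κ κ F) (S : Set (κ → F))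
    (h : ∀ x ∈ S, ∀ y ∈ S, bf J x y = 0) :
    ∀ x ∈ Submodule.span F S, ∀ y ∈ Submodule.span F S, bf J x y = 0 := by
  intro x hx y hy
  induction hx using Submodule.span_induction with
  | mem x hxS =>
    induction hy using Submodule.span_induction with
    | mem y hyS => exact h x hxS y hyS
    | zero => exact bf_zero_right J x
    | add y1 y2 _ _ h1 h2 => rw [bf_add_right, h1, h2, add_zero]
    | smul c y1 _ h1 => rw [bf_smul_right, h1, mul_zero]
  | zero => exact bf_zero_left J y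
  | add x1 x2 _ _ h1 h2 => rw [bf_add_left, h1, h2, add_zero]
  | smul c x1 _ h1 => rw [bf_smul_left, h1, mul_zero]

theorem span_ts (hJ2 : OrthG J2) {k1 k2 : Fin b → F} (h : Ts2 J2 k1 k2) :
    ∀ x ∈ Submodule.span F {k1, k2}, ∀ y ∈ Submodule.span F {k1, k2}, bf J2 x y = 0 := by
  apply bf_zero_of_span
  rintro x (rfl | rfl) y (rfl | rfl)
  · exact h.h11
  · exact h.h12
  · rw [hJ2.symm]; exact h.h12
  · exact h.h22

/-- ROOT (k) : `U ⊗ π` is totally singular -/
theorem Lp_ts (hJ1 : OrthG J1) (hJ2 : OrthG J2) {k1 k2 : Fin b → F} (h : Ts2 J2 k1 k2) :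
    ∀ x ∈ Lp (a := a) k1 k2, ∀ y ∈ Lp (a := a) k1 k2, bf (J1 ⊗ₖ J2) x y = 0 := by
  unfold Lp tW
  apply bf_zero_of_span
  rintro _ ⟨u, w, hw, rfl⟩ _ ⟨u', w', hw', rfl⟩
  rw [bf_kron_pur, span_ts hJ2 h w hw w' hw', mul_zero]

/-- ROOT (e) -/
theorem finrank_Lp (hJ2 : OrthG J2) {k1 k2 : Fin b → F} (h : Ts2 J2 k1 k2) : finrank F (Lp (a := a) k1 k2) = 2 * a := by
  unfold Lp
  rw [finrank_tW']
  have hli : LinearIndependent F ![k1, k2] := LinearIndependent.pair_iff.mpr h.indep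
  have h2 : finrank F (Submodule.span F {k1, k2}) = 2 := by
    have h3 : finrank F (Submodule.span F (Set.range ![k1, k2])) = 2 := by
      rw [finrank_span_eq_card hli]; rfl
    have hr : Set.range ![k1, k2] = {k1, k2} := by
      ext z
      simp only [Set.mem_range, Set.mem_insert_iff, Set.mem_singleton_iff]
      constructor
      · rintro ⟨i, rfl⟩
        fin_cases i
        · left; rfl
        · right; rfl
      · rintro (rfl | rfl)
        · exact ⟨0, rfl⟩
        · exact ⟨1, rfl⟩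
    rw [hr] at h3
    exact h3
  rw [h2, mul_comm]

/-! ## the range of `nL` -/

theorem nL_mulVec_pur (k1 k2 : Fin b → F) (u : Fin a → F) (w : Fin b → F) :
    nL (a := a) J2 k1 k2 *ᵥ pur u w = pur u (T2 J2 k1 k2 *ᵥ w) := by
  unfold nL
  rw [kron_mulVec_pur, Matrix.one_mulVec]

theorem exists_bf_one (hJ2 : OrthG J2) {k : Fin b → F} (hk : k ≠ 0) : ∃ w, bf J2 w k = 1 := by
  by_contra hcon
  push Not at hcon
  apply hk
  apply hJ2.nondeg
  intro y
  by_contra hy
  apply hcon ((bf J2 k y)⁻¹ • y)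
  rw [bf_smul_left, hJ2.symm y k, inv_mul_cancel₀ hy]

theorem exists_dual_pair (hJ2 : OrthG J2) {k1 k2 : Fin b → F} (h : Ts2 J2 k1 k2) (α β : F) :
    ∃ w, bf J2 w k1 = α ∧ bf J2 w k2 = β := by
  have hk1 : k1 ≠ 0 := by
    intro h0
    have := (h.indep 1 0 (by rw [h0]; simp)).1
    exact one_ne_zero this
  obtain ⟨w1, hw1⟩ := exists_bf_one hJ2 hk1
  set lam := bf J2 w1 k2 with hlam
  have hk2' : k2 - lam • k1 ≠ 0 := by
    intro h0
    have h1 : (-lam) • k1 + (1 : F) • k2 = 0 := by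
      rw [one_smul, neg_smul, neg_add_eq_sub]; exact h0
    exact one_ne_zero (h.indep _ _ h1).2
  obtain ⟨w2, hw2⟩ := exists_bf_one hJ2 hk2'
  set mu := bf J2 w2 k1 with hmu
  have hw2' : bf J2 w2 k2 - lam * mu = 1 := by
    have : bf J2 w2 (k2 - lam • k1) = bf J2 w2 k2 - lam * mu := by
      rw [Cfsg.Agent.Lib.Helper3.SpT.bf_sub_right, bf_smul_right]
    rw [← this]; exact hw2
  refine ⟨α • (w1 - lam • (w2 - mu • w1)) + β • (w2 - mu • w1), ?_, ?_⟩
  · simp only [bf_add_left, bf_smul_left, bf_sub_left, hw1, ← hmu]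
    ring
  · simp only [bf_add_left, bf_smul_left, bf_sub_left, ← hlam]
    linear_combination (β - α * lam) * hw2'

/-- ROOT (f) -/
theorem Rg_nL (hJ2 : OrthG J2) {k1 k2 : Fin b → F} (h : Ts2 J2 k1 k2) (c : F) (hc : c ≠ 0) :
    Rg (c • nL (a := a) J2 k1 k2) = Lp (a := a) k1 k2 := by
  apply le_antisymm
  · intro v hv
    obtain ⟨x, rfl⟩ := (mem_Rg_iff _ _).1 hv
    refine pur_induction (p := fun x => (c • nL (a := a) J2 k1 k2) *ᵥ x ∈ Lp (a := a) k1 k2) ?_ ?_ ?_ x
    · simp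
    · intro x y hx hy
      rw [Matrix.mulVec_add]
      exact Submodule.add_mem _ hx hy
    · intro u w
      rw [Matrix.smul_mulVec, nL_mulVec_pur, T2_mulVec]
      apply Submodule.smul_mem
      apply pur_mem_tW
      apply Submodule.sub_mem
      · exact Submodule.smul_mem _ _ (Submodule.subset_span (by simp))
      · exact Submodule.smul_mem _ _ (Submodule.subset_span (by simp))
  · unfold Lp tW
    rw [Submodule.span_le]
    rintro _ ⟨u, w, hw, rfl⟩
    obtain ⟨α, β, rfl⟩ := Submodule.mem_span_pair.mp hw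
    obtain ⟨w0, hw01, hw02⟩ := exists_dual_pair hJ2 h (-(c⁻¹ * β)) (c⁻¹ * α)
    apply (mem_Rg_iff _ _).2
    refine ⟨pur u w0, ?_⟩
    rw [Matrix.smul_mulVec, nL_mulVec_pur, T2_mulVec, hw01, hw02, ← pur_smul_right]
    congr 1
    funext j
    simp only [Pi.smul_apply, Pi.sub_apply, Pi.add_apply, smul_eq_mul]
    field_simp
    ring

/-- ROOT (g) -/
theorem yL_mem_kron (hJ2 : OrthG J2) {k1 k2 : Fin b → F} (h : Ts2 J2 k1 k2) (c : F) :
    yL (a := a) hJ2 h c ∈ Cfsg.Geo.kroneckerSubgroup a b F := by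
  have hsq : (c • T2 J2 k1 k2) * (c • T2 J2 k1 k2) = 0 := by
    rw [Matrix.smul_mul, Matrix.mul_smul, T2_sq hJ2 h]
    simp
  refine ⟨1, uni (c • T2 J2 k1 k2) hsq, ?_⟩
  rw [yL_val, Units.val_one, uni_val]
  unfold nL
  rw [Matrix.kronecker_add, Matrix.kronecker_smul, Matrix.one_kronecker_one]

/-- ROOT (l) -/
theorem Rg_conj (g : GL (Fin a × Fin b) F) (n : Matrix (Fin a × Fin b) (Fin a × Fin b) F) :
    Rg ((g : Matrix (Fin a × Fin b) (Fin a × Fin b) F) * n * ((g⁻¹ : GL (Fin a × Fin b) F) : Matrix (Fin a × Fin b) (Fin a × Fin b) F)) =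
      img g (Rg n) := by
  ext v
  rw [mem_Rg_iff, mem_img_iff, mem_Rg_iff]
  constructor
  · rintro ⟨x, rfl⟩
    refine ⟨((g⁻¹ : GL (Fin a × Fin b) F) : Matrix (Fin a × Fin b) (Fin a × Fin b) F) *ᵥ x, ?_⟩
    rw [act_apply, Matrix.mulVec_mulVec, Matrix.mulVec_mulVec, ← mul_assoc, ← mul_assoc, ← Units.val_mul, inv_mul_cancel,
      Units.val_one, one_mul]
  · rintro ⟨x, hx⟩
    refine ⟨(g : Matrix (Fin a × Fin b) (Fin a × Fin b) F) *ᵥ x, ?_⟩
    rw [Matrix.mulVec_mulVec, mul_assoc, ← Units.val_mul, inv_mul_cancel, Units.val_one, mul_one, ← Matrix.mulVec_mulVec, hx,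
      ← act_apply, act_act_inv]

/-- ROOT (m) -/
theorem img_ts (g : GL (Fin a × Fin b) F) (hg : g ∈ IsoG (J1 ⊗ₖ J2)) (L : Submodule F (Fin a × Fin b → F))
    (hL : ∀ x ∈ L, ∀ y ∈ L, bf (J1 ⊗ₖ J2) x y = 0) : ∀ x ∈ img g L, ∀ y ∈ img g L, bf (J1 ⊗ₖ J2) x y = 0 := by
  rintro _ ⟨x, hx, rfl⟩ _ ⟨y, hy, rfl⟩
  show bf (J1 ⊗ₖ J2) (act g x) (act g y) = 0
  rw [act_apply, act_apply, hg x y]
  exact hL x hx y hy

/-! ## END-TS -/

theorem exists_aniso (hJ1 : OrthG J1) (h2 : (2 : F) ≠ 0) (ha : 1 ≤ a) : ∃ u : Fin a → F, bf J1 u u ≠ 0 := by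
  by_contra hcon
  push Not at hcon
  have hx : (Pi.single (⟨0, by omega⟩ : Fin a) (1 : F) : Fin a → F) ≠ 0 := single_ne_zero' _
  apply hx
  apply hJ1.nondeg
  intro y
  have h1 := hcon (Pi.single (⟨0, by omega⟩ : Fin a) (1 : F) + y)
  rw [bf_add_left, bf_add_right, bf_add_right, hcon, hcon, hJ1.symm y] at h1
  have h3 : (2 : F) * bf J1 (Pi.single (⟨0, by omega⟩ : Fin a) (1 : F)) y = 0 := by linear_combination h1
  rcases mul_eq_zero.mp h3 with h | h
  · exact absurd h h2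
  · exact h

/-- END-TS: `U ⊗ W'` totally singular ⇒ `W'` totally singular (`U` has an anisotropic vector) -/
theorem ts_of_tW_ts (hJ1 : OrthG J1) (h2 : (2 : F) ≠ 0) (ha : 1 ≤ a) (W' : Submodule F (Fin b → F))
    (hts : ∀ x ∈ tW (a := a) W', ∀ y ∈ tW (a := a) W', bf (J1 ⊗ₖ J2) x y = 0) :
    ∀ x ∈ W', ∀ y ∈ W', bf J2 x y = 0 := by
  obtain ⟨u, hu⟩ := exists_aniso hJ1 h2 ha
  intro x hx y hy
  have h := hts (pur u x) (pur_mem_tW u hx) (pur u y) (pur_mem_tW u hy)
  rw [bf_kron_pur] at h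
  rcases mul_eq_zero.mp h with h | h
  · exact absurd h hu
  · exact h

end Cfsg.Agent.Lib.Helper26.OTROOTB
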