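import Mathlib
import Cfsg.Agent.Lib.Helper28.Ord459648.Basic

/-!
# S1022 piece [P2b] (helper26 for helper28): in a simple group of order `459648` with a subgroup of
index `21`, the centralizer of a Sylow `19`-subgroup has order dividing `38`

`G` acts faithfully on the `21` cosets; a generator of the Sylow `19`-subgroup acts as a single `19`-cycle,
whose centralizer in the symmetric group has order `2! * 19 = 38`.
-/

set_option autoImplicit false
set_option linter.unusedVariables false
set_option linter.style.haveILetI false

namespace Cfsg.Agent.Lib.Helper28.Ord459648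

variable {G : Type*} [Group G] [Finite G]

namespace Helper26

theorem factorization_19 : (459648 : ℕ).factorization 19 = 1 := by
  have e : (459648 : ℕ) = 19 ^ 1 * 24192 := by norm_num
  rw [e, Nat.factorization_mul (by norm_num) (by norm_num), Finsupp.add_apply,
    Nat.Prime.factorization_pow (by norm_num), Finsupp.single_eq_same,
    Nat.factorization_eq_zero_of_not_dvd (by norm_num)]

end Helper26

open Helper26 in
/-- [P2b] -/
theorem card_centralizer_dvd_38_of_index_21 [IsSimpleGroup G] (hG : Nat.card G = 459648)
    (L : Subgroup G) (hL : L.index = 21) (P : Sylow 19 G) :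
    Nat.card (Subgroup.centralizer ((P : Subgroup G) : Set G)) ∣ 38 := by
  classical
  haveI : Fintype (G ⧸ L) := Fintype.ofFinite _
  -- the action on the cosets is faithful
  have hker : (MulAction.toPermHom G (G ⧸ L)).ker = ⊥ := by
    have h1 : (MulAction.toPermHom G (G ⧸ L)).ker = L.normalCore :=
      (Subgroup.normalCore_eq_ker L).symm
    have hn : ((MulAction.toPermHom G (G ⧸ L)).ker).Normal := inferInstance
    rcases hn.eq_bot_or_eq_top with h | h
    · exact h
    · exfalso
      have hLt : L = ⊤ := by
        apply top_le_iff.mp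
        rw [← h, h1]
        exact Subgroup.normalCore_le L
      rw [hLt, Subgroup.index_top] at hL
      omega
  have hinj : Function.Injective (MulAction.toPermHom G (G ⧸ L)) :=
    (MonoidHom.ker_eq_bot_iff _).mp hker
  -- a generator of `P`
  have hcardP : Nat.card P = 19 := by
    rw [Sylow.card_eq_multiplicity, hG, factorization_19, pow_one]
  haveI : IsCyclic P := isCyclic_of_prime_card hcardP
  obtain ⟨g, hg⟩ := IsCyclic.exists_generator (α := P)
  have hog : orderOf (g : G) = 19 := by
    rw [Subgroup.orderOf_coe, orderOf_eq_card_of_forall_mem_zpowers hg, hcardP]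
  have hoσ : orderOf (MulAction.toPermHom G (G ⧸ L) g) = 19 := by
    rw [orderOf_injective _ hinj]
    exact hog
  -- its cycle type
  have hcard21 : Fintype.card (G ⧸ L) = 21 := by
    rw [← Nat.card_eq_fintype_card, ← hL]
    rfl
  obtain ⟨n, hn⟩ := Equiv.Perm.cycleType_prime_order
    (σ := MulAction.toPermHom G (G ⧸ L) g) (by rw [hoσ]; norm_num)
  rw [hoσ] at hn
  have hsum : (MulAction.toPermHom G (G ⧸ L) g).cycleType.sum ≤ Fintype.card (G ⧸ L) := by
    rw [Equiv.Perm.sum_cycleType]
    exact Finset.card_le_univ _
  have hn0 : n = 0 := by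
    rw [hn, Multiset.sum_replicate, hcard21, smul_eq_mul] at hsum
    omega
  subst hn0
  have hcent : Nat.card (Subgroup.centralizer {MulAction.toPermHom G (G ⧸ L) g}) = 38 := by
    rw [Equiv.Perm.nat_card_centralizer, hn, hcard21]
    decide
  -- the centralizer of `P` embeds
  have hle : (Subgroup.centralizer ((P : Subgroup G) : Set G)).map (MulAction.toPermHom G (G ⧸ L)) ≤
      Subgroup.centralizer {MulAction.toPermHom G (G ⧸ L) g} := by
    rintro _ ⟨c, hc, rfl⟩
    rw [Subgroup.mem_centralizer_singleton_iff]
    have h1 : (g : G) * c = c * (g : G) := hc (g : G) g.2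
    rw [← map_mul, ← map_mul, h1]
  have hdvd := Subgroup.card_dvd_of_le hle
  rw [Subgroup.card_map_of_injective hinj, hcent] at hdvd
  exact hdvd

end Cfsg.Agent.Lib.Helper28.Ord459648
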