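import Mathlib
import Cfsg.Agent.Lib.Helper28.Ord459648.Basic

/-!
# S1022 piece [P2c] (helper26 for helper28): the centralizer of an involution `x` of a subgroup `C` of
order divisible by `4` has order divisible by `4` inside `C`

A subgroup of `C` of order `4` containing `x` is abelian, so it centralizes `x`.
-/

set_option autoImplicit false
set_option linter.unusedVariables false

namespace Cfsg.Agent.Lib.Helper28.Ord459648

variable {G : Type*} [Group G] [Finite G]

namespace Helper26

/-- [P2c] SPARE (helper9's `Lib/Helper9/Ord459648P2c.lean` is the official piece) -/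
theorem four_dvd_card_inf_centralizer_spare (C : Subgroup G) (hC : 4 ∣ Nat.card C) (x : G)
    (hxC : x ∈ C) (hx : orderOf x = 2) :
    4 ∣ Nat.card ↥(C ⊓ Subgroup.centralizer {x}) := by
  have hy : orderOf (⟨x, hxC⟩ : C) = 2 := by rw [Subgroup.orderOf_mk, hx]
  have hH : Nat.card (Subgroup.zpowers (⟨x, hxC⟩ : C)) = 2 ^ 1 := by
    rw [Nat.card_zpowers, hy, pow_one]
  have hC' : 2 ^ 2 ∣ Nat.card C := by norm_num; exact hC
  obtain ⟨K, hK, hle⟩ := Sylow.exists_subgroup_card_pow_prime_le 2 (n := 1) (m := 2) hC'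
    (Subgroup.zpowers (⟨x, hxC⟩ : C)) hH (by norm_num)
  have hcomm : ∀ a b : K, a * b = b * a := by
    have := IsPGroup.isMulCommutative_of_card_eq_prime_sq (p := 2) hK
    intro a b
    exact mul_comm' a b
  have hyK : (⟨x, hxC⟩ : C) ∈ K := hle (Subgroup.mem_zpowers _)
  have hle2 : K.map C.subtype ≤ C ⊓ Subgroup.centralizer {x} := by
    rintro _ ⟨k, hk, rfl⟩
    refine Subgroup.mem_inf.mpr ⟨k.2, ?_⟩
    rw [Subgroup.mem_centralizer_singleton_iff]
    have h1 := hcomm ⟨k, hk⟩ ⟨⟨x, hxC⟩, hyK⟩
    have h2 := congrArg (fun a : K => ((a : C) : G)) h1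
    exact h2
  have hcard : Nat.card (K.map C.subtype) = 4 := by
    rw [Subgroup.card_map_of_injective C.subtype_injective, hK]
    norm_num
  rw [← hcard]
  exact Subgroup.card_dvd_of_le hle2

end Helper26

end Cfsg.Agent.Lib.Helper28.Ord459648
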