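import Mathlib

set_option autoImplicit false
set_option linter.unusedSectionVars false

namespace Cfsg.Agent.Lib.Helper26.ReeCube

open Matrix

section

variable (K : Type*) [Field K] [CharP K 3]

/-- the module: `2 × 2` matrices, written multiplicatively -/
abbrev NM := Multiplicative (Matrix (Fin 2) (Fin 2) K)

/-- entrywise cube of a `2 × 2` matrix -/
def cube (A : Matrix (Fin 2) (Fin 2) K) : Matrix (Fin 2) (Fin 2) K := A.map (fun x => x ^ 3)

instance : Fact (Nat.Prime 3) := ⟨Nat.prime_three⟩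

theorem cube_eq (A : Matrix (Fin 2) (Fin 2) K) : cube K A = (frobenius K 3).mapMatrix A := by
  ext i j
  simp [cube, frobenius_def]

theorem cube_mul (A B : Matrix (Fin 2) (Fin 2) K) : cube K (A * B) = cube K A * cube K B := by
  rw [cube_eq, cube_eq, cube_eq, map_mul]

theorem cube_one : cube K (1 : Matrix (Fin 2) (Fin 2) K) = 1 := by
  rw [cube_eq, map_one]

/-- the action of a matrix on `M₂(K)` -/
def actM (A X : Matrix (Fin 2) (Fin 2) K) : Matrix (Fin 2) (Fin 2) K := A * X * (cube K A)ᵀ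

theorem actM_mul (A B X : Matrix (Fin 2) (Fin 2) K) : actM K (A * B) X = actM K A (actM K B X) := by
  unfold actM
  rw [cube_mul, transpose_mul]
  simp only [Matrix.mul_assoc]

theorem actM_one (X : Matrix (Fin 2) (Fin 2) K) : actM K 1 X = X := by
  unfold actM
  rw [cube_one, transpose_one, Matrix.one_mul, Matrix.mul_one]

theorem actM_add (A X Y : Matrix (Fin 2) (Fin 2) K) : actM K A (X + Y) = actM K A X + actM K A Y := by
  unfold actM
  rw [Matrix.mul_add, Matrix.add_mul]

/-- the additive automorphism of `M₂(K)` given by an element of `SL₂(K)` -/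
def actEquiv (s : Matrix.SpecialLinearGroup (Fin 2) K) :
    Matrix (Fin 2) (Fin 2) K ≃+ Matrix (Fin 2) (Fin 2) K where
  toFun X := actM K (↑s : Matrix (Fin 2) (Fin 2) K) X
  invFun X := actM K (↑(s⁻¹) : Matrix (Fin 2) (Fin 2) K) X
  left_inv X := by
    show actM K (↑(s⁻¹) : Matrix (Fin 2) (Fin 2) K) (actM K (↑s : Matrix (Fin 2) (Fin 2) K) X) = X
    rw [← actM_mul, ← Matrix.SpecialLinearGroup.coe_mul, inv_mul_cancel,
      Matrix.SpecialLinearGroup.coe_one, actM_one]
  right_inv X := by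
    show actM K (↑s : Matrix (Fin 2) (Fin 2) K) (actM K (↑(s⁻¹) : Matrix (Fin 2) (Fin 2) K) X) = X
    rw [← actM_mul, ← Matrix.SpecialLinearGroup.coe_mul, mul_inv_cancel,
      Matrix.SpecialLinearGroup.coe_one, actM_one]
  map_add' X Y := actM_add K (↑s : Matrix (Fin 2) (Fin 2) K) X Y

/-- the action of `SL₂(K)` -/
def act0 : Matrix.SpecialLinearGroup (Fin 2) K →* MulAut (NM K) where
  toFun s := AddEquiv.toMultiplicative (actEquiv K s)
  map_one' := by
    ext X : 1
    show Multiplicative.ofAdd (actM K (↑(1 : Matrix.SpecialLinearGroup (Fin 2) K) :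
      Matrix (Fin 2) (Fin 2) K) X.toAdd) = X
    rw [Matrix.SpecialLinearGroup.coe_one, actM_one]
    rfl
  map_mul' s t := by
    ext X : 1
    show Multiplicative.ofAdd (actM K (↑(s * t) : Matrix (Fin 2) (Fin 2) K) X.toAdd) =
      Multiplicative.ofAdd (actM K (↑s : Matrix (Fin 2) (Fin 2) K)
        (actM K (↑t : Matrix (Fin 2) (Fin 2) K) X.toAdd))
    rw [Matrix.SpecialLinearGroup.coe_mul, actM_mul]

theorem act0_apply (s : Matrix.SpecialLinearGroup (Fin 2) K) (X : NM K) :
    act0 K s X = Multiplicative.ofAdd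
      ((↑s : Matrix (Fin 2) (Fin 2) K) * X.toAdd * (cube K (↑s : Matrix (Fin 2) (Fin 2) K))ᵀ) := rfl

theorem center_le_ker : Subgroup.center (Matrix.SpecialLinearGroup (Fin 2) K) ≤ (act0 K).ker := by
  intro z hz
  rw [Matrix.SpecialLinearGroup.mem_center_iff] at hz
  obtain ⟨r, hr, hz⟩ := hz
  rw [MonoidHom.mem_ker]
  ext X : 1
  rw [act0_apply]
  have h2 : r ^ 2 = 1 := by simpa using hr
  rw [← hz]
  have h4 : r * r ^ 3 = 1 := by
    calc r * r ^ 3 = (r ^ 2) ^ 2 := by ring
      _ = 1 := by rw [h2]; ring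
  have key : (scalar (Fin 2)) r * Multiplicative.toAdd X * (cube K ((scalar (Fin 2)) r))ᵀ =
      Multiplicative.toAdd X := by
    ext i j
    simp only [cube, Matrix.mul_apply, transpose_apply, map_apply, scalar_apply, diagonal_apply,
      Fin.sum_univ_two]
    fin_cases i <;> fin_cases j <;> simp <;> linear_combination (Multiplicative.toAdd X _ _) * h4
  rw [key]
  rfl

/-- the action of `PSL₂(K)` -/
def act1 : Matrix.ProjectiveSpecialLinearGroup (Fin 2) K →* MulAut (NM K) :=
  QuotientGroup.lift _ (act0 K) (center_le_ker K)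

theorem act1_mk (s : Matrix.SpecialLinearGroup (Fin 2) K) (X : NM K) :
    act1 K (QuotientGroup.mk s) X = Multiplicative.ofAdd
      ((↑s : Matrix (Fin 2) (Fin 2) K) * X.toAdd * (cube K (↑s : Matrix (Fin 2) (Fin 2) K))ᵀ) := rfl

/-- negation as an automorphism -/
def negAut : MulAut (NM K) := AddEquiv.toMultiplicative (AddEquiv.neg (Matrix (Fin 2) (Fin 2) K))

theorem negAut_apply (X : NM K) : negAut K X = Multiplicative.ofAdd (-X.toAdd) := rfl

theorem negAut_mul_self : negAut K * negAut K = 1 := by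
  ext X : 1
  show Multiplicative.ofAdd (- (- X.toAdd)) = X
  rw [neg_neg]; rfl

theorem zmod2_cases (a : Multiplicative (ZMod 2)) : a = 1 ∨ a = Multiplicative.ofAdd 1 := by
  revert a; decide

/-- the sign action of the group of order two -/
def sgn : Multiplicative (ZMod 2) →* MulAut (NM K) where
  toFun ε := if ε = 1 then 1 else negAut K
  map_one' := by simp
  map_mul' a b := by
    have h11 : (Multiplicative.ofAdd (1 : ZMod 2)) * Multiplicative.ofAdd 1 = 1 := by decide
    have hne : (Multiplicative.ofAdd (1 : ZMod 2)) ≠ 1 := by decide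
    rcases zmod2_cases a with rfl | rfl <;> rcases zmod2_cases b with rfl | rfl
    · simp
    · simp
    · simp
    · rw [h11]; simp [hne, negAut_mul_self]

theorem sgn_one (X : NM K) : sgn K 1 X = X := by
  simp [sgn]

theorem sgn_gen (X : NM K) : sgn K (Multiplicative.ofAdd 1) X = Multiplicative.ofAdd (-X.toAdd) := by
  have hne : (Multiplicative.ofAdd (1 : ZMod 2)) ≠ 1 := by decide
  simp [sgn, hne, negAut_apply]

theorem sgn_comm (a : Multiplicative (ZMod 2)) (t : Matrix.ProjectiveSpecialLinearGroup (Fin 2) K) :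
    Commute (sgn K a) (act1 K t) := by
  obtain ⟨s, rfl⟩ := QuotientGroup.mk_surjective t
  rcases zmod2_cases a with rfl | rfl
  · rw [map_one]; exact Commute.one_left _
  · ext X : 1
    show sgn K (Multiplicative.ofAdd 1) (act1 K (QuotientGroup.mk s) X) =
      act1 K (QuotientGroup.mk s) (sgn K (Multiplicative.ofAdd 1) X)
    rw [sgn_gen, sgn_gen, act1_mk, act1_mk]
    simp

/-- the action of `C₂ × PSL₂(K)` -/
def rho : Multiplicative (ZMod 2) × Matrix.ProjectiveSpecialLinearGroup (Fin 2) K →* MulAut (NM K) :=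
  MonoidHom.noncommCoprod (sgn K) (act1 K) (sgn_comm K)

theorem rho_one_mk (s : Matrix.SpecialLinearGroup (Fin 2) K) (X : NM K) :
    rho K (1, QuotientGroup.mk s) X = Multiplicative.ofAdd
      ((↑s : Matrix (Fin 2) (Fin 2) K) * X.toAdd * (cube K (↑s : Matrix (Fin 2) (Fin 2) K))ᵀ) := by
  unfold rho
  rw [MonoidHom.noncommCoprod_apply, map_one, one_mul, act1_mk]

theorem rho_gen_mk (s : Matrix.SpecialLinearGroup (Fin 2) K) (X : NM K) :
    rho K (Multiplicative.ofAdd 1, QuotientGroup.mk s) X = Multiplicative.ofAdd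
      (-((↑s : Matrix (Fin 2) (Fin 2) K) * X.toAdd * (cube K (↑s : Matrix (Fin 2) (Fin 2) K))ᵀ)) := by
  unfold rho
  rw [MonoidHom.noncommCoprod_apply, MulAut.mul_apply, act1_mk, sgn_gen]
  rfl

/-- the statement of the matrix fixed-point lemma `fix_imp` (piece P1) -/
def FixImp : Prop :=
  ∀ (A X : Matrix (Fin 2) (Fin 2) K), A.det = 1 → X ≠ 0 → ∀ σ : K, (σ = 1 ∨ σ = -1) →
    A * X * (A.map (fun x => x ^ 3)).transpose = σ • X →
    A * A = -1 ∨ (σ = 1 ∧ (A * A * A = 1 ∨ A * A * A = -1))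

theorem mk_eq_one_of_scalar (s : Matrix.SpecialLinearGroup (Fin 2) K) (r : K) (hr : r ^ 2 = 1)
    (hs : (↑s : Matrix (Fin 2) (Fin 2) K) = scalar (Fin 2) r) :
    (QuotientGroup.mk s : Matrix.ProjectiveSpecialLinearGroup (Fin 2) K) = 1 := by
  rw [QuotientGroup.eq_one_iff, Matrix.SpecialLinearGroup.mem_center_iff]
  exact ⟨r, by simpa using hr, hs.symm⟩

theorem neg_one_eq_scalar : (-1 : Matrix (Fin 2) (Fin 2) K) = scalar (Fin 2) (-1 : K) := by
  ext i j
  fin_cases i <;> fin_cases j <;> simp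

theorem one_eq_scalar : (1 : Matrix (Fin 2) (Fin 2) K) = scalar (Fin 2) (1 : K) := by
  simp

/-- a nonzero fixed vector forces order at most three -/
theorem fix_group (hfix : FixImp K)
    (l : Multiplicative (ZMod 2) × Matrix.ProjectiveSpecialLinearGroup (Fin 2) K) (X : NM K)
    (hX : X ≠ 1) (h : rho K l X = X) : l ^ 2 = 1 ∨ l ^ 3 = 1 := by
  obtain ⟨ε, t⟩ := l
  obtain ⟨s, rfl⟩ := QuotientGroup.mk_surjective t
  have hX0 : X.toAdd ≠ 0 := fun h0 => hX (by
    have : X = Multiplicative.ofAdd X.toAdd := rfl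
    rw [this, h0]; rfl)
  have hdet : (↑s : Matrix (Fin 2) (Fin 2) K).det = 1 := s.2
  have hm1 : (-1 : K) ≠ 1 := by
    intro h1
    have h2 : (2 : K) = 0 := by linear_combination -h1
    have h3 : (3 : K) = 0 := by exact_mod_cast CharP.cast_eq_zero K 3
    have : (1 : K) = 0 := by linear_combination h3 - h2
    exact one_ne_zero this
  rcases zmod2_cases ε with rfl | rfl
  · rw [rho_one_mk] at h
    have h' : (↑s : Matrix (Fin 2) (Fin 2) K) * X.toAdd *
        ((↑s : Matrix (Fin 2) (Fin 2) K).map (fun x => x ^ 3)).transpose = (1 : K) • X.toAdd := by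
      rw [one_smul]
      exact congrArg Multiplicative.toAdd h
    rcases hfix _ _ hdet hX0 1 (Or.inl rfl) h' with h2 | ⟨-, h3 | h3⟩
    · left
      rw [Prod.pow_mk, one_pow, ← QuotientGroup.mk_pow, Prod.mk_eq_one]
      refine ⟨rfl, mk_eq_one_of_scalar K _ (-1) (by ring) ?_⟩
      rw [pow_two, Matrix.SpecialLinearGroup.coe_mul, h2, neg_one_eq_scalar]
    · right
      rw [Prod.pow_mk, one_pow, ← QuotientGroup.mk_pow, Prod.mk_eq_one]
      refine ⟨rfl, mk_eq_one_of_scalar K _ 1 (by ring) ?_⟩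
      rw [pow_succ, pow_two, Matrix.SpecialLinearGroup.coe_mul, Matrix.SpecialLinearGroup.coe_mul, h3]
      simp
    · right
      rw [Prod.pow_mk, one_pow, ← QuotientGroup.mk_pow, Prod.mk_eq_one]
      refine ⟨rfl, mk_eq_one_of_scalar K _ (-1) (by ring) ?_⟩
      rw [pow_succ, pow_two, Matrix.SpecialLinearGroup.coe_mul, Matrix.SpecialLinearGroup.coe_mul, h3,
        neg_one_eq_scalar]
  · rw [rho_gen_mk] at h
    have h' : (↑s : Matrix (Fin 2) (Fin 2) K) * X.toAdd *
        ((↑s : Matrix (Fin 2) (Fin 2) K).map (fun x => x ^ 3)).transpose = (-1 : K) • X.toAdd := by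
      have h1 := congrArg Multiplicative.toAdd h
      have h2 : -((↑s : Matrix (Fin 2) (Fin 2) K) * X.toAdd *
        (cube K (↑s : Matrix (Fin 2) (Fin 2) K))ᵀ) = X.toAdd := h1
      rw [neg_one_smul]
      exact neg_eq_iff_eq_neg.mp h2
    rcases hfix _ _ hdet hX0 (-1) (Or.inr rfl) h' with h2 | ⟨h1, -⟩
    · left
      have h11 : (Multiplicative.ofAdd (1 : ZMod 2)) ^ 2 = 1 := by decide
      rw [Prod.pow_mk, h11, ← QuotientGroup.mk_pow, Prod.mk_eq_one]
      refine ⟨rfl, mk_eq_one_of_scalar K _ (-1) (by ring) ?_⟩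
      rw [pow_two, Matrix.SpecialLinearGroup.coe_mul, h2, neg_one_eq_scalar]
    · exact absurd h1 hm1

end

end Cfsg.Agent.Lib.Helper26.ReeCube
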