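import Cfsg.Agent.Lib.Helper26.ReeCubeAct
import Cfsg.Agent.Lib.Helper1.ReeCubeP3

set_option autoImplicit false
set_option linter.unusedSectionVars false

namespace Cfsg.Agent.Lib.Helper26.ReeCube

open Matrix

section

variable (K : Type*) [Field K] [CharP K 3]

/-- the group `C₂ × PSL₂(K)` -/
abbrev LL := Multiplicative (ZMod 2) × Matrix.ProjectiveSpecialLinearGroup (Fin 2) K

/-- the group `M₂(K) ⋊ (C₂ × PSL₂(K))` -/
abbrev EE := NM K ⋊[rho K] LL K

theorem three_eq_zero' : (3 : K) = 0 := by exact_mod_cast CharP.cast_eq_zero K 3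

theorem NM_pow_three (n : NM K) : n ^ 3 = 1 := by
  show Multiplicative.ofAdd (3 • n.toAdd) = 1
  have : (3 : ℕ) • n.toAdd = 0 := by
    ext i j
    simp only [Matrix.smul_apply, Matrix.zero_apply, nsmul_eq_mul]
    rw [show ((3 : ℕ) : K) = 3 by norm_num, three_eq_zero', zero_mul]
  rw [this]; rfl

/-- element orders of `E` -/
theorem orderOf_EE [Finite K] (hfix : FixImp K) (x : EE K) :
    orderOf x = orderOf x.right ∨
      (orderOf x = 3 * orderOf x.right ∧ (x.right ^ 2 = 1 ∨ x.right ^ 3 = 1)) := by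
  have hfin : 0 < orderOf x.right := orderOf_pos _
  rcases orderOf_semidirect (rho K) 3 Nat.prime_three (NM_pow_three K) x hfin with h | ⟨h, w, hw, hfixw⟩
  · exact Or.inl h
  · exact Or.inr ⟨h, fix_group K hfix x.right w hw hfixw⟩

theorem orderOf_inr (l : LL K) : orderOf (SemidirectProduct.inr l : EE K) = orderOf l :=
  orderOf_injective (SemidirectProduct.inr : LL K →* EE K) SemidirectProduct.inr_injective l

/-- the unipotent element -/
def uSL : Matrix.SpecialLinearGroup (Fin 2) K := ⟨!![1, 1; 0, 1], by simp [Matrix.det_fin_two]⟩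

theorem uSL_pow_three : (uSL K) ^ 3 = 1 := by
  apply Subtype.ext
  rw [pow_succ, pow_two]
  show (!![1, 1; 0, 1] * !![1, 1; 0, 1] * !![1, 1; 0, 1] : Matrix (Fin 2) (Fin 2) K) = 1
  ext i j
  have h3 := three_eq_zero' K
  fin_cases i <;> fin_cases j <;> simp [Matrix.mul_apply, Fin.sum_univ_two] <;> linear_combination h3

/-- the element of order nine -/
def x9 : EE K :=
  ⟨Multiplicative.ofAdd !![0, 0; 0, 1], ((1 : Multiplicative (ZMod 2)), QuotientGroup.mk (uSL K))⟩

theorem x9_right_pow : (x9 K).right ^ 3 = 1 := by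
  show ((1 : Multiplicative (ZMod 2)), (QuotientGroup.mk (uSL K) :
    Matrix.ProjectiveSpecialLinearGroup (Fin 2) K)) ^ 3 = 1
  rw [Prod.pow_mk, one_pow, ← QuotientGroup.mk_pow, uSL_pow_three]
  rfl

theorem pow_three_of_right_eq_one (y : EE K) (hy : y.right = 1) : y ^ 3 = 1 := by
  have : y = SemidirectProduct.inl y.left := by
    apply SemidirectProduct.ext
    · simp
    · simp [hy]
  rw [this, ← map_pow, NM_pow_three, map_one]

theorem x9_pow_nine : (x9 K) ^ 9 = 1 := by
  have h : (x9 K) ^ 9 = ((x9 K) ^ 3) ^ 3 := by rw [← pow_mul]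
  rw [h]
  apply pow_three_of_right_eq_one
  have := map_pow (SemidirectProduct.rightHom : EE K →* LL K) (x9 K) 3
  have this' : ((x9 K) ^ 3).right = (x9 K).right ^ 3 := this
  rw [this', x9_right_pow]

theorem x9_left_pow_three : ((x9 K) ^ 3).left.toAdd 0 0 = 2 := by
  have e1 : (x9 K) ^ 3 = x9 K * x9 K * x9 K := by rw [pow_succ, pow_two]
  rw [e1, SemidirectProduct.mul_left, SemidirectProduct.mul_left, SemidirectProduct.mul_right]
  have hr : (x9 K).right = ((1 : Multiplicative (ZMod 2)), QuotientGroup.mk (uSL K)) := rfl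
  have hl : (x9 K).left = Multiplicative.ofAdd !![0, 0; 0, 1] := rfl
  have hrr : (x9 K).right * (x9 K).right =
      ((1 : Multiplicative (ZMod 2)), QuotientGroup.mk (uSL K * uSL K)) := by
    rw [hr, Prod.mk_mul_mk, one_mul, QuotientGroup.mk_mul]
  rw [hrr, hr, rho_one_mk, rho_one_mk, hl]
  have hu : (↑(uSL K) : Matrix (Fin 2) (Fin 2) K) = !![1, 1; 0, 1] := rfl
  have huu : (↑(uSL K * uSL K) : Matrix (Fin 2) (Fin 2) K) = !![1, 2; 0, 1] := by
    rw [Matrix.SpecialLinearGroup.coe_mul, hu]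
    ext i j
    fin_cases i <;> fin_cases j <;> simp [Matrix.mul_apply, Fin.sum_univ_two] <;> norm_num
  rw [hu, huu]
  have h3 := three_eq_zero' K
  show (!![0, 0; 0, 1] + !![1, 1; 0, 1] * !![0, 0; 0, 1] * (cube K !![1, 1; 0, 1])ᵀ +
    !![1, 2; 0, 1] * !![0, 0; 0, 1] * (cube K !![1, 2; 0, 1])ᵀ : Matrix (Fin 2) (Fin 2) K) 0 0 = 2
  simp only [Matrix.add_apply, Matrix.mul_apply, Fin.sum_univ_two, Matrix.transpose_apply, cube,
    Matrix.map_apply]
  simp only [Matrix.of_apply, Matrix.cons_val', Matrix.cons_val_zero, Matrix.cons_val_one,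
    Matrix.cons_val_fin_one]
  linear_combination (5 : K) * h3

theorem x9_pow_three_ne : (x9 K) ^ 3 ≠ 1 := by
  intro h
  have h2 : ((x9 K) ^ 3).left.toAdd 0 0 = 0 := by rw [h]; rfl
  rw [x9_left_pow_three] at h2
  have h3 := three_eq_zero' K
  have : (1 : K) = 0 := by linear_combination h3 - h2
  exact one_ne_zero this

theorem orderOf_x9 : orderOf (x9 K) = 9 := by
  have := orderOf_eq_prime_pow (p := 3) (n := 1) (x := x9 K) (by simpa using x9_pow_three_ne K)
    (by simpa using x9_pow_nine K)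
  simpa using this

end

end Cfsg.Agent.Lib.Helper26.ReeCube
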