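import Cfsg.Agent.H26.RsZ
import Cfsg.Agent.Lib.Helper26.ReeCubeE

set_option autoImplicit false
set_option linter.unusedSectionVars false

namespace Cfsg.Agent.Lib.Helper26.ReeCube

open Cfsg.Lie Matrix Cfsg.Agent.Lib.Helper8 Cfsg.Agent.Lib.Helper8.Chev Cfsg.Agent.Lib.Helper8.SL2P
open Cfsg.Agent.H26.Ree Cfsg.Agent.H26.Tor Cfsg.Agent.H26.Rs Subgroup

/-- the Ree side: `C₂ × PSL₂(K)` is the centraliser of an involution of `R`, so its element orders are
element orders of `R`, and every even element order of `R` is an element order of `C₂ × PSL₂(K)` -/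
theorem ree_side {K : Type*} [Field K] [Fintype K] {m : ℕ} (hm : 1 ≤ m)
    (hK : Fintype.card K = 3 ^ (2 * m + 1)) :
    (∀ l : LL K, ∃ g : ↥(twistedG2 K (3 ^ m)), orderOf g = orderOf l) ∧
    (∀ n : ℕ, 2 ∣ n → (∃ g : ↥(twistedG2 K (3 ^ m)), orderOf g = n) → ∃ l : LL K, orderOf l = n) := by
  obtain ⟨φ, ψ, hF⟩ := exists_reeField hK
  obtain ⟨τ, hτ⟩ := exists_reeAut hK m
  have := hF.char3
  obtain ⟨Φ, R⟩ := exists_reeHom hF
  have D := ree_centData hF hK hτ R
  have h30 : (3 : K) = 0 := three_eq_zero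
  have hsimple := (ree_simple hF hK hτ hm).1
  have h8 : ∀ S : Sylow 2 ↥(twistedG2 K (3 ^ m)), Nat.card S = 8 :=
    fun S => (sylow_two hF hK hτ S).1
  have hexp : ∀ S : Sylow 2 ↥(twistedG2 K (3 ^ m)), ∀ x ∈ S, x * x = 1 :=
    fun S => (sylow_two hF hK hτ S).2
  have haH : ((reeInvG hF hK hτ : ↥(twistedG2 K (3 ^ m))) : GL chevG2.Idx K) ∈
      chevG2.diagonalSubgroup K := (Subgroup.mem_inf.mp (reeInv_mem hF hK hτ)).1
  obtain ⟨e⟩ := centralizer_iso hF hK hτ (reeInvG hF hK hτ) haH D.a_ne D.a_sq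
  constructor
  · intro l
    refine ⟨((e.symm l : ↥(centralizer {reeInvG hF hK hτ})) : ↥(twistedG2 K (3 ^ m))), ?_⟩
    rw [Subgroup.orderOf_coe, MulEquiv.orderOf_eq]
  · rintro n hn ⟨g, rfl⟩
    have hg0 : orderOf g ≠ 0 := (orderOf_pos g).ne'
    have ht : orderOf (g ^ (orderOf g / 2)) = 2 := orderOf_pow_orderOf_div hg0 hn
    set t := g ^ (orderOf g / 2) with htdef
    have ht2 : t * t = 1 := by rw [← pow_two, ← ht]; exact pow_orderOf_eq_one t
    have ht1 : t ≠ 1 := by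
      intro h; rw [h, orderOf_one] at ht; omega
    obtain ⟨c, hc⟩ := isConj_iff.mp (isConj_invol D h30 hsimple h8 hexp ht2 ht1)
    -- hc : c * a * c⁻¹ = t
    have ha : reeInvG hF hK hτ = (c⁻¹ * g * c) ^ (orderOf g / 2) := by
      have : (c⁻¹ * g * c) ^ (orderOf g / 2) = c⁻¹ * g ^ (orderOf g / 2) * c := by
        have := conj_pow (a := c⁻¹) (b := g) (i := orderOf g / 2)
        simpa using this
      rw [this, ← htdef, ← hc]; group
    have hmem : c⁻¹ * g * c ∈ centralizer {reeInvG hF hK hτ} := by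
      rw [mem_centralizer_singleton_iff]
      conv_lhs => rw [ha]
      conv_rhs => rw [ha]
      rw [← pow_succ, ← pow_succ']
    refine ⟨e ⟨c⁻¹ * g * c, hmem⟩, ?_⟩
    rw [MulEquiv.orderOf_eq, Subgroup.orderOf_mk]
    have := orderOf_conj_eq c⁻¹ g
    simpa using this

end Cfsg.Agent.Lib.Helper26.ReeCube
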