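import Cfsg.Agent.S1159
import Cfsg.Agent.Lib.Helper26.ReeCubeRee
import Cfsg.Agent.Lib.Helper13.ReeCubeP6
import Cfsg.Agent.Lib.Helper23.ReeCubeP1

set_option autoImplicit false
set_option linter.unusedSectionVars false

namespace Cfsg.Agent.Lib.Helper26.ReeCube

open Cfsg.Lie Matrix

section

variable (K : Type*) [Field K] [CharP K 3] (R : Type*) [Group R]

/-- the projection `R × R × E → R × R × L` -/
def projHom : R × R × EE K →* R × R × LL K :=
  MonoidHom.prodMap (MonoidHom.id R) (MonoidHom.prodMap (MonoidHom.id R)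
    (SemidirectProduct.rightHom : EE K →* LL K))

/-- the normal subgroup `1 × 1 × M₂(K)` -/
def kerSub : Subgroup (R × R × EE K) := (projHom K R).ker

instance : (kerSub K R).Normal := by unfold kerSub; infer_instance

theorem mem_kerSub (x : R × R × EE K) : x ∈ kerSub K R ↔ x.1 = 1 ∧ x.2.1 = 1 ∧ x.2.2.right = 1 := by
  unfold kerSub projHom
  rw [MonoidHom.mem_ker]
  obtain ⟨a, b, c⟩ := x
  simp [Prod.ext_iff]

theorem kerSub_ne_bot : kerSub K R ≠ ⊥ := by
  intro h
  have hmem : ((1 : R), (1 : R), (SemidirectProduct.inl (Multiplicative.ofAdd !![0, 0; 0, 1]) : EE K)) ∈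
      kerSub K R := by
    rw [mem_kerSub]; simp
  rw [h, Subgroup.mem_bot] at hmem
  have h1 : (SemidirectProduct.inl (Multiplicative.ofAdd !![0, 0; 0, 1]) : EE K) = 1 := by
    have := congrArg (fun x : R × R × EE K => x.2.2) hmem
    simpa using this
  have h2 : (Multiplicative.ofAdd (!![0, 0; 0, 1] : Matrix (Fin 2) (Fin 2) K) : NM K) = 1 := by
    have := congrArg SemidirectProduct.left h1
    simpa using this
  have h3 : (!![0, 0; 0, 1] : Matrix (Fin 2) (Fin 2) K) 1 1 = 0 := by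
    have : (!![0, 0; 0, 1] : Matrix (Fin 2) (Fin 2) K) = 0 := h2
    rw [this]; rfl
  simp at h3

theorem kerSub_solvable : Group.IsSolvable (kerSub K R) := by
  apply Group.isSolvable_of_comm
  rintro ⟨x, hx⟩ ⟨y, hy⟩
  rw [mem_kerSub] at hx hy
  apply Subtype.ext
  obtain ⟨a, b, c⟩ := x
  obtain ⟨a', b', c'⟩ := y
  obtain ⟨rfl, rfl, hc⟩ := hx
  obtain ⟨rfl, rfl, hc'⟩ := hy
  show ((1 : R) * 1, (1 : R) * 1, c * c') = ((1 : R) * 1, (1 : R) * 1, c' * c)
  have hcc : c * c' = c' * c := by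
    apply SemidirectProduct.ext
    · simp only [SemidirectProduct.mul_left]
      have h1 : c.right = 1 := hc
      have h2 : c'.right = 1 := hc'
      rw [h1, h2, map_one, MulAut.one_apply, MulAut.one_apply, mul_comm]
    · simp only [SemidirectProduct.mul_right]
      have h1 : c.right = 1 := hc
      have h2 : c'.right = 1 := hc'
      rw [h1, h2]
  rw [hcc]

end

/-- `-1` is not a square in the field with `3^(2m+1)` elements -/
theorem neg_one_not_sq {K : Type*} [Field K] [Fintype K] {m : ℕ}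
    (hK : Fintype.card K = 3 ^ (2 * m + 1)) : ∀ x : K, x ^ 2 ≠ -1 := by
  intro x hx
  have h4 : Fintype.card K % 4 = 3 := by
    rw [hK, pow_succ, pow_mul, Nat.mul_mod, Nat.pow_mod]
    norm_num
  have := (FiniteField.isSquare_neg_one_iff (F := K)).mp ⟨x, by rw [← hx, pow_two]⟩
  exact this h4

/-- the spectrum of `R × R × E` is the spectrum of `R × R × R` -/
theorem range_eq {K : Type*} [Field K] [Fintype K] {m : ℕ} (hm : 1 ≤ m)
    (hK : Fintype.card K = 3 ^ (2 * m + 1)) [CharP K 3] :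
    Set.range (orderOf : ↥(twistedG2 K (3 ^ m)) × ↥(twistedG2 K (3 ^ m)) × EE K → ℕ) =
      Set.range (orderOf : ↥(twistedG2 K (3 ^ m)) × ↥(twistedG2 K (3 ^ m)) ×
        ↥(twistedG2 K (3 ^ m)) → ℕ) := by
  have hfix : FixImp K := fun A X hA hX σ hσ h => fix_imp (neg_one_not_sq hK) A X hA hX σ hσ h
  have hspec := fun d => Cfsg.Agent.S1159.result hm hK d
  obtain ⟨hs1, hs2⟩ := ree_side hm hK
  have h4 : 3 ^ (2 * m + 1) % 4 = 3 := by
    rw [pow_succ, pow_mul, Nat.mul_mod, Nat.pow_mod]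
    norm_num
  apply range_orderOf_prod_eq
    (fun n => n ∣ 6 ∨ n ∣ 9 ∨ n ∣ 3 ^ (2 * m + 1) - 1 ∨ n ∣ (3 ^ (2 * m + 1) + 1) / 2)
    (3 ^ (2 * m + 1) - 3 ^ (m + 1) + 1) (3 ^ (2 * m + 1) + 3 ^ (m + 1) + 1)
  · intro n
    rw [hspec n]
    tauto
  · intro x
    rcases orderOf_EE K hfix x with h | ⟨h, h2 | h3⟩
    · rw [h]; exact hs1 _
    · rw [hspec]
      left
      rw [h]
      have : orderOf x.right ∣ 2 := orderOf_dvd_of_pow_eq_one h2
      exact Nat.mul_dvd_mul_left 3 this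
    · rw [hspec]
      right; left
      rw [h]
      have : orderOf x.right ∣ 3 := orderOf_dvd_of_pow_eq_one h3
      exact Nat.mul_dvd_mul_left 3 this
  · intro n hn
    have key : ∀ k : ℕ, 2 ∣ k → (∃ g : ↥(twistedG2 K (3 ^ m)), orderOf g = k) → n ∣ k →
        ∃ x : EE K, orderOf x = n := by
      intro k hk2 hk hnk
      obtain ⟨l, hl⟩ := hs2 k hk2 hk
      have hl0 : orderOf l ≠ 0 := (orderOf_pos l).ne'
      refine ⟨SemidirectProduct.inr (l ^ (orderOf l / n)), ?_⟩
      rw [orderOf_inr]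
      exact orderOf_pow_orderOf_div hl0 (hl ▸ hnk)
    rcases hn with h | h | h | h
    · exact key 6 (by norm_num) ((hspec 6).mpr (Or.inl dvd_rfl)) h
    · have h9 : orderOf (x9 K) ≠ 0 := by rw [orderOf_x9]; norm_num
      exact ⟨(x9 K) ^ (orderOf (x9 K) / n), orderOf_pow_orderOf_div h9 (by rw [orderOf_x9]; exact h)⟩
    · exact key _ (by omega) ((hspec _).mpr (Or.inr (Or.inr (Or.inl dvd_rfl)))) h
    · exact key _ (by omega) ((hspec _).mpr (Or.inr (Or.inr (Or.inr (Or.inl dvd_rfl))))) h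

end Cfsg.Agent.Lib.Helper26.ReeCube
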