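import Mathlib
import Cfsg.Prelude.Def_RootSubgroups
import Cfsg.Prelude.Def_QuasithinSetup
import Cfsg.Agent.H26.RootInv2
import Cfsg.Agent.Lib.Helper1.Cores
import Cfsg.Agent.Lib.Helper4.RedCONJ
import Cfsg.Agent.S4088

/-!
# Normal subgroups of a group generated by root involutions (helper26)

`D` a set of root involutions of a finite group `G` in which every member has a "line partner"
(`b ∈ D` commuting with `d`, `b d ∈ D`).  A normal subgroup `N` missing `D` satisfies
`[N, G] ≤ O_2(G)`, i.e. `N ≤ O_{2,Z}(G)`:  for `d ∈ D`, `n ∈ N` the conjugate `e = n d n⁻¹` commutes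
with `d` (an odd product `d e ∈ N` contradicts (P1)+(LD) read modulo `N`; an order `4` product has
its square in `D ∩ N`), so the `N`-conjugates of `d` generate an elementary abelian `2`-group
normalised by `N`, whose intersection with `N` is a subnormal `2`-subgroup of `G`.
-/

set_option autoImplicit false

namespace Cfsg.Agent.Lib.Helper26.RIN

open Cfsg Cfsg.Agent.H26

variable {G : Type*} [Group G] {D : Set G}

/-- commuting involutions generate a `2`-group -/
theorem isPGroup_two_closure_of_comm (T : Set G) (h2 : ∀ t ∈ T, t * t = 1)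
    (hc : ∀ s ∈ T, ∀ t ∈ T, s * t = t * s) : IsPGroup 2 (Subgroup.closure T) := by
  have hcomm : ∀ x ∈ Subgroup.closure T, ∀ y ∈ Subgroup.closure T, x * y = y * x := by
    intro x hx y hy
    have hI : IsMulCommutative (Subgroup.closure T) := Subgroup.isMulCommutative_closure hc
    have := mul_comm' (⟨x, hx⟩ : Subgroup.closure T) ⟨y, hy⟩
    exact congrArg Subtype.val this
  have hsq : ∀ x ∈ Subgroup.closure T, x * x = 1 := by
    intro x hx
    induction hx using Subgroup.closure_induction with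
    | mem t ht => exact h2 t ht
    | one => simp
    | mul x y hx hy ihx ihy =>
      calc x * y * (x * y) = x * (y * x) * y := by group
        _ = x * (x * y) * y := by rw [hcomm y hy x hx]
        _ = (x * x) * (y * y) := by group
        _ = 1 := by rw [ihx, ihy, one_mul]
    | inv x hx ih =>
      have : x⁻¹ = x := inv_eq_of_mul_eq_one_left ih
      rw [this, ih]
  rintro ⟨x, hx⟩
  refine ⟨1, ?_⟩
  apply Subtype.ext
  simp only [pow_one, Subgroup.coe_pow, Subgroup.coe_one]
  rw [sq]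
  exact hsq x hx

/-- **Key lemma.** `N ⊴ G` missing `D`, `d ∈ D` with a line partner `b`: every `N`-conjugate of `d`
commutes with `d`. -/
theorem comm_conj_of_normal (hD : IsRootInvolutionSet D)
    (N : Subgroup G) [hN : N.Normal] (hND : ∀ x ∈ D, x ∉ N)
    {d b : G} (hd : d ∈ D) (hb : b ∈ D) (hbd : b * d ∈ D) (hcomm : b * d = d * b)
    {n : G} (hn : n ∈ N) : d * (n * d * n⁻¹) = (n * d * n⁻¹) * d := by
  have he : n * d * n⁻¹ ∈ D := hD.conj_mem d hd n
  have hd2 := ri_mul_self hD hd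
  have hdinv := ri_inv hD hd
  have hdeN : d * (n * d * n⁻¹) ∈ N := by
    have h1 : d * n * d⁻¹ ∈ N := hN.conj_mem n hn d
    have h2 : d * (n * d * n⁻¹) = (d * n * d⁻¹) * n⁻¹ := by
      rw [hdinv]; group
    rw [h2]
    exact N.mul_mem h1 (N.inv_mem hn)
  by_contra hnc
  have hπ : ∀ x : G, (QuotientGroup.mk' N) x = 1 ↔ x ∈ N := fun x => QuotientGroup.eq_one_iff x
  have hπe : (QuotientGroup.mk' N) (n * d * n⁻¹) = (QuotientGroup.mk' N) d := by
    have h1 : (QuotientGroup.mk' N) d * (QuotientGroup.mk' N) (n * d * n⁻¹) = 1 := by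
      rw [← map_mul]; exact (hπ _).2 hdeN
    have h2 : (QuotientGroup.mk' N) d * (QuotientGroup.mk' N) d = 1 := by
      rw [← map_mul, hd2, map_one]
    calc (QuotientGroup.mk' N) (n * d * n⁻¹) = ((QuotientGroup.mk' N) d)⁻¹ :=
          eq_inv_of_mul_eq_one_right h1
      _ = (QuotientGroup.mk' N) d := inv_eq_of_mul_eq_one_left h2
  have key : ∀ f : G, Odd (orderOf ((n * d * n⁻¹) * f)) → (d * f) * (d * f) = 1 → d * f ∈ N := by
    intro f hodd hsq
    have h1 : (QuotientGroup.mk' N) ((n * d * n⁻¹) * f) = (QuotientGroup.mk' N) (d * f) := by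
      rw [map_mul (QuotientGroup.mk' N) (n * d * n⁻¹) f, map_mul (QuotientGroup.mk' N) d f, hπe]
    have h2 : ((QuotientGroup.mk' N) ((n * d * n⁻¹) * f)) ^ 2 = 1 := by
      rw [h1, ← map_pow, sq, hsq, map_one]
    have h3 : Odd (orderOf ((QuotientGroup.mk' N) ((n * d * n⁻¹) * f))) :=
      Odd.of_dvd_nat hodd (orderOf_map_dvd (QuotientGroup.mk' N) _)
    have h4 := odd_orderOf_eq_one_of_sq h3 h2
    rw [h1] at h4
    exact (hπ _).1 h4
  rcases ri_odd_or_four hD hd he hnc with hodd | h4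
  · have hadj : OddAdj D d (n * d * n⁻¹) := oddAdj_mk hD hd he hodd hnc
    rcases ri_line_odd hD hb hd hbd hcomm hadj with h1 | h1
    · have h5 : (d * b) * (d * b) = 1 := by
        rw [← hcomm]; exact ri_mul_self hD hbd
      have h6 := key b h1.2.2.2 h5
      rw [← hcomm] at h6
      exact hND (b * d) hbd h6
    · have h7 : d * (b * d) = b := by
        rw [hcomm, ← mul_assoc, hd2, one_mul]
      have h5 : (d * (b * d)) * (d * (b * d)) = 1 := by
        rw [h7]; exact ri_mul_self hD hb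
      have h6 := key (b * d) h1.2.2.2 h5
      rw [h7] at h6
      exact hND b hb h6
  · have h5 := ri_four hD hd he h4
    exact hND _ h5 (N.pow_mem hdeN 2)

/-- the commutators `d (n d n⁻¹)` lie in `O_2(G)` -/
theorem mul_conj_mem_pCore [Finite G] (hD : IsRootInvolutionSet D)
    (N : Subgroup G) [hN : N.Normal]
    (hcomm : ∀ d ∈ D, ∀ n ∈ N, d * (n * d * n⁻¹) = (n * d * n⁻¹) * d)
    {d : G} (hd : d ∈ D) {n : G} (hn : n ∈ N) : d * (n * d * n⁻¹) ∈ pCore 2 G := by
  have hdinv := ri_inv hD hd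
  have hT2 : ∀ t ∈ {x : G | ∃ m ∈ N, x = m * d * m⁻¹}, t * t = 1 := by
    rintro t ⟨m, hm, rfl⟩
    exact ri_mul_self hD (hD.conj_mem d hd m)
  have hTc : ∀ s ∈ {x : G | ∃ m ∈ N, x = m * d * m⁻¹}, ∀ t ∈ {x : G | ∃ m ∈ N, x = m * d * m⁻¹},
      s * t = t * s := by
    rintro s ⟨m, hm, rfl⟩ t ⟨m', hm', rfl⟩
    have h1 := hcomm d hd (m⁻¹ * m') (N.mul_mem (N.inv_mem hm) hm')
    have h2 : m * d * m⁻¹ * (m' * d * m'⁻¹)
        = m * (d * ((m⁻¹ * m') * d * (m⁻¹ * m')⁻¹)) * m⁻¹ := by group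
    have h3 : m' * d * m'⁻¹ * (m * d * m⁻¹)
        = m * (((m⁻¹ * m') * d * (m⁻¹ * m')⁻¹) * d) * m⁻¹ := by group
    rw [h2, h3, h1]
  have hKp : IsPGroup 2 (Subgroup.closure {x : G | ∃ m ∈ N, x = m * d * m⁻¹}) :=
    isPGroup_two_closure_of_comm _ hT2 hTc
  have hKN : ∀ m ∈ N, ∀ x ∈ Subgroup.closure {x : G | ∃ m ∈ N, x = m * d * m⁻¹},
      m * x * m⁻¹ ∈ Subgroup.closure {x : G | ∃ m ∈ N, x = m * d * m⁻¹} := by
    intro m hm x hx
    induction hx using Subgroup.closure_induction with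
    | mem t ht =>
      obtain ⟨k, hk, rfl⟩ := ht
      apply Subgroup.subset_closure
      exact ⟨m * k, N.mul_mem hm hk, by group⟩
    | one => simp
    | mul x y _ _ ihx ihy =>
      have : m * (x * y) * m⁻¹ = (m * x * m⁻¹) * (m * y * m⁻¹) := by group
      rw [this]
      exact Subgroup.mul_mem _ ihx ihy
    | inv x _ ih =>
      have : m * x⁻¹ * m⁻¹ = (m * x * m⁻¹)⁻¹ := by group
      rw [this]
      exact Subgroup.inv_mem _ ih
  have hMn : ((Subgroup.closure {x : G | ∃ m ∈ N, x = m * d * m⁻¹} ⊓ N).subgroupOf N).Normal := by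
    constructor
    intro x hx g
    rw [Subgroup.mem_subgroupOf] at hx ⊢
    refine ⟨?_, (g * x * g⁻¹).2⟩
    have := hKN g g.2 x hx.1
    simpa using this
  have hMsub : (Subgroup.closure {x : G | ∃ m ∈ N, x = m * d * m⁻¹} ⊓ N).IsSubnormal :=
    Subgroup.IsSubnormal.step _ N inf_le_right (Subgroup.Normal.isSubnormal hN) hMn
  have hMp : IsPGroup 2 (Subgroup.closure {x : G | ∃ m ∈ N, x = m * d * m⁻¹} ⊓ N : Subgroup G) :=
    hKp.to_le inf_le_left
  have hle := Cfsg.Agent.S4088.pgroup_subnormal_le_pCore 2 (Nat.card G) G rfl _ hMsub hMp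
  apply hle
  refine ⟨?_, ?_⟩
  · apply Subgroup.mul_mem
    · apply Subgroup.subset_closure
      exact ⟨1, N.one_mem, by simp⟩
    · apply Subgroup.subset_closure
      exact ⟨n, hn, rfl⟩
  · have h1 : d * n * d⁻¹ ∈ N := hN.conj_mem n hn d
    have h2 : d * (n * d * n⁻¹) = (d * n * d⁻¹) * n⁻¹ := by
      rw [hdinv]; group
    show d * (n * d * n⁻¹) ∈ N
    rw [h2]
    exact N.mul_mem h1 (N.inv_mem hn)

/-- `N ≤ O_{2,Z}(G)` -/
theorem le_twoZCore [Finite G] (hD : IsRootInvolutionSet D) (N : Subgroup G) [hN : N.Normal]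
    (hcomm : ∀ d ∈ D, ∀ n ∈ N, d * (n * d * n⁻¹) = (n * d * n⁻¹) * d) : N ≤ twoZCore G := by
  intro n hn
  show (QuotientGroup.mk' (pCore 2 G)) n ∈ Subgroup.center (G ⧸ pCore 2 G)
  rw [Subgroup.mem_center_iff]
  have hcl : ∀ g ∈ Subgroup.closure D,
      Commute ((QuotientGroup.mk' (pCore 2 G)) g) ((QuotientGroup.mk' (pCore 2 G)) n) := by
    intro g hg
    induction hg using Subgroup.closure_induction with
    | mem d hd =>
      have h1 := mul_conj_mem_pCore hD N hcomm hd hn
      have h2 : (QuotientGroup.mk' (pCore 2 G)) (d * (n * d * n⁻¹)) = 1 :=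
        (QuotientGroup.eq_one_iff _).2 h1
      have h3 : (QuotientGroup.mk' (pCore 2 G)) d * (QuotientGroup.mk' (pCore 2 G)) d = 1 := by
        rw [← map_mul, ri_mul_self hD hd, map_one]
      simp only [map_mul, map_inv] at h2
      -- πd * (πn * πd * πn⁻¹) = 1
      show (QuotientGroup.mk' (pCore 2 G)) d * (QuotientGroup.mk' (pCore 2 G)) n
        = (QuotientGroup.mk' (pCore 2 G)) n * (QuotientGroup.mk' (pCore 2 G)) d
      have h4 : (QuotientGroup.mk' (pCore 2 G)) n * (QuotientGroup.mk' (pCore 2 G)) d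
          * ((QuotientGroup.mk' (pCore 2 G)) n)⁻¹ = ((QuotientGroup.mk' (pCore 2 G)) d)⁻¹ :=
        eq_inv_of_mul_eq_one_right h2
      have h5 : ((QuotientGroup.mk' (pCore 2 G)) d)⁻¹ = (QuotientGroup.mk' (pCore 2 G)) d :=
        inv_eq_of_mul_eq_one_left h3
      rw [h5] at h4
      calc (QuotientGroup.mk' (pCore 2 G)) d * (QuotientGroup.mk' (pCore 2 G)) n
          = ((QuotientGroup.mk' (pCore 2 G)) n * (QuotientGroup.mk' (pCore 2 G)) d
              * ((QuotientGroup.mk' (pCore 2 G)) n)⁻¹) * (QuotientGroup.mk' (pCore 2 G)) n := by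
            rw [h4]
        _ = (QuotientGroup.mk' (pCore 2 G)) n * (QuotientGroup.mk' (pCore 2 G)) d := by group
    | one => simp
    | mul x y _ _ ihx ihy =>
      rw [map_mul]; exact Commute.mul_left ihx ihy
    | inv x _ ih =>
      rw [map_inv]; exact Commute.inv_left ih
  intro q
  obtain ⟨g, rfl⟩ := QuotientGroup.mk'_surjective (pCore 2 G) q
  exact hcl g (by rw [hD.generates]; exact Subgroup.mem_top g)

/-- `O_{2,Z}(G)` is solvable -/
theorem twoZCore_isSolvable [Finite G] : Group.IsSolvable (twoZCore G) := by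
  haveI : Fact (Nat.Prime 2) := ⟨Nat.prime_two⟩
  haveI hOn : (pCore 2 G).Normal := Cfsg.Agent.Lib.Helper1.pCore_normal 2
  have hOp : IsPGroup 2 (pCore 2 G) := Cfsg.Agent.Lib.Helper1.pCore_isPGroup 2
  haveI : Group.IsNilpotent (pCore 2 G) := hOp.isNilpotent
  have hOZ : pCore 2 G ≤ twoZCore G := by
    intro x hx
    show (QuotientGroup.mk' (pCore 2 G)) x ∈ Subgroup.center (G ⧸ pCore 2 G)
    have h0 : (QuotientGroup.mk' (pCore 2 G)) x = 1 := (QuotientGroup.eq_one_iff x).2 hx
    rw [h0]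
    exact Subgroup.one_mem _
  haveI : Group.IsSolvable (Subgroup.center (G ⧸ pCore 2 G)) :=
    Group.isSolvable_of_comm (fun a b => by
      apply Subtype.ext
      have := Subgroup.mem_center_iff.1 b.2 a.1
      simpa using this)
  refine Group.isSolvable_of_ker_le_range (Subgroup.inclusion hOZ)
    (((QuotientGroup.mk' (pCore 2 G)).comp (twoZCore G).subtype).codRestrict
      (Subgroup.center (G ⧸ pCore 2 G)) (fun z => z.2)) ?_
  intro z hz
  rw [MonoidHom.mem_ker] at hz
  have h1 : (z : G) ∈ pCore 2 G := by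
    have := congrArg Subtype.val hz
    simp only [MonoidHom.codRestrict_apply, MonoidHom.coe_comp, Function.comp_apply,
      Subgroup.coe_subtype, Subgroup.coe_one] at this
    exact (QuotientGroup.eq_one_iff _).1 this
  exact ⟨⟨z, h1⟩, Subtype.ext rfl⟩

end Cfsg.Agent.Lib.Helper26.RIN
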