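import Mathlib

set_option autoImplicit false

/-! S2128 FO-A1 (architect helper8): an injective endomorphism of a group `(K, +)`, semi-equivariant
for the multiplications, is `t ↦ c α(t)` with `α` a field automorphism. -/

namespace Cfsg.Agent.Lib.Helper26.S2128A

variable {K : Type*} [Field K]

/-- an injective additive map of a finite field which is semilinear for every unit is a constant
times a field automorphism -/
theorem semilinear_form [Finite K] (f : K → K) (fadd : ∀ s t, f (s + t) = f s + f t)
    (finj : Function.Injective f)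
    (hsemi : ∀ a : Kˣ, ∃ a' : Kˣ, ∀ t, f ((a : K) * t) = (a' : K) * f t) :
    ∃ α : K ≃+* K, f 1 ≠ 0 ∧ (∀ t, f t = f 1 * α t) ∧
      ∀ (a a' : Kˣ), (∀ t, f ((a : K) * t) = (a' : K) * f t) → (a' : K) = α a := by
  have f0 : f 0 = 0 := by
    have h := fadd 0 0
    rw [add_zero] at h
    exact left_eq_add.mp h
  have hc : f 1 ≠ 0 := by
    intro h
    rw [← f0] at h
    exact one_ne_zero (finj h)
  -- the multiplier
  have key : ∀ (a a' : Kˣ), (∀ t, f ((a : K) * t) = (a' : K) * f t) → (a' : K) = f a / f 1 := by
    intro a a' h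
    have := h 1
    rw [mul_one] at this
    rw [this, mul_div_assoc, div_self hc, mul_one]
  have hmul : ∀ a t : K, f (a * t) = f a / f 1 * f t := by
    intro a t
    by_cases ha : a = 0
    · rw [ha, zero_mul, f0, zero_div, zero_mul]
    · obtain ⟨a', ha'⟩ := hsemi (Units.mk0 a ha)
      have := key (Units.mk0 a ha) a' ha'
      rw [Units.val_mk0] at this
      rw [← this]
      have := ha' t
      rw [Units.val_mk0] at this
      exact this
  let α₀ : K →+* K :=
    { toFun := fun t => f t / f 1
      map_one' := div_self hc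
      map_mul' := by
        intro a b
        show f (a * b) / f 1 = f a / f 1 * (f b / f 1)
        rw [hmul a b]
        ring
      map_zero' := by
        show f 0 / f 1 = 0
        rw [f0, zero_div]
      map_add' := by
        intro a b
        show f (a + b) / f 1 = f a / f 1 + f b / f 1
        rw [fadd, add_div] }
  have hbij : Function.Bijective α₀ :=
    Finite.injective_iff_bijective.mp α₀.injective
  refine ⟨RingEquiv.ofBijective α₀ hbij, hc, ?_, ?_⟩
  · intro t
    show f t = f 1 * (f t / f 1)
    rw [mul_div_cancel₀ _ hc]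
  · intro a a' h
    exact key a a' h

end Cfsg.Agent.Lib.Helper26.S2128A

namespace Cfsg.Agent.Lib.Helper8.Chev

section Alg

variable {K : Type*} [Field K]

/-- FO-A1: an injective endomorphism of a group `(K, +)`, semi-equivariant for the
multiplications, is `t ↦ c α(t)` -/
theorem add_aut_form [Finite K] {Γ : Type*} [Group Γ] {x : K → Γ}
    (hadd : ∀ s t, x (s + t) = x s * x t) (hinj : Function.Injective x)
    (Θ : Γ →* Γ) (hΘinj : Function.Injective Θ) (hΘ : ∀ t, ∃ t', Θ (x t) = x t')
    (heq : ∀ a : Kˣ, ∃ a' : Kˣ, ∀ t t', Θ (x t) = x t' → Θ (x ((a : K) * t)) = x ((a' : K) * t')) :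
    ∃ (c : K) (α : K ≃+* K), c ≠ 0 ∧ ∀ t, Θ (x t) = x (c * α t) := by
  choose f hf using hΘ
  have fadd : ∀ s t, f (s + t) = f s + f t := by
    intro s t
    apply hinj
    rw [← hf, hadd, map_mul, hf, hf, hadd]
  have finj : Function.Injective f := by
    intro s t h
    apply hinj
    apply hΘinj
    rw [hf, hf, h]
  have hsemi : ∀ a : Kˣ, ∃ a' : Kˣ, ∀ t, f ((a : K) * t) = (a' : K) * f t := by
    intro a
    obtain ⟨a', ha'⟩ := heq a
    refine ⟨a', fun t => ?_⟩
    apply hinj
    rw [← hf, ha' t (f t) (hf t)]
  obtain ⟨α, hc, hform, _⟩ := Cfsg.Agent.Lib.Helper26.S2128A.semilinear_form f fadd finj hsemi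
  refine ⟨f 1, α, hc, fun t => ?_⟩
  rw [hf, hform t]

end Alg

end Cfsg.Agent.Lib.Helper8.Chev
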