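import Mathlib
import Cfsg.Agent.Lib.Helper8.ChevTg12
import Cfsg.Agent.Lib.Helper26.S2128_A1

set_option autoImplicit false

/-! S2128 FO-A2 (architect helper8): an injective endomorphism of a Suzuki root group,
semi-equivariant for the torus, is `(t, u) ↦ (c α(t), c^{1+θ} α(u))`. -/

namespace Cfsg.Agent.Lib.Helper8.Chev

section Alg

variable {K : Type*} [Field K]

/-- FO-A2: an injective endomorphism of a Suzuki root group, semi-equivariant for the torus,
is `(t, u) ↦ (c α(t), c^{1+θ} α(u))` -/
theorem suz_aut_form [Fintype K] {m : ℕ} (hm : 1 ≤ m) (hK : Fintype.card K = 2 ^ (2 * m + 1))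
    {Γ : Type*} [Group Γ] {x : K → K → Γ} {θ : K →+* K} (hθ : ∀ t, θ t = t ^ 2 ^ m)
    (hx : SuzLaw θ x) (hinj : ∀ t u t' u', x t u = x t' u' → t = t' ∧ u = u')
    (Θ : Γ →* Γ) (hΘinj : Function.Injective Θ) (hΘ : ∀ t u, ∃ t' u', Θ (x t u) = x t' u')
    (heq : ∀ b : Kˣ, ∃ b' : Kˣ, ∀ t u t' u', Θ (x t u) = x t' u' →
      Θ (x ((b : K) * t) ((b : K) * (b : K) ^ 2 ^ m * u)) =
        x ((b' : K) * t') ((b' : K) * (b' : K) ^ 2 ^ m * u')) :
    ∃ (c : K) (α : K ≃+* K), c ≠ 0 ∧
      ∀ t u, Θ (x t u) = x (c * α t) (c * c ^ 2 ^ m * α u) := by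
  classical
  -- characteristic two
  have h2 : (2 : K) = 0 := by
    have h := Nat.cast_card_eq_zero K
    rw [hK] at h
    push_cast at h
    exact pow_eq_zero_iff (by omega) |>.mp h
  have hdbl : ∀ a : K, a + a = 0 := by
    intro a
    rw [← two_mul, h2, zero_mul]
  have hneg : ∀ a b : K, a + b = 0 → a = b := by
    intro a b h
    have : a = -b := eq_neg_of_add_eq_zero_left h
    rw [this, neg_eq_iff_add_eq_zero]
    exact hdbl b
  -- `θ² ` is the inverse of squaring
  have hθθ : ∀ t : K, (θ (θ t)) ^ 2 = t := by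
    intro t
    rw [hθ, hθ, ← pow_mul, ← pow_mul]
    have : 2 ^ m * (2 ^ m * 2) = 2 ^ (2 * m + 1) := by
      rw [← pow_succ, ← pow_add]
      congr 1
      omega
    rw [this, ← hK, FiniteField.pow_card]
  have hfix : ∀ t : K, θ t = t → t = 0 ∨ t = 1 := by
    intro t ht
    have h := hθθ t
    rw [ht, ht] at h
    have : t * (t - 1) = 0 := by
      rw [mul_sub, mul_one, ← pow_two, h, sub_self]
    rcases mul_eq_zero.mp this with h | h
    · exact Or.inl h
    · exact Or.inr (sub_eq_zero.mp h)
  have hθ0 : ∀ t : K, θ t = 0 → t = 0 := by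
    intro t ht
    exact (map_eq_zero θ).mp ht
  -- the norm map `t ↦ θ t * t` is bijective
  have hNinj : Function.Injective (fun t : K => θ t * t) := by
    intro r s h
    simp only at h
    by_cases hs : s = 0
    · rw [hs, map_zero, zero_mul] at h
      rcases mul_eq_zero.mp h with h | h
      · rw [hs]; exact hθ0 r h
      · rw [hs]; exact h
    · have hρ : θ (r / s) * (r / s) = 1 := by
        rw [map_div₀, div_mul_div_comm, h, div_self]
        exact mul_ne_zero (fun h0 => hs (hθ0 s h0)) hs
      set ρ := r / s with hρdef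
      have hρ0 : ρ ≠ 0 := by
        intro h0
        rw [h0, mul_zero] at hρ
        exact zero_ne_one hρ
      have e1 : θ ρ = ρ⁻¹ := eq_inv_of_mul_eq_one_left hρ
      have e2 : θ (θ ρ) = ρ := by
        rw [e1, map_inv₀, e1, inv_inv]
      have e3 := hθθ ρ
      rw [e2] at e3
      have : ρ * (ρ - 1) = 0 := by
        rw [mul_sub, mul_one, ← pow_two, e3, sub_self]
      rcases mul_eq_zero.mp this with h' | h'
      · exact absurd h' hρ0
      · have : ρ = 1 := sub_eq_zero.mp h'
        rw [hρdef, div_eq_one_iff_eq hs] at this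
        exact this
  have hNsurj : Function.Surjective (fun t : K => θ t * t) :=
    Finite.injective_iff_surjective.mp hNinj
  -- the group law
  have hsplit : ∀ t u, x t u = x t 0 * x 0 u := by
    intro t u
    rw [hx t 0 0 u, add_zero, zero_add, mul_zero, add_zero]
  have hsq : ∀ t u, x t u * x t u = x 0 (θ t * t) := by
    intro t u
    rw [hx t u t u, hdbl, hdbl, zero_add]
  have hcen : ∀ u u', x 0 u * x 0 u' = x 0 (u + u') := by
    intro u u'
    rw [hx 0 u 0 u', add_zero, map_zero, zero_mul, add_zero]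
  have hprod : ∀ t t', x t 0 * x t' 0 = x (t + t') (θ t * t') := by
    intro t t'
    rw [hx t 0 t' 0, add_zero, zero_add]
  -- the coordinates of the images
  choose F1 F2 hF using hΘ
  have hF10 : ∀ u, F1 0 u = 0 := by
    intro u
    obtain ⟨s, hs⟩ := hNsurj u
    simp only at hs
    have e : x 0 u = x s 0 * x s 0 := by rw [hsq, hs]
    have := hF 0 u
    rw [e, map_mul, hF s 0, hsq] at this
    exact ((hinj _ _ _ _ this).1).symm
  set g₀ : K → K := fun u => F2 0 u with hg₀
  set f : K → K := fun t => F1 t 0 with hf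
  set lam : K → K := fun t => F2 t 0 with hlam
  have hcenΘ : ∀ u, Θ (x 0 u) = x 0 (g₀ u) := by
    intro u
    rw [hF 0 u, hF10 u]
  have hmain : ∀ t u, Θ (x t u) = x (f t) (lam t + g₀ u) := by
    intro t u
    rw [hsplit t u, map_mul, hF t 0, hcenΘ u, hx, add_zero, mul_zero, add_zero]
  have g₀add : ∀ u u', g₀ (u + u') = g₀ u + g₀ u' := by
    intro u u'
    have := hcenΘ (u + u')
    rw [← hcen, map_mul, hcenΘ, hcenΘ, hcen] at this
    exact ((hinj _ _ _ _ this).2).symm
  have g₀inj : Function.Injective g₀ := by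
    intro u u' h
    have : Θ (x 0 u) = Θ (x 0 u') := by rw [hcenΘ, hcenΘ, h]
    exact (hinj _ _ _ _ (hΘinj this)).2
  have g₀surj : Function.Surjective g₀ := Finite.injective_iff_surjective.mp g₀inj
  have g₀0 : g₀ 0 = 0 := by
    have h := g₀add 0 0
    rw [add_zero] at h
    exact left_eq_add.mp h
  -- the image of a product
  have hpr : ∀ t t', f (t + t') = f t + f t' ∧
      lam (t + t') + g₀ (θ t * t') = lam t + lam t' + θ (f t) * f t' := by
    intro t t'
    have := hmain (t + t') (θ t * t')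
    rw [← hprod, map_mul, hF t 0, hF t' 0, hx] at this
    have := hinj _ _ _ _ this
    exact ⟨this.1.symm, this.2.symm⟩
  have fadd : ∀ t t', f (t + t') = f t + f t' := fun t t' => (hpr t t').1
  have hstar : ∀ t t', lam (t + t') + g₀ (θ t * t') = lam t + lam t' + θ (f t) * f t' :=
    fun t t' => (hpr t t').2
  have finj : Function.Injective f := by
    intro s s' h
    have h0 : f (s + s') = 0 := by rw [fadd, h, hdbl]
    obtain ⟨u, hu⟩ := g₀surj (lam (s + s'))
    have e : Θ (x (s + s') 0) = Θ (x 0 u) := by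
      rw [hcenΘ, hu, hF (s + s') 0]
      show x (f (s + s')) (lam (s + s')) = _
      rw [h0]
    have := (hinj _ _ _ _ (hΘinj e)).1
    exact hneg s s' this
  -- semilinearity
  have hsemi : ∀ b : Kˣ, ∃ b' : Kˣ, (∀ t, f ((b : K) * t) = (b' : K) * f t) ∧
      (∀ t, lam ((b : K) * t) = (b' : K) * θ (b' : K) * lam t) ∧
      ∀ u, g₀ ((b : K) * θ (b : K) * u) = (b' : K) * θ (b' : K) * g₀ u := by
    intro b
    obtain ⟨b', hb'⟩ := heq b
    refine ⟨b', ?_, ?_, ?_⟩
    · intro t
      have := hb' t 0 _ _ (hF t 0)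
      rw [mul_zero, hF] at this
      exact (hinj _ _ _ _ this).1
    · intro t
      have := hb' t 0 _ _ (hF t 0)
      rw [mul_zero, hF] at this
      rw [hθ (b' : K)]
      exact (hinj _ _ _ _ this).2
    · intro u
      have := hb' 0 u _ _ (hcenΘ u)
      rw [mul_zero, mul_zero, hcenΘ] at this
      rw [hθ (b : K), hθ (b' : K)]
      exact (hinj _ _ _ _ this).2
  obtain ⟨α, hc, hform, hαb⟩ := Cfsg.Agent.Lib.Helper26.S2128A.semilinear_form f fadd finj
    (fun b => by
      obtain ⟨b', h1, _⟩ := hsemi b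
      exact ⟨b', h1⟩)
  have hαθ : ∀ t : K, α (θ t) = θ (α t) := by
    intro t
    rw [hθ, hθ, map_pow]
  have hsemi' : ∀ b : K, b ≠ 0 → (∀ t, lam (b * t) = α b * θ (α b) * lam t) ∧
      ∀ u, g₀ (b * θ b * u) = α b * θ (α b) * g₀ u := by
    intro b hb
    obtain ⟨b', h1, h2', h3⟩ := hsemi (Units.mk0 b hb)
    have e := hαb (Units.mk0 b hb) b' h1
    rw [Units.val_mk0] at e h2' h3
    rw [e] at h2' h3
    exact ⟨h2', h3⟩
  -- the form of `g₀`
  have hg₀form : ∀ s : K, g₀ s = α s * g₀ 1 := by
    intro s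
    by_cases hs : s = 0
    · rw [hs, g₀0, map_zero, zero_mul]
    · obtain ⟨b, hb⟩ := hNsurj s
      simp only at hb
      have hb0 : b ≠ 0 := by
        intro h0
        rw [h0, mul_zero] at hb
        exact hs hb.symm
      have := (hsemi' b hb0).2 1
      rw [mul_one, mul_comm b (θ b), hb] at this
      rw [this, ← hb, map_mul, hαθ, mul_comm (α b)]
  -- an element outside the prime field
  have hex : ∃ X : K, X ≠ 0 ∧ X ≠ 1 := by
    by_contra hcon
    push Not at hcon
    have hle : Fintype.card K ≤ 2 := by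
      calc Fintype.card K = (Finset.univ : Finset K).card := rfl
        _ ≤ ({0, 1} : Finset K).card := by
          apply Finset.card_le_card
          intro X _
          by_cases h0 : X = 0
          · simp [h0]
          · simp [hcon X h0]
        _ ≤ 2 := Finset.card_le_two
    rw [hK] at hle
    have : 2 ^ 3 ≤ 2 ^ (2 * m + 1) := Nat.pow_le_pow_right (by norm_num) (by omega)
    omega
  obtain ⟨X, hX0, hX1⟩ := hex
  have hXθ : θ X + X ≠ 0 := by
    intro h
    rcases hfix X (hneg _ _ h) with h | h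
    · exact hX0 h
    · exact hX1 h
  -- the constant of `g₀`
  set c := f 1 with hcdef
  have hfθ : ∀ t t', θ (f t) * f t' = c * θ c * α (θ t * t') := by
    intro t t'
    rw [hform t, hform t', map_mul, map_mul, hαθ]
    ring
  have hd : g₀ 1 = c * θ c := by
    have e1 := hstar X 1
    have e2 := hstar 1 X
    rw [add_comm 1 X] at e2
    rw [hfθ] at e1 e2
    rw [hg₀form] at e1 e2
    simp only [mul_one, map_one, one_mul] at e1 e2
    -- subtracting
    have e4 : (α (θ X) - α X) * (g₀ 1 - c * θ c) = 0 := by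
      linear_combination e1 - e2
    rcases mul_eq_zero.mp e4 with h | h
    · exfalso
      have h' : α (θ X) = α X := sub_eq_zero.mp h
      have h'' : θ X = X := α.injective h'
      rcases hfix X h'' with h0 | h0
      · exact hX0 h0
      · exact hX1 h0
    · exact sub_eq_zero.mp h
  -- `lam` is additive
  have lamadd : ∀ t t', lam (t + t') = lam t + lam t' := by
    intro t t'
    have e := hstar t t'
    rw [hfθ, hg₀form, hd] at e
    have : α (θ t * t') * (c * θ c) = c * θ c * α (θ t * t') := by ring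
    rw [this] at e
    exact add_right_cancel e
  -- `lam` vanishes
  have lam0 : ∀ t, lam t = 0 := by
    intro t₀
    set b₁ := α.symm X with hb₁
    have hαb₁ : α b₁ = X := by rw [hb₁, RingEquiv.apply_symm_apply]
    have hb₁0 : b₁ ≠ 0 := by
      intro h
      rw [h, map_zero] at hαb₁
      exact hX0 hαb₁.symm
    have hb₁1 : b₁ + 1 ≠ 0 := by
      intro h
      have := hneg _ _ h
      rw [this, map_one] at hαb₁
      exact hX1 hαb₁.symm
    have e1 := (hsemi' b₁ hb₁0).1 t₀
    have e2 := (hsemi' (b₁ + 1) hb₁1).1 t₀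
    rw [hαb₁] at e1
    rw [map_add, hαb₁, map_one, map_add, map_one, add_mul, one_mul, lamadd, e1] at e2
    have e3 : (θ X + X) * lam t₀ = 0 := by
      linear_combination -e2
    rcases mul_eq_zero.mp e3 with h | h
    · exact absurd h hXθ
    · exact h
  refine ⟨c, α, hc, fun t u => ?_⟩
  rw [hmain, lam0, zero_add, hform t, hg₀form, hd, ← hθ c]
  congr 1
  ring

end Alg

end Cfsg.Agent.Lib.Helper8.Chev
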