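import Cfsg.Agent.Lib.Helper8.ChevTc4
import Cfsg.Agent.Lib.Helper8.ChevTd0

set_option autoImplicit false

/-! S2128 FO-R (architect helper8): rigidity. -/

namespace Cfsg.Agent.Lib.Helper8.Chev

open Cfsg.Lie Matrix

namespace XBN

variable {D : ChevalleyDatum} {F : Type*} [Field F] {σ : GL D.Idx F → GL D.Idx F}
  {bar ρ E : ℕ → ℕ} {X : XEnd D F σ bar ρ E} {cls : List (List ℕ)}
  {G1 : Subgroup (GL D.Idx F)}

/-- an element of `X_c¹` normalizing `n_c X_c¹ n_c⁻¹` is trivial -/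
theorem eq_one_of_normalizes (Y : XBN X cls G1) {c : List ℕ} (hc : c ∈ cls) {u : GL D.Idx F}
    (hu : u ∈ UnegW D F c ⊓ G1)
    (hn : ∀ y ∈ YW D F c ⊓ G1, u⁻¹ * y * u ∈ YW D F c) : u = 1 := by
  have hD := X.hD
  have hcok := Y.cls_ok c hc
  have hnG := Y.cls_n c hc
  obtain ⟨huc, huG⟩ := Subgroup.mem_inf.mp hu
  by_contra hu1
  -- `(nP D F c)⁻¹ u⁻¹ (nP D F c) = (nP D F c) x₀ (nP D F c)⁻¹` with `x₀ = ((nP D F c) (nP D F c))⁻¹ u⁻¹ ((nP D F c) (nP D F c))`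
  have hh : nP D F c * nP D F c ∈ D.diagonalSubgroup F := Y.nP_cls_sq hc
  have hx₀c : ((nP D F c) * (nP D F c))⁻¹ * u⁻¹ * ((nP D F c) * (nP D F c))⁻¹⁻¹ ∈ UnegW D F c :=
    torus_conj_unegW hD c (inv_mem hh) (inv_mem huc)
  have hx₀G : ((nP D F c) * (nP D F c))⁻¹ * u⁻¹ * ((nP D F c) * (nP D F c))⁻¹⁻¹ ∈ G1 :=
    mul_mem (mul_mem (inv_mem (mul_mem hnG hnG)) (inv_mem huG)) (inv_mem (inv_mem (mul_mem hnG hnG)))
  have hx₀1 : ((nP D F c) * (nP D F c))⁻¹ * u⁻¹ * ((nP D F c) * (nP D F c))⁻¹⁻¹ ≠ 1 := by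
    intro h
    apply hu1
    have : u = (((nP D F c) * (nP D F c)) * (((nP D F c) * (nP D F c))⁻¹ * u⁻¹ * ((nP D F c) * (nP D F c))⁻¹⁻¹) * ((nP D F c) * (nP D F c))⁻¹)⁻¹ := by group
    rw [this, h]
    group
  obtain ⟨b₁, hb₁, b₂, hb₂, e1⟩ :=
    Y.conj_cls_mem_cell hc (Subgroup.mem_inf.mpr ⟨hx₀c, hx₀G⟩) hx₀1
  obtain ⟨b, hb, x', hx', e2⟩ := Y.cell_form hc hb₁ hb₂
  obtain ⟨hbB, hbG⟩ := Subgroup.mem_inf.mp hb
  obtain ⟨hx'c, hx'G⟩ := Subgroup.mem_inf.mp hx'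
  have e3 : (nP D F c)⁻¹ * u⁻¹ * (nP D F c) = b * (nP D F c) * x' := by
    rw [← e2, ← e1]
    group
  -- the element `y = (nP D F c) x'⁻¹ (nP D F c)⁻¹` of `Y_c¹`
  have hy : (nP D F c) * x'⁻¹ * (nP D F c)⁻¹ ∈ YW D F c ⊓ G1 :=
    Subgroup.mem_inf.mpr ⟨mem_YW.mpr ⟨x'⁻¹, inv_mem hx'c, rfl⟩,
      mul_mem (mul_mem hnG (inv_mem hx'G)) (inv_mem hnG)⟩
  have hy' := hn _ hy
  obtain ⟨u'', hu'', e4⟩ := mem_YW.mp hy'
  have hy'V : u⁻¹ * ((nP D F c) * x'⁻¹ * (nP D F c)⁻¹) * u ∈ D.negUnipotent F := by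
    rw [e4]
    exact conj_unegW_neg hD hcok.lt hu''
  have hbb : u⁻¹ * b⁻¹ ∈ D.borelSubgroup F :=
    mul_mem (inv_mem (pos_le_borel (unegW_le_pos hD hcok.lt huc))) (inv_mem hbB)
  apply Y.nP_cls_not_mem_neg_mul_borel hc hy'V hbb
  -- `(nP D F c) = y' u⁻¹ b⁻¹`
  have e5 : b⁻¹ = (nP D F c) * x' * (nP D F c)⁻¹ * u * (nP D F c) := by
    have : b = (nP D F c)⁻¹ * u⁻¹ * (nP D F c) * x'⁻¹ * (nP D F c)⁻¹ := by
      rw [e3]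
      group
    rw [this]
    group
  rw [e5]
  group

/-- an automorphism preserving `U¹`, `V¹` and fixing `X_c¹` pointwise fixes `n_c X_c¹ n_c⁻¹`
pointwise, when `n_c ∈ X_c¹ V X_c¹` -/
theorem rigid [Finite F] [Finite ↥G1] (Y : XBN X cls G1) {θ : MulAut ↥G1}
    (hU : PresT θ (D.posUnipotent F)) (hV : PresT θ (D.negUnipotent F))
    {c : List ℕ} (hc : c ∈ cls) (hY : PresT θ (YW D F c))
    (hfix : ∀ g : ↥G1, (g : GL D.Idx F) ∈ UnegW D F c → θ g = g)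
    (hdec : ∃ x₁ ∈ UnegW D F c ⊓ G1, ∃ x₂ ∈ UnegW D F c ⊓ G1, ∃ y ∈ D.negUnipotent F,
      nP D F c = x₁ * y * x₂) :
    ∀ g : ↥G1, (g : GL D.Idx F) ∈ YW D F c → θ g = g := by
  have hD := X.hD
  have hcok := Y.cls_ok c hc
  have hnG := Y.cls_n c hc
  have hh : nP D F c * nP D F c ∈ D.diagonalSubgroup F := Y.nP_cls_sq hc
  obtain ⟨x₁, hx₁, x₂, hx₂, y, hyV, e0⟩ := hdec
  obtain ⟨hx₁c, hx₁G⟩ := Subgroup.mem_inf.mp hx₁
  obtain ⟨hx₂c, hx₂G⟩ := Subgroup.mem_inf.mp hx₂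
  have hyG : y ∈ G1 := by
    have : y = x₁⁻¹ * (nP D F c) * x₂⁻¹ := by rw [e0]; group
    rw [this]
    exact mul_mem (mul_mem (inv_mem hx₁G) hnG) (inv_mem hx₂G)
  -- `y ∈ Y_c`
  have hx₁B : x₁⁻¹ ∈ D.borelSubgroup F ⊓ G1 :=
    Subgroup.mem_inf.mpr ⟨inv_mem (pos_le_borel (unegW_le_pos hD hcok.lt hx₁c)), inv_mem hx₁G⟩
  have hx₂B : x₂⁻¹ ∈ D.borelSubgroup F ⊓ G1 :=
    Subgroup.mem_inf.mpr ⟨inv_mem (pos_le_borel (unegW_le_pos hD hcok.lt hx₂c)), inv_mem hx₂G⟩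
  have hyY : y ∈ YW D F c := by
    obtain ⟨x₃, hx₃, e⟩ := Y.neg_inf_cell hc hyV hx₁B hx₂B (by rw [e0]; group)
    exact mem_YW.mpr ⟨x₃, (Subgroup.mem_inf.mp hx₃).1, e⟩
  -- elements of `G¹`
  set nG : ↥G1 := ⟨(nP D F c), hnG⟩ with hnG_def
  set x₁G : ↥G1 := ⟨x₁, hx₁G⟩ with hx₁G_def
  set x₂G : ↥G1 := ⟨x₂, hx₂G⟩ with hx₂G_def
  set yG : ↥G1 := ⟨y, hyG⟩ with hyG_def
  have enG : nG = x₁G * yG * x₂G := Subtype.ext e0
  have hθx₁ : θ x₁G = x₁G := hfix x₁G hx₁c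
  have hθx₂ : θ x₂G = x₂G := hfix x₂G hx₂c
  have hθn : θ nG = x₁G * θ yG * x₂G := by
    rw [enG, map_mul, map_mul, hθx₁, hθx₂]
  -- `w = (nP D F c)⁻¹ θ((nP D F c))` maps `X_c¹` into itself
  have hw : ∀ x : ↥G1, (x : GL D.Idx F) ∈ UnegW D F c →
      ((nG⁻¹ * θ nG * x * (nG⁻¹ * θ nG)⁻¹ : ↥G1) : GL D.Idx F) ∈ UnegW D F c := by
    intro x hx
    have h1 : ((nG * x * nG⁻¹ : ↥G1) : GL D.Idx F) ∈ YW D F c :=
      mem_YW.mpr ⟨x, hx, rfl⟩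
    have h2 := hY _ h1
    rw [map_mul, map_mul, map_inv, hfix x hx] at h2
    obtain ⟨x'', hx'', e⟩ := mem_YW.mp h2
    have : ((nG⁻¹ * θ nG * x * (nG⁻¹ * θ nG)⁻¹ : ↥G1) : GL D.Idx F) =
        (nP D F c)⁻¹ * ((θ nG * x * (θ nG)⁻¹ : ↥G1) : GL D.Idx F) * (nP D F c) := by
      simp only [Subgroup.coe_mul, Subgroup.coe_inv, hnG_def]
      group
    rw [this, e]
    have : (nP D F c)⁻¹ * ((nP D F c) * x'' * (nP D F c)⁻¹) * (nP D F c) = x'' := by group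
    rw [this]
    exact hx''
  -- `z = y⁻¹ θ(y)`
  set zG : ↥G1 := yG⁻¹ * θ yG with hzG_def
  have hzY : (zG : GL D.Idx F) ∈ YW D F c := by
    rw [hzG_def, Subgroup.coe_mul, Subgroup.coe_inv]
    exact mul_mem (inv_mem hyY) (hY yG hyY)
  have hzw : zG = x₂G * (nG⁻¹ * θ nG) * x₂G⁻¹ := by
    rw [hθn, enG, hzG_def]
    group
  have hz : ∀ x : ↥G1, (x : GL D.Idx F) ∈ UnegW D F c →
      ((zG * x * zG⁻¹ : ↥G1) : GL D.Idx F) ∈ UnegW D F c := by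
    intro x hx
    have h1 : ((x₂G⁻¹ * x * x₂G : ↥G1) : GL D.Idx F) ∈ UnegW D F c := by
      simp only [Subgroup.coe_mul, Subgroup.coe_inv, hx₂G_def]
      exact mul_mem (mul_mem (inv_mem hx₂c) hx) hx₂c
    have h2 := hw _ h1
    have : zG * x * zG⁻¹ =
        x₂G * (nG⁻¹ * θ nG * (x₂G⁻¹ * x * x₂G) * (nG⁻¹ * θ nG)⁻¹) * x₂G⁻¹ := by
      rw [hzw]
      group
    rw [this, Subgroup.coe_mul, Subgroup.coe_mul, Subgroup.coe_inv]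
    exact mul_mem (mul_mem hx₂c h2) (inv_mem hx₂c)
  -- `z = (nP D F c) u (nP D F c)⁻¹`
  obtain ⟨u, huc, ezu⟩ := mem_YW.mp hzY
  have huG : u ∈ G1 := by
    have : u = (nP D F c)⁻¹ * (zG : GL D.Idx F) * (nP D F c) := by rw [ezu]; group
    rw [this]
    exact mul_mem (mul_mem (inv_mem hnG) zG.2) hnG
  have hu1 : u⁻¹ = 1 := by
    apply Y.eq_one_of_normalizes hc (Subgroup.mem_inf.mpr ⟨inv_mem huc, inv_mem huG⟩)
    intro y' hy'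
    obtain ⟨hy'Y, hy'G⟩ := Subgroup.mem_inf.mp hy'
    obtain ⟨x, hx, ey'⟩ := mem_YW.mp hy'Y
    have hxG : x ∈ G1 := by
      have : x = (nP D F c)⁻¹ * y' * (nP D F c) := by rw [ey']; group
      rw [this]
      exact mul_mem (mul_mem (inv_mem hnG) hy'G) hnG
    -- `h x h⁻¹` with `h = (nP D F c) (nP D F c)`
    have hx2 : ((nP D F c) * (nP D F c)) * x * ((nP D F c) * (nP D F c))⁻¹ ∈ UnegW D F c := torus_conj_unegW hD c hh hx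
    have hx2G : ((nP D F c) * (nP D F c)) * x * ((nP D F c) * (nP D F c))⁻¹ ∈ G1 :=
      mul_mem (mul_mem (mul_mem hnG hnG) hxG) (inv_mem (mul_mem hnG hnG))
    have h3 := hz ⟨_, hx2G⟩ hx2
    rw [Subgroup.coe_mul, Subgroup.coe_mul, Subgroup.coe_inv] at h3
    have h4 := torus_conj_unegW hD c (inv_mem hh) h3
    rw [mem_YW]
    refine ⟨_, h4, ?_⟩
    rw [ey', ezu]
    simp only [inv_inv]
    group
  have hu1' : u = 1 := inv_eq_one.mp hu1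
  have hz1 : zG = 1 := by
    apply Subtype.ext
    rw [ezu, hu1']
    simp
  have hθy : θ yG = yG := by
    have : θ yG = yG * zG := by rw [hzG_def]; group
    rw [this, hz1, mul_one]
  have hθn' : θ nG = nG := by rw [hθn, hθy, ← enG]
  intro g hg
  obtain ⟨x, hx, eg⟩ := mem_YW.mp hg
  have hxG : x ∈ G1 := by
    have : x = (nP D F c)⁻¹ * (g : GL D.Idx F) * (nP D F c) := by rw [eg]; group
    rw [this]
    exact mul_mem (mul_mem (inv_mem hnG) g.2) hnG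
  have eg' : g = nG * ⟨x, hxG⟩ * nG⁻¹ := Subtype.ext eg
  rw [eg', map_mul, map_mul, map_inv, hθn', hfix ⟨x, hxG⟩ hx]

end XBN

end Cfsg.Agent.Lib.Helper8.Chev
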