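import Mathlib
import Cfsg.Prelude.Def_Classical

set_option autoImplicit false

/-! S3589 farm-out FO-3: an explicit isometry of order 8 of the six-dimensional quadratic form
`x₀y₀ + x₁y₁ + (z₁² + a z₁z₂ + b z₂²)` in characteristic 2. -/

namespace Cfsg.Agent.Lib.Helper26.S3589

variable {F : Type*} [Field F]

/-- a vector from its six coordinates -/
def mk6 (x0 x1 y0 y1 z1 z2 : F) : ((Fin 2 ⊕ Fin 2) ⊕ Fin 2) → F :=
  Sum.elim (Sum.elim ![x0, x1] ![y0, y1]) ![z1, z2]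

/-- the isometry (`c` is the inverse of `a`) -/
def gfun (a b c : F) (v : ((Fin 2 ⊕ Fin 2) ⊕ Fin 2) → F) : ((Fin 2 ⊕ Fin 2) ⊕ Fin 2) → F :=
  mk6 (v (.inl (.inl 0)) + a * v (.inl (.inl 1)) + b * v (.inr 1) + b ^ 2 * c ^ 2 * v (.inl (.inr 0)))
    (v (.inl (.inl 1)) + v (.inr 0) + b * c ^ 2 * v (.inl (.inr 1)))
    (v (.inl (.inr 0)))
    (v (.inl (.inr 1)) + a * v (.inl (.inr 0)))
    (v (.inr 0) + a * v (.inr 1) + v (.inl (.inr 1)) + (a + b * c) * v (.inl (.inr 0)))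
    (v (.inr 1) + c * v (.inl (.inr 1)) + v (.inl (.inr 0)))

/-- its square -/
def g2fun (a b : F) (v : ((Fin 2 ⊕ Fin 2) ⊕ Fin 2) → F) : ((Fin 2 ⊕ Fin 2) ⊕ Fin 2) → F :=
  mk6 (v (.inl (.inl 0)) + b * v (.inl (.inr 0)) + a * v (.inr 0))
    (v (.inl (.inl 1)) + a * v (.inl (.inr 0)) + v (.inl (.inr 1)) + a * v (.inr 1))
    (v (.inl (.inr 0)))
    (v (.inl (.inr 1)))
    (v (.inr 0) + v (.inl (.inr 1)))
    (v (.inr 1) + v (.inl (.inr 0)))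

/-- its fourth power -/
def g4fun (a : F) (v : ((Fin 2 ⊕ Fin 2) ⊕ Fin 2) → F) : ((Fin 2 ⊕ Fin 2) ⊕ Fin 2) → F :=
  mk6 (v (.inl (.inl 0)) + a * v (.inl (.inr 1)))
    (v (.inl (.inl 1)) + a * v (.inl (.inr 0)))
    (v (.inl (.inr 0)))
    (v (.inl (.inr 1)))
    (v (.inr 0))
    (v (.inr 1))

theorem g_g (a b c : F) (h2 : (2 : F) = 0) (hac : a * c = 1)
    (v : ((Fin 2 ⊕ Fin 2) ⊕ Fin 2) → F) : gfun a b c (gfun a b c v) = g2fun a b v := by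
  generalize hX0 : v (.inl (.inl 0)) = X0
  generalize hX1 : v (.inl (.inl 1)) = X1
  generalize hY0 : v (.inl (.inr 0)) = Y0
  generalize hY1 : v (.inl (.inr 1)) = Y1
  generalize hz1 : v (.inr 0) = z1
  generalize hz2 : v (.inr 1) = z2
  funext i
  rcases i with (i | i) | i <;> fin_cases i
  · simp [gfun, g2fun, mk6, hX0, hX1, hY0, hY1, hz1, hz2]
    linear_combination (b*z2 + b*c*Y1 + b^2*c^2*Y0 + a*X1) * h2 + (b*c*Y1) * hac
  · simp [gfun, g2fun, mk6, hX0, hX1, hY0, hY1, hz1, hz2]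
    linear_combination (z1 + b*c*Y0 + b*c^2*Y1) * h2 + (b*c*Y0) * hac
  · simp [gfun, g2fun, mk6, hX0, hX1, hY0, hY1, hz1, hz2]
  · simp [gfun, g2fun, mk6, hX0, hX1, hY0, hY1, hz1, hz2]
    linear_combination (a*Y0) * h2
  · simp [gfun, g2fun, mk6, hX0, hX1, hY0, hY1, hz1, hz2]
    linear_combination (Y1 + b*c*Y0 + a*z2 + 2*a*Y0) * h2 + (Y1) * hac
  · simp [gfun, g2fun, mk6, hX0, hX1, hY0, hY1, hz1, hz2]
    linear_combination (Y0 + c*Y1) * h2 + (Y0) * hac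

theorem g2_g2 (a b : F) (h2 : (2 : F) = 0)
    (v : ((Fin 2 ⊕ Fin 2) ⊕ Fin 2) → F) : g2fun a b (g2fun a b v) = g4fun a v := by
  generalize hX0 : v (.inl (.inl 0)) = X0
  generalize hX1 : v (.inl (.inl 1)) = X1
  generalize hY0 : v (.inl (.inr 0)) = Y0
  generalize hY1 : v (.inl (.inr 1)) = Y1
  generalize hz1 : v (.inr 0) = z1
  generalize hz2 : v (.inr 1) = z2
  funext i
  rcases i with (i | i) | i <;> fin_cases i
  · simp [g2fun, g4fun, mk6, hX0, hX1, hY0, hY1, hz1, hz2]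
    linear_combination (b*Y0 + a*z1) * h2
  · simp [g2fun, g4fun, mk6, hX0, hX1, hY0, hY1, hz1, hz2]
    linear_combination (Y1 + a*z2 + a*Y0) * h2
  · simp [g2fun, g4fun, mk6, hX0, hX1, hY0, hY1, hz1, hz2]
  · simp [g2fun, g4fun, mk6, hX0, hX1, hY0, hY1, hz1, hz2]
  · simp [g2fun, g4fun, mk6, hX0, hX1, hY0, hY1, hz1, hz2]
    linear_combination (Y1) * h2
  · simp [g2fun, g4fun, mk6, hX0, hX1, hY0, hY1, hz1, hz2]
    linear_combination (Y0) * h2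

theorem g4_g4 (a : F) (h2 : (2 : F) = 0)
    (v : ((Fin 2 ⊕ Fin 2) ⊕ Fin 2) → F) : g4fun a (g4fun a v) = v := by
  funext i
  rcases i with (i | i) | i <;> fin_cases i
  · simp [g4fun, mk6]
    linear_combination (a * v (.inl (.inr 1))) * h2
  · simp [g4fun, mk6]
    linear_combination (a * v (.inl (.inr 0))) * h2
  · simp [g4fun, mk6]
  · simp [g4fun, mk6]
  · simp [g4fun, mk6]
  · simp [g4fun, mk6]

theorem quad_g (a b c : F) (h2 : (2 : F) = 0) (hac : a * c = 1)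
    (v : ((Fin 2 ⊕ Fin 2) ⊕ Fin 2) → F) :
    Cfsg.quadFormMinus 2 F a b (gfun a b c v) = Cfsg.quadFormMinus 2 F a b v := by
  generalize hX0 : v (.inl (.inl 0)) = X0
  generalize hX1 : v (.inl (.inl 1)) = X1
  generalize hY0 : v (.inl (.inr 0)) = Y0
  generalize hY1 : v (.inl (.inr 1)) = Y1
  generalize hz1 : v (.inr 0) = z1
  generalize hz2 : v (.inr 1) = z2
  simp [Cfsg.quadFormMinus, Fin.sum_univ_two, gfun, mk6, hX0, hX1, hY0, hY1, hz1, hz2]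
  linear_combination (2*Y1*z1 + Y1^2 + 3*b*Y0*z2 + 2*b*Y0^2 + b*c*Y1*z2 + b*c*Y0*z1 + 3*b*c*Y0*Y1
    + b*c^2*Y1^2 + b^2*c^2*Y0^2 + a*z1*z2 + 2*a*Y1*z2 + 2*a*Y0*z1 + 2*a*Y0*Y1 + a*X1*Y0
    + a^2*z2^2 + 2*a^2*Y0*z2 + a^2*Y0^2) * h2
    + (Y1*z1 + Y1^2 + 3*b*Y0*z2 + 3*b*Y0^2 + 2*b*c*Y0*Y1 + a*Y1*z2 + a*Y0*Y1) * hac

/-- the isometry as a linear map -/
def gLin (a b c : F) :
    (((Fin 2 ⊕ Fin 2) ⊕ Fin 2) → F) →ₗ[F] (((Fin 2 ⊕ Fin 2) ⊕ Fin 2) → F) where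
  toFun := gfun a b c
  map_add' := by
    intro v w
    funext i
    rcases i with (i | i) | i <;> fin_cases i <;> simp [gfun, mk6] <;> ring
  map_smul' := by
    intro r v
    funext i
    rcases i with (i | i) | i <;> fin_cases i <;> simp [gfun, mk6] <;> ring

theorem gLin_apply (a b c : F) (v : ((Fin 2 ⊕ Fin 2) ⊕ Fin 2) → F) :
    gLin a b c v = gfun a b c v := rfl

theorem gLin_pow_four (a b c : F) (h2 : (2 : F) = 0) (hac : a * c = 1)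
    (v : ((Fin 2 ⊕ Fin 2) ⊕ Fin 2) → F) : (gLin a b c ^ 4) v = g4fun a v := by
  rw [Module.End.pow_apply]
  simp only [Function.iterate_succ, Function.iterate_zero, Function.comp_apply, id, gLin_apply]
  rw [g_g a b c h2 hac, g_g a b c h2 hac, g2_g2 a b h2]

theorem gLin_pow_eight (a b c : F) (h2 : (2 : F) = 0) (hac : a * c = 1) :
    gLin a b c ^ 8 = 1 := by
  apply LinearMap.ext
  intro v
  rw [show 8 = 4 + 4 by norm_num, pow_add, Module.End.mul_apply, gLin_pow_four a b c h2 hac,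
    gLin_pow_four a b c h2 hac, g4_g4 a h2]
  rfl

theorem gLin_pow_four_ne (a b c : F) (h2 : (2 : F) = 0) (hac : a * c = 1) (ha : a ≠ 0) :
    gLin a b c ^ 4 ≠ 1 := by
  intro h
  have h1 := gLin_pow_four a b c h2 hac (mk6 0 0 0 1 0 0)
  rw [h] at h1
  have h3 := congrFun h1 (.inl (.inl 0))
  simp [g4fun, mk6] at h3
  exact ha h3.symm

/-- FO-3 -/
theorem exists_order_eight [Fintype F] [CharP F 2] (a b : F) (ha : a ≠ 0) :
    ∃ g : (((Fin 2 ⊕ Fin 2) ⊕ Fin 2) → F) ≃ₗ[F] (((Fin 2 ⊕ Fin 2) ⊕ Fin 2) → F),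
      (∀ v, Cfsg.quadFormMinus 2 F a b (g v) = Cfsg.quadFormMinus 2 F a b v) ∧ g ^ 8 = 1 ∧
        g ^ 4 ≠ 1 := by
  have h2 : (2 : F) = 0 := CharTwo.two_eq_zero
  have hac : a * a⁻¹ = 1 := mul_inv_cancel₀ ha
  have h8 := gLin_pow_eight a b a⁻¹ h2 hac
  let u : (Module.End F (((Fin 2 ⊕ Fin 2) ⊕ Fin 2) → F))ˣ :=
    ⟨gLin a b a⁻¹, gLin a b a⁻¹ ^ 7, by rw [← pow_succ', h8], by rw [← pow_succ, h8]⟩
  refine ⟨LinearMap.GeneralLinearGroup.generalLinearEquiv F _ u, ?_, ?_, ?_⟩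
  · intro v
    exact quad_g a b a⁻¹ h2 hac v
  · rw [← map_pow]
    have : u ^ 8 = 1 := by
      apply Units.ext
      rw [Units.val_pow_eq_pow_val]
      exact h8
    rw [this, map_one]
  · intro h
    rw [← map_pow] at h
    have h' : u ^ 4 = 1 := by
      apply (LinearMap.GeneralLinearGroup.generalLinearEquiv F _).injective
      rw [h, map_one]
    have h'' : gLin a b a⁻¹ ^ 4 = 1 := by
      have := congrArg Units.val h'
      rwa [Units.val_pow_eq_pow_val] at this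
    exact gLin_pow_four_ne a b a⁻¹ h2 hac ha h''

end Cfsg.Agent.Lib.Helper26.S3589
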