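import Mathlib
import Cfsg.Agent.Lib.Helper7.SpExtDefs

/-!
# S5664 FO-G0124 (helper26 for helper7): the additive group of Siegel elements on `g₀ (L v₀)`

`j c = g₀ (c ∙ v₀)`, `lam v = B (g₀⁻¹ v) v₀`, `[M] = v ↦ v + j (M (lam v))`.
-/

set_option autoImplicit false
set_option linter.unusedSectionVars false
set_option linter.unusedVariables false

namespace Cfsg.Agent.Lib.Helper26.S5664G

open Matrix Module Cfsg.Agent.Lib.Helper7.SpExt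

variable {F : Type*} [Field F] [Fintype F] {L : Type*} [Field L] [Algebra F L] {ι : Type} [Fintype ι]
  [DecidableEq ι] {ρ : L →ₐ[F] Matrix ι ι F} {f : (ι → F) →ₗ[F] (ι → F) →ₗ[F] F} {τ : L →ₗ[F] F}
  {B : (ι → F) →ₗ[F] (ι → F) →ₗ[F] L} {r : ℕ}

/-! ### basic facts (local copies) -/

theorem B_skew' (S : SpStr ρ f τ B) (v w : ι → F) : B v w = -B w v := by
  have h := S.alt (v + w)
  simp only [map_add, LinearMap.add_apply, S.alt, zero_add, add_zero] at h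
  linear_combination h

theorem B_lin_right' (S : SpStr ρ f τ B) (a : L) (v w : ι → F) :
    B v (ρ a *ᵥ w) = a * B v w := by
  rw [B_skew' S, S.lin, B_skew' S w v]
  ring

theorem B_nondeg' (S : SpStr ρ f τ B) {v : ι → F} (hv : v ≠ 0) : ∃ w, B v w = 1 := by
  obtain ⟨w₀, hw₀⟩ := S.nondeg v hv
  have hb : B v w₀ ≠ 0 := by
    intro h0
    apply hw₀
    rw [S.tr, h0, map_zero]
  refine ⟨ρ (B v w₀)⁻¹ *ᵥ w₀, ?_⟩
  rw [B_lin_right' S, inv_mul_cancel₀ hb]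

/-! ### root elements -/

/-- the linear map `v ↦ v + (a B(v,u)) ∙ u` -/
def rootL (ρ : L →ₐ[F] Matrix ι ι F) (B : (ι → F) →ₗ[F] (ι → F) →ₗ[F] L) (u : ι → F) (a : L) :
    (ι → F) →ₗ[F] (ι → F) :=
  LinearMap.id + orb ρ u ∘ₗ LinearMap.mulLeft F a ∘ₗ B.flip u

theorem rootL_apply (u : ι → F) (a : L) (v : ι → F) :
    rootL ρ B u a v = v + ρ (a * B v u) *ᵥ u := rfl

theorem B_rootL (S : SpStr ρ f τ B) (u : ι → F) (a : L) (v : ι → F) :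
    B (rootL ρ B u a v) u = B v u := by
  rw [rootL_apply, map_add, LinearMap.add_apply, S.lin, S.alt, mul_zero, add_zero]

theorem rootL_rootL (S : SpStr ρ f τ B) (u : ι → F) (a : L) (v : ι → F) :
    rootL ρ B u a (rootL ρ B u (-a) v) = v := by
  rw [rootL_apply, B_rootL S, rootL_apply, add_assoc, ← rho_add_mulVec, neg_mul, neg_add_cancel,
    rho_zero_mulVec, add_zero]

theorem exists_root' (S : SpStr ρ f τ B) (u : ι → F) (a : L) :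
    ∃ g : GL ι F, IsRoot ρ B u a g ∧ IsRoot ρ B u (-a) g⁻¹ ∧ g ∈ SpL ρ B := by
  obtain ⟨g, hg, hg'⟩ := exists_gl (rootL ρ B u a) (rootL ρ B u (-a)) (rootL_rootL S u a)
    (fun v => by
      have := rootL_rootL S u (-a) v
      rwa [neg_neg] at this)
  refine ⟨g, fun v => (hg v).trans (rootL_apply u a v), fun v => (hg' v).trans (rootL_apply u (-a) v),
    ?_, ?_⟩
  · intro c v
    rw [hg, hg, rootL_apply, rootL_apply, S.lin, mulVec_add, ← rho_mul_mulVec]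
    congr 3
    ring
  · intro v w
    rw [hg, hg, rootL_apply, rootL_apply]
    simp only [map_add, LinearMap.add_apply, S.lin, B_lin_right' S, S.alt]
    rw [B_skew' S u w]
    ring

/-! ### torus elements -/

/-- the linear map `c` on `v₀`, `c⁻¹` on `w₀`, identity on the perpendicular space -/
def torL (ρ : L →ₐ[F] Matrix ι ι F) (B : (ι → F) →ₗ[F] (ι → F) →ₗ[F] L) (v₀ w₀ : ι → F) (c : L) :
    (ι → F) →ₗ[F] (ι → F) :=
  LinearMap.id + orb ρ v₀ ∘ₗ LinearMap.mulLeft F (c - 1) ∘ₗ B.flip w₀ +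
    orb ρ w₀ ∘ₗ LinearMap.mulLeft F (c⁻¹ - 1) ∘ₗ B v₀

theorem torL_apply (v₀ w₀ : ι → F) (c : L) (v : ι → F) :
    torL ρ B v₀ w₀ c v = v + ρ ((c - 1) * B v w₀) *ᵥ v₀ + ρ ((c⁻¹ - 1) * B v₀ v) *ᵥ w₀ := rfl

theorem B_torL_left (S : SpStr ρ f τ B) {v₀ w₀ : ι → F} (h1 : B v₀ w₀ = 1) (c : L) (v : ι → F) :
    B (torL ρ B v₀ w₀ c v) w₀ = c * B v w₀ := by
  rw [torL_apply, map_add, map_add, LinearMap.add_apply, LinearMap.add_apply, S.lin, S.lin, h1,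
    S.alt]
  ring

theorem B_torL_right (S : SpStr ρ f τ B) {v₀ w₀ : ι → F} (h1 : B v₀ w₀ = 1) {c : L} (hc : c ≠ 0)
    (v : ι → F) : B v₀ (torL ρ B v₀ w₀ c v) = c⁻¹ * B v₀ v := by
  rw [torL_apply, map_add, map_add, B_lin_right' S, B_lin_right' S, h1, S.alt]
  ring

theorem torL_torL (S : SpStr ρ f τ B) {v₀ w₀ : ι → F} (h1 : B v₀ w₀ = 1) {c : L} (hc : c ≠ 0)
    (v : ι → F) : torL ρ B v₀ w₀ c⁻¹ (torL ρ B v₀ w₀ c v) = v := by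
  rw [torL_apply, B_torL_left S h1, B_torL_right S h1 hc, torL_apply, inv_inv]
  have e1 : (c⁻¹ - 1) * (c * B v w₀) = -((c - 1) * B v w₀) := by
    field_simp
    ring
  have e2 : (c - 1) * (c⁻¹ * B v₀ v) = -((c⁻¹ - 1) * B v₀ v) := by
    field_simp
    ring
  rw [e1, e2, rho_neg_mulVec, rho_neg_mulVec]
  abel

theorem exists_torus (S : SpStr ρ f τ B) {v₀ : ι → F} (hv₀ : v₀ ≠ 0) {c : L} (hc : c ≠ 0) :
    ∃ m ∈ SpL ρ B, act m v₀ = ρ c *ᵥ v₀ := by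
  obtain ⟨w₀, h1⟩ := B_nondeg' S hv₀
  have hc' : c⁻¹ ≠ 0 := inv_ne_zero hc
  obtain ⟨g, hg, hg'⟩ := exists_gl (torL ρ B v₀ w₀ c) (torL ρ B v₀ w₀ c⁻¹)
    (fun v => by
      have := torL_torL S h1 hc' v
      rwa [inv_inv] at this)
    (torL_torL S h1 hc)
  refine ⟨g, ⟨?_, ?_⟩, ?_⟩
  · intro a v
    rw [hg, hg, torL_apply, torL_apply, S.lin, B_lin_right' S, mulVec_add, mulVec_add,
      ← rho_mul_mulVec, ← rho_mul_mulVec]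
    congr 3
    · ring_nf
    · ring
  · intro v w
    have hw0 : B w₀ v₀ = -1 := by rw [B_skew' S, h1]
    rw [hg, hg, torL_apply, torL_apply]
    simp only [map_add, LinearMap.add_apply, S.lin, B_lin_right' S, S.alt, h1, hw0]
    rw [B_skew' S v v₀, B_skew' S w₀ w]
    field_simp
    ring
  · rw [hg, torL_apply, h1, S.alt, mul_zero, rho_zero_mulVec, add_zero, mul_one,
      ← rho_one_mulVec ρ v₀, ← rho_mul_mulVec, ← rho_add_mulVec, rho_one_mulVec]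
    congr 2
    ring

/-! ### the Siegel elements -/

/-- `j c = g₀ (c ∙ v₀)` -/
def jL (ρ : L →ₐ[F] Matrix ι ι F) (g₀ : GL ι F) (v₀ : ι → F) : L →ₗ[F] (ι → F) :=
  actL g₀ ∘ₗ orb ρ v₀

/-- `lam v = B (g₀⁻¹ v) v₀` -/
def lamL (B : (ι → F) →ₗ[F] (ι → F) →ₗ[F] L) (g₀ : GL ι F) (v₀ : ι → F) : (ι → F) →ₗ[F] L :=
  B.flip v₀ ∘ₗ actL g₀⁻¹

theorem jL_apply (g₀ : GL ι F) (v₀ : ι → F) (c : L) :
    jL ρ g₀ v₀ c = act g₀ (ρ c *ᵥ v₀) := rfl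

theorem lamL_apply (g₀ : GL ι F) (v₀ : ι → F) (v : ι → F) :
    lamL B g₀ v₀ v = B (act g₀⁻¹ v) v₀ := rfl

theorem lam_j (S : SpStr ρ f τ B) (g₀ : GL ι F) (v₀ : ι → F) (c : L) :
    lamL B g₀ v₀ (jL ρ g₀ v₀ c) = 0 := by
  rw [lamL_apply, jL_apply, act_inv_act, S.lin, S.alt, mul_zero]

/-- the Siegel map `[M] = v ↦ v + j (M (lam v))` -/
def sgL (ρ : L →ₐ[F] Matrix ι ι F) (B : (ι → F) →ₗ[F] (ι → F) →ₗ[F] L) (g₀ : GL ι F) (v₀ : ι → F)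
    (M : L →ₗ[F] L) : (ι → F) →ₗ[F] (ι → F) :=
  LinearMap.id + jL ρ g₀ v₀ ∘ₗ M ∘ₗ lamL B g₀ v₀

theorem sgL_apply (g₀ : GL ι F) (v₀ : ι → F) (M : L →ₗ[F] L) (v : ι → F) :
    sgL ρ B g₀ v₀ M v = v + act g₀ (ρ (M (B (act g₀⁻¹ v) v₀)) *ᵥ v₀) := rfl

theorem sgL_apply' (g₀ : GL ι F) (v₀ : ι → F) (M : L →ₗ[F] L) (v : ι → F) :
    sgL ρ B g₀ v₀ M v = v + jL ρ g₀ v₀ (M (lamL B g₀ v₀ v)) := rfl

theorem inM_iff (H : Subgroup (GL ι F)) (g₀ : GL ι F) (v₀ : ι → F) (M : L →ₗ[F] L) :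
    InM ρ B H g₀ v₀ M ↔ ∀ g : GL ι F, (∀ v, act g v = sgL ρ B g₀ v₀ M v) → g ∈ H := Iff.rfl

theorem lam_sg (S : SpStr ρ f τ B) (g₀ : GL ι F) (v₀ : ι → F) (M : L →ₗ[F] L) (v : ι → F) :
    lamL B g₀ v₀ (sgL ρ B g₀ v₀ M v) = lamL B g₀ v₀ v := by
  rw [sgL_apply', map_add, lam_j S, add_zero]

theorem sgL_comp (S : SpStr ρ f τ B) (g₀ : GL ι F) (v₀ : ι → F) (M M' : L →ₗ[F] L) (v : ι → F) :
    sgL ρ B g₀ v₀ M (sgL ρ B g₀ v₀ M' v) = sgL ρ B g₀ v₀ (M + M') v := by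
  rw [sgL_apply' g₀ v₀ M, lam_sg S, sgL_apply', sgL_apply', LinearMap.add_apply, map_add]
  abel

theorem sgL_zero (g₀ : GL ι F) (v₀ : ι → F) (v : ι → F) : sgL ρ B g₀ v₀ 0 v = v := by
  rw [sgL_apply', LinearMap.zero_apply, map_zero, add_zero]

theorem exists_sg (S : SpStr ρ f τ B) (g₀ : GL ι F) (v₀ : ι → F) (M : L →ₗ[F] L) :
    ∃ g : GL ι F, (∀ v, act g v = sgL ρ B g₀ v₀ M v) ∧ (∀ v, act g⁻¹ v = sgL ρ B g₀ v₀ (-M) v) :=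
  exists_gl _ _ (fun v => by rw [sgL_comp S, add_neg_cancel, sgL_zero])
    (fun v => by rw [sgL_comp S, neg_add_cancel, sgL_zero])

/-! ### the pieces -/

theorem inM_zero (S : SpStr ρ f τ B) (H : Subgroup (GL ι F)) (g₀ : GL ι F) (v₀ : ι → F) :
    InM ρ B H g₀ v₀ 0 := by
  rw [inM_iff]
  intro g hg
  have : g = 1 := gl_ext (fun v => by rw [hg v, sgL_zero, act_one])
  rw [this]
  exact H.one_mem

theorem inM_add (S : SpStr ρ f τ B) (H : Subgroup (GL ι F)) (g₀ : GL ι F) (v₀ : ι → F)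
    (M M' : L →ₗ[F] L) (hM : InM ρ B H g₀ v₀ M) (hM' : InM ρ B H g₀ v₀ M') :
    InM ρ B H g₀ v₀ (M + M') := by
  rw [inM_iff] at hM hM' ⊢
  intro g hg
  obtain ⟨g1, h1, -⟩ := exists_sg S g₀ v₀ M
  obtain ⟨g2, h2, -⟩ := exists_sg S g₀ v₀ M'
  have : g = g1 * g2 := gl_ext (fun v => by rw [act_mul, h2, h1, sgL_comp S, hg v])
  rw [this]
  exact H.mul_mem (hM g1 h1) (hM' g2 h2)

theorem inM_neg (S : SpStr ρ f τ B) (H : Subgroup (GL ι F)) (g₀ : GL ι F) (v₀ : ι → F)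
    (M : L →ₗ[F] L) (hM : InM ρ B H g₀ v₀ M) : InM ρ B H g₀ v₀ (-M) := by
  rw [inM_iff] at hM ⊢
  intro g hg
  obtain ⟨g1, h1, h1'⟩ := exists_sg S g₀ v₀ M
  have : g = g1⁻¹ := gl_ext (fun v => by rw [h1', hg v])
  rw [this]
  exact H.inv_mem (hM g1 h1)

theorem inM_mulLeft (S : SpStr ρ f τ B) (H : Subgroup (GL ι F)) (hSpL : SpL ρ B ≤ H)
    (g₀ : GL ι F) (hg₀ : g₀ ∈ H) (v₀ : ι → F) (b : L) :
    InM ρ B H g₀ v₀ (LinearMap.mulLeft F b) := by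
  rw [inM_iff]
  intro g hg
  obtain ⟨t, ht, -, htS⟩ := exists_root' S v₀ b
  have : g = g₀ * t * g₀⁻¹ := gl_ext (fun v => by
    rw [hg v, act_mul, act_mul, ht, act_add, act_act_inv, sgL_apply, LinearMap.mulLeft_apply])
  rw [this]
  exact H.mul_mem (H.mul_mem hg₀ (hSpL htS)) (H.inv_mem hg₀)

theorem inM_torus (S : SpStr ρ f τ B) (H : Subgroup (GL ι F)) (hSpL : SpL ρ B ≤ H)
    (g₀ : GL ι F) (hg₀ : g₀ ∈ H) (v₀ : ι → F) (hv₀ : v₀ ≠ 0) (M : L →ₗ[F] L)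
    (hM : InM ρ B H g₀ v₀ M) (c : L) (hc : c ≠ 0) :
    InM ρ B H g₀ v₀ (LinearMap.mulLeft F c ∘ₗ M ∘ₗ LinearMap.mulLeft F c) := by
  rw [inM_iff] at hM ⊢
  intro g hg
  obtain ⟨m, hmS, hmv⟩ := exists_torus S hv₀ hc
  obtain ⟨g1, h1, -⟩ := exists_sg S g₀ v₀ M
  have hm1 := hmS.1
  have hm2 := hmS.2
  -- `y = g₀ m g₀⁻¹`
  have hyj : ∀ x : L, act (g₀ * m * g₀⁻¹) (jL ρ g₀ v₀ x) = jL ρ g₀ v₀ (c * x) := by
    intro x
    rw [jL_apply, jL_apply, act_mul, act_mul, act_inv_act, hm1, hmv, ← rho_mul_mulVec, mul_comm]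
  have hlam : ∀ v, lamL B g₀ v₀ (act (g₀ * m * g₀⁻¹)⁻¹ v) = c * lamL B g₀ v₀ v := by
    intro v
    have e : (g₀ * m * g₀⁻¹)⁻¹ = g₀ * m⁻¹ * g₀⁻¹ := by group
    rw [lamL_apply, lamL_apply, e, act_mul, act_mul, act_inv_act]
    have h3 := hm2 (act m⁻¹ (act g₀⁻¹ v)) v₀
    rw [act_act_inv, hmv, B_lin_right' S] at h3
    exact h3.symm
  have : g = (g₀ * m * g₀⁻¹) * g1 * (g₀ * m * g₀⁻¹)⁻¹ := gl_ext (fun v => by
    rw [hg v, act_mul, act_mul, h1]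
    rw [sgL_apply' g₀ v₀ M, act_add, act_act_inv, hyj, hlam, sgL_apply']
    rfl)
  rw [this]
  have hy : g₀ * m * g₀⁻¹ ∈ H := H.mul_mem (H.mul_mem hg₀ (hSpL hmS)) (H.inv_mem hg₀)
  exact H.mul_mem (H.mul_mem hy (hM g1 h1)) (H.inv_mem hy)

theorem tv_of_inM (S : SpStr ρ f τ B) (H : Subgroup (GL ι F)) (g₀ : GL ι F) (hg₀ : g₀ ∈ isom f)
    (v₀ : ι → F) (κ₀ : F)
    (hM : InM ρ B H g₀ v₀ (κ₀ • (LinearMap.toSpanSingleton F L 1 ∘ₗ τ))) :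
    ∀ g : GL ι F, IsTv f (act g₀ v₀) κ₀ g → g ∈ H := by
  intro g hg
  apply hM
  intro v
  rw [hg v]
  congr 1
  have h1 : f v (act g₀ v₀) = τ (B (act g₀⁻¹ v) v₀) := by
    rw [← S.tr, ← hg₀ (act g₀⁻¹ v) v₀, act_act_inv]
  rw [h1, LinearMap.smul_apply, LinearMap.comp_apply, LinearMap.toSpanSingleton_apply,
    rho_smul_mulVec, rho_smul_mulVec, rho_one_mulVec, act_smul, act_smul, smul_smul]

end Cfsg.Agent.Lib.Helper26.S5664G
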