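import Mathlib
import Cfsg.Agent.Lib.Helper7.SpExtDefs
import Cfsg.Agent.Lib.Helper21.S5886FOEb
import Cfsg.Agent.Lib.Helper26.S5664FOG0124

/-!
# S5664 FO-G3 (helper26 for helper7): the root elements stabilising `P' = g₀ (L v₀)` act on the
Siegel elements by `M ↦ s M s*`
-/

set_option autoImplicit false
set_option linter.unusedSectionVars false
set_option linter.unusedVariables false

namespace Cfsg.Agent.Lib.Helper26.S5664G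

open Matrix Module Cfsg.Agent.Lib.Helper7.SpExt

variable {F : Type*} [Field F] [Fintype F] {L : Type*} [Field L] [Algebra F L] {ι : Type} [Fintype ι]
  [DecidableEq ι] {ρ : L →ₐ[F] Matrix ι ι F} {f : (ι → F) →ₗ[F] (ι → F) →ₗ[F] F} {τ : L →ₗ[F] F}
  {B : (ι → F) →ₗ[F] (ι → F) →ₗ[F] L} {r : ℕ}

theorem tau_sep' {τ : L →ₗ[F] F} (hτ : τ ≠ 0) (x : L) (h : ∀ c, τ (c * x) = 0) : x = 0 := by
  by_contra hx
  apply hτ
  ext y
  have := h (y / x)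
  rw [div_mul_cancel₀ _ hx] at this
  rw [this, LinearMap.zero_apply]

theorem tau_ne' (S : SpStr ρ f τ B) {v : ι → F} (hv : v ≠ 0) : τ ≠ 0 := by
  obtain ⟨w, hw⟩ := S.nondeg v hv
  intro h0
  apply hw
  rw [S.tr, h0, LinearMap.zero_apply]

theorem f_skew' (S : SpStr ρ f τ B) (v w : ι → F) : f v w = -f w v := by
  rw [S.tr, S.tr, B_skew' S, map_neg]

theorem jL_injective {v₀ : ι → F} (hv₀ : v₀ ≠ 0) (g₀ : GL ι F) :
    Function.Injective (jL ρ g₀ v₀) := by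
  rw [← LinearMap.ker_eq_bot, LinearMap.ker_eq_bot']
  intro c hc
  rw [jL_apply, act_eq_zero_iff] at hc
  by_contra hc0
  apply hv₀
  have h1 : ρ c⁻¹ *ᵥ (ρ c *ᵥ v₀) = v₀ := by
    rw [← rho_mul_mulVec, inv_mul_cancel₀ hc0, rho_one_mulVec]
  rw [← h1, hc, mulVec_zero]

theorem range_jL (g₀ : GL ι F) (v₀ : ι → F) :
    LinearMap.range (jL ρ g₀ v₀) = Img ρ g₀ v₀ := by
  unfold jL Img pt
  rw [LinearMap.range_comp]

/-- `τ (c' λ(w)) = - f (j c', w)` -/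
theorem tau_lam (S : SpStr ρ f τ B) {g₀ : GL ι F} (hg₀ : g₀ ∈ isom f) (v₀ : ι → F) (c' : L)
    (w : ι → F) : τ (c' * lamL B g₀ v₀ w) = - f (jL ρ g₀ v₀ c') w := by
  rw [lamL_apply, jL_apply, ← B_lin_right' S, ← S.tr, ← hg₀ (act g₀⁻¹ w) (ρ c' *ᵥ v₀), act_act_inv,
    f_skew' S]

/-- FO-G3 -/
theorem inM_sieg (S : SpStr ρ f τ B) (hr : r.Prime) (hrk : finrank F L = r)
    (H : Subgroup (GL ι F)) (hSpL : SpL ρ B ≤ H) (hH : H ≤ isom f)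
    (v₁ v₀ : ι → F) (g₀ : GL ι F) (hc : Config ρ f H r v₁ v₀ g₀) :
    ∃ (z : L) (D₂ : Submodule F L), z ≠ 0 ∧ finrank F ↥D₂ + 1 = r ∧
      ∀ M : L →ₗ[F] L, InM ρ B H g₀ v₀ M → ∀ d ∈ D₂,
        InM ρ B H g₀ v₀ (addRk (τ ∘ₗ LinearMap.mulLeft F z) d ∘ₗ M ∘ₗ
          addRk (τ ∘ₗ LinearMap.mulLeft F d) z) := by
  obtain ⟨hg₀H, hv₁, hv₀, hfr, x, hx, y, hy, hxy⟩ := hc
  have hg₀ : g₀ ∈ isom f := hH hg₀H
  have hτ : τ ≠ 0 := tau_ne' S hv₀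
  have : Module.Finite F L := Module.finite_of_finrank_pos (by rw [hrk]; exact hr.pos)
  have hjinj := jL_injective (ρ := ρ) hv₀ g₀
  -- the hyperplane `D₂`
  obtain ⟨D₂, hD₂def⟩ : ∃ D₂ : Submodule F L, D₂ = (pt ρ v₁).comap (jL ρ g₀ v₀) := ⟨_, rfl⟩
  have hD₂mem : ∀ d, d ∈ D₂ ↔ ∃ e : L, ρ e *ᵥ v₁ = jL ρ g₀ v₀ d := by
    intro d
    rw [hD₂def, Submodule.mem_comap, mem_pt]
  have hD₂fr : finrank F ↥D₂ + 1 = r := by
    have h1 : D₂.map (jL ρ g₀ v₀) = pt ρ v₁ ⊓ Img ρ g₀ v₀ := by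
      rw [hD₂def, Submodule.map_comap_eq, range_jL, inf_comm]
    have h2 : finrank F ↥(D₂.map (jL ρ g₀ v₀)) = finrank F ↥D₂ :=
      (Submodule.equivMapOfInjective (jL ρ g₀ v₀) hjinj D₂).finrank_eq.symm
    rw [← h2, h1]
    exact hfr
  -- `κ₁ = ψ ∘ j`
  obtain ⟨κ₁, hκ₁⟩ : ∃ κ₁ : L →ₗ[F] L, ∀ c, κ₁ c = B (jL ρ g₀ v₀ c) v₁ :=
    ⟨B.flip v₁ ∘ₗ jL ρ g₀ v₀, fun c => rfl⟩
  have hκ₁D : ∀ d ∈ D₂, κ₁ d = 0 := by
    intro d hd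
    obtain ⟨e, he⟩ := (hD₂mem d).mp hd
    rw [hκ₁, ← he, S.lin, S.alt, mul_zero]
  obtain ⟨c₀, hc₀⟩ : ∃ c₀, κ₁ c₀ ≠ 0 := by
    obtain ⟨c', rfl⟩ := (mem_pt ρ v₁ x).mp hx
    rw [← range_jL] at hy
    obtain ⟨c, rfl⟩ := hy
    refine ⟨c, ?_⟩
    intro h0
    apply hxy
    rw [S.tr, S.lin, B_skew' S, ← hκ₁, h0, neg_zero, mul_zero, map_zero]
  have hc₀D : c₀ ∉ D₂ := fun h => hc₀ (hκ₁D c₀ h)
  obtain ⟨y₁, hy₁⟩ : ∃ y₁, y₁ = κ₁ c₀ := ⟨_, rfl⟩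
  have hy₁0 : y₁ ≠ 0 := by rw [hy₁]; exact hc₀
  -- decomposition `L = F c₀ ⊕ D₂`
  have hsup : D₂ ⊔ Submodule.span F {c₀} = ⊤ := by
    apply Submodule.eq_top_of_finrank_eq
    have hlt : D₂ < D₂ ⊔ Submodule.span F {c₀} := by
      rw [lt_iff_le_and_ne]
      refine ⟨le_sup_left, ?_⟩
      intro h
      apply hc₀D
      rw [h]
      exact Submodule.mem_sup_right (Submodule.mem_span_singleton_self c₀)
    have h1 := Submodule.finrank_lt_finrank_of_lt hlt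
    have h2 := Submodule.finrank_le (D₂ ⊔ Submodule.span F {c₀})
    omega
  have hdec : ∀ x : L, ∃ t : F, ∃ d ∈ D₂, x = t • c₀ + d := by
    intro x
    have hx : x ∈ D₂ ⊔ Submodule.span F {c₀} := by rw [hsup]; trivial
    obtain ⟨d, hd, w, hw, rfl⟩ := Submodule.mem_sup.mp hx
    obtain ⟨t, rfl⟩ := Submodule.mem_span_singleton.mp hw
    exact ⟨t, d, hd, add_comm _ _⟩
  -- the functional `κ`
  obtain ⟨c₁, hc₁⟩ : ∃ c₁, τ (c₁ * y₁) ≠ 0 := by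
    by_contra hcon
    push Not at hcon
    exact hy₁0 (tau_sep' hτ y₁ hcon)
  obtain ⟨κ, hκdef⟩ : ∃ κ : L →ₗ[F] F, ∀ x, κ x = (τ (c₁ * y₁))⁻¹ * τ (c₁ * κ₁ x) :=
    ⟨(τ (c₁ * y₁))⁻¹ • (τ ∘ₗ LinearMap.mulLeft F c₁ ∘ₗ κ₁), fun x => rfl⟩
  have hκ : ∀ x, κ₁ x = κ x • y₁ := by
    intro x
    obtain ⟨t, d, hd, rfl⟩ := hdec x
    have h1 : κ₁ (t • c₀ + d) = t • y₁ := by
      rw [map_add, map_smul, hκ₁D d hd, add_zero, hy₁]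
    have h2 : κ (t • c₀ + d) = t := by
      rw [hκdef, h1, mul_smul_comm, map_smul, smul_eq_mul]
      field_simp
    rw [h1, h2]
  obtain ⟨z, hz⟩ := Cfsg.Agent.Lib.Helper21.S5886Eb.exists_mul_functional hrk hr.pos τ κ hτ
  have hz0 : z ≠ 0 := by
    rintro rfl
    apply hc₀
    rw [hκ, hz, zero_mul, map_zero, zero_smul]
  refine ⟨z, D₂, hz0, hD₂fr, ?_⟩
  intro M hM d hd
  rw [inM_iff] at hM ⊢
  intro g hg
  obtain ⟨e, he⟩ := (hD₂mem d).mp hd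
  obtain ⟨a, ha⟩ : ∃ a, a * y₁ = e := ⟨e / y₁, div_mul_cancel₀ _ hy₁0⟩
  obtain ⟨xa, hxa, hxa', hxaS⟩ := exists_root' S v₁ a
  obtain ⟨g1, h1, -⟩ := exists_sg S g₀ v₀ M
  -- Lemma A
  have hA : ∀ c, act xa (jL ρ g₀ v₀ c) =
      jL ρ g₀ v₀ (addRk (τ ∘ₗ LinearMap.mulLeft F z) d c) := by
    intro c
    rw [hxa, ← hκ₁, hκ, hz, mul_smul_comm, ha, rho_smul_mulVec, he, addRk_apply, map_add, map_smul]
    rfl
  -- Lemma C
  have hC : ∀ c, lamL B g₀ v₀ (ρ c *ᵥ v₁) = -(τ (c * y₁) • z) := by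
    intro c
    have h0 : lamL B g₀ v₀ (ρ c *ᵥ v₁) + τ (c * y₁) • z = 0 := by
      apply tau_sep' hτ
      intro c'
      rw [mul_add, map_add, tau_lam S hg₀, S.tr, B_lin_right' S, ← hκ₁, hκ, hz, mul_smul_comm,
        mul_smul_comm, map_smul, map_smul, smul_eq_mul, smul_eq_mul, mul_comm c' z]
      ring
    exact eq_neg_of_add_eq_zero_left h0
  -- Lemma B
  have hB : ∀ v, lamL B g₀ v₀ (act xa⁻¹ v) =
      addRk (τ ∘ₗ LinearMap.mulLeft F d) z (lamL B g₀ v₀ v) := by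
    intro v
    have h3 : τ (d * lamL B g₀ v₀ v) = τ (e * B v v₁) := by
      rw [tau_lam S hg₀, ← he, S.tr, S.lin, B_skew' S v₁ v, mul_neg, map_neg, neg_neg]
    rw [hxa', map_add, hC, addRk_apply]
    congr 1
    have h4 : -a * B v v₁ * y₁ = -(e * B v v₁) := by
      rw [← ha]
      ring
    rw [h4, map_neg, neg_smul, neg_neg, ← h3]
    rfl
  have : g = xa * g1 * xa⁻¹ := gl_ext (fun v => by
    rw [hg v, act_mul, act_mul, h1, sgL_apply' g₀ v₀ M, act_add, act_act_inv, hA, hB, sgL_apply']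
    rfl)
  rw [this]
  have hxaH : xa ∈ H := hSpL hxaS
  exact H.mul_mem (H.mul_mem hxaH (hM g1 h1)) (H.inv_mem hxaH)

end Cfsg.Agent.Lib.Helper26.S5664G
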