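import Mathlib
import Cfsg.Agent.Lib.Helper28.USpDefs

/-!
# S5665 FO-COMM (helper26 for helper28): a split double transvection group and a unitary
transvection group produce a genuine transvection group
-/

set_option autoImplicit false
set_option linter.unusedSectionVars false
set_option linter.unusedVariables false

namespace Cfsg.Agent.Lib.Helper26.S5665COMM

open Matrix Module Cfsg.Agent.Lib.Helper6 Cfsg.Agent.Lib.Helper13
open Cfsg.Agent.Lib.Helper28.SpSubf Cfsg.Agent.Lib.Helper28.USp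

universe u
variable {F : Type u} [Field F] [Fintype F] {m : ℕ}
variable {θ : Matrix (Fin m ⊕ Fin m) (Fin m ⊕ Fin m) F} {d : F}
variable {M : Subgroup (GL (Fin m ⊕ Fin m) F)}

local notation "ff" => Cfsg.sympForm m F
local notation "ι" => (Fin m ⊕ Fin m)

/-- `T(z+u,s) T(z,-s) T(z,-s) T(z-u,s) = T(u,2s)` when `f(z,u) = 0` -/
theorem four_transv (z w : ι → F) (hzw : ff z w = 0) (s : F) :
    sympTransvGL (z + w) s * sympTransvGL z (-s) * (sympTransvGL z (-s) * sympTransvGL (z - w) s) =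
      sympTransvGL w (2 * s) := by
  have hwz : ff w z = 0 := by rw [sympForm_swap, hzw, neg_zero]
  apply gl_ext
  intro x
  simp only [Units.val_mul, ← mulVec_mulVec, sympTransvGL_mulVec, sympForm_add_left,
    sympForm_add_right, sympForm_sub_right, sympForm_sub_left, sympForm_smul_left,
    sympForm_self, hzw, hwz]
  module

/-- the split double transvection moves `z` to `z + tγ (u₁ - u₂)` -/
theorem split_mulVec (u₁ u₂ z : ι → F) (h12 : ff u₁ u₂ = 0) (heq : ff z u₁ = ff z u₂) (t : F) :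
    ((sympTransvGL u₁ t * sympTransvGL u₂ (-t) : GL ι F) : Matrix ι ι F) *ᵥ z =
      z + (t * ff z u₁) • (u₁ - u₂) := by
  have h21 : ff u₂ u₁ = 0 := by rw [sympForm_swap, h12, neg_zero]
  rw [Units.val_mul, ← mulVec_mulVec, sympTransvGL_mulVec, sympTransvGL_mulVec, sympForm_add_left,
    sympForm_smul_left, h21, ← heq]
  module

theorem split_fix (u₁ u₂ y : ι → F) (h1 : ff y u₁ = 0) (h2 : ff y u₂ = 0) (t : F) :
    ((sympTransvGL u₁ t * sympTransvGL u₂ (-t) : GL ι F) : Matrix ι ι F) *ᵥ y = y := by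
  rw [Units.val_mul, ← mulVec_mulVec, sympTransvGL_mulVec (m := m) u₂, h2, mul_zero, zero_smul,
    add_zero, sympTransvGL_mulVec, h1, mul_zero, zero_smul, add_zero]

/-- FO-COMM -/
theorem transv_of_split (hU : UStrSp θ d) (hMS : M ≤ Cfsg.spGL m F) (u₁ u₂ z : ι → F)
    (h12 : ff u₁ u₂ = 0) (hz : Nq θ z = 0) (hz1 : ff (θ *ᵥ z) u₁ = 0) (hz2 : ff (θ *ᵥ z) u₂ = 0)
    (heq : ff z u₁ = ff z u₂) (hne : ff z u₁ ≠ 0)
    (hE : ∀ t : F, sympTransvGL u₁ t * sympTransvGL u₂ (-t) ∈ M)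
    (hτ : ∀ s : F, tau θ d z s ∈ M) : SpX M (u₁ - u₂) := by
  have h2 := hU.two_ne
  obtain ⟨γ, hγ⟩ : ∃ γ, γ = ff z u₁ := ⟨_, rfl⟩
  have hzz : ff z (θ *ᵥ z) = 0 := hz
  have hzr : ff z (u₁ - u₂) = 0 := by rw [sympForm_sub_right, heq, sub_self]
  -- the commutators
  have hc : ∀ s t : F, sympTransvGL (z + (t * γ) • (u₁ - u₂)) s * sympTransvGL z (-s) ∈ M := by
    intro s t
    obtain ⟨E, hEdef⟩ : ∃ E, E = sympTransvGL u₁ t * sympTransvGL u₂ (-t) := ⟨_, rfl⟩
    have hEM : E ∈ M := by rw [hEdef]; exact hE t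
    have hES : E ∈ Cfsg.spGL m F := hMS hEM
    have h1 : E * tau θ d z s * E⁻¹ * (tau θ d z s)⁻¹ ∈ M :=
      M.mul_mem (M.mul_mem (M.mul_mem hEM (hτ s)) (M.inv_mem hEM)) (M.inv_mem (hτ s))
    have hEz : (E : Matrix ι ι F) *ᵥ z = z + (t * γ) • (u₁ - u₂) := by
      rw [hEdef, hγ]
      exact split_mulVec u₁ u₂ z h12 heq t
    have hEθ : (E : Matrix ι ι F) *ᵥ (θ *ᵥ z) = θ *ᵥ z := by
      rw [hEdef]
      exact split_fix u₁ u₂ _ hz1 hz2 t
    have h3 : E * tau θ d z s * E⁻¹ =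
        sympTransvGL (z + (t * γ) • (u₁ - u₂)) s * sympTransvGL (θ *ᵥ z) (-(s / d)) := by
      unfold tau
      rw [← hEz, ← conj_sympTransvGL E hES z s]
      conv_rhs => rw [← hEθ, ← conj_sympTransvGL E hES (θ *ᵥ z) _]
      group
    have h4 : (tau θ d z s)⁻¹ = sympTransvGL (θ *ᵥ z) (s / d) * sympTransvGL z (-s) := by
      unfold tau
      rw [_root_.mul_inv_rev, sympTransvGL_inv, sympTransvGL_inv, neg_neg]
    have h5 : E * tau θ d z s * E⁻¹ * (tau θ d z s)⁻¹ =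
        sympTransvGL (z + (t * γ) • (u₁ - u₂)) s * sympTransvGL z (-s) := by
      rw [h3, h4, mul_assoc, ← mul_assoc (sympTransvGL (θ *ᵥ z) _), sympTransvGL_mul,
        neg_add_cancel, sympTransvGL_zero, one_mul]
    rwa [h5] at h1
  intro c
  obtain ⟨s, hs⟩ : ∃ s, s = c / (2 * γ * γ) := ⟨_, rfl⟩
  have hγ0 : γ ≠ 0 := by rw [hγ]; exact hne
  have hc1 := hc s 1
  have hc2 := M.inv_mem (hc (-s) (-1))
  have h6 : (sympTransvGL (z + (-1 * γ) • (u₁ - u₂)) (-s) * sympTransvGL z (- -s))⁻¹ =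
      sympTransvGL z (-s) * sympTransvGL (z - (1 * γ) • (u₁ - u₂)) s := by
    rw [_root_.mul_inv_rev, sympTransvGL_inv, sympTransvGL_inv, neg_neg, neg_neg]
    congr 2
    module
  rw [h6] at hc2
  have h7 := M.mul_mem hc1 hc2
  have hzw : ff z ((1 * γ) • (u₁ - u₂)) = 0 := by
    rw [sympForm_smul_right, hzr, mul_zero]
  rw [four_transv z _ hzw s, sympTransvGL_smul] at h7
  have e : 1 * γ * (1 * γ) * (2 * s) = c := by
    rw [hs]
    field_simp
  rwa [e] at h7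

end Cfsg.Agent.Lib.Helper26.S5665COMM
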