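import Mathlib

/-!
# Invariant subspaces of skew-hermitian operators (helper26)

Abstract version of the "T3c" lemma for unitary tensor rows (S5670): an additive group `X` of
skew-hermitian operators on a hermitian space, closed under scaling by the fixed field and under
conjugation by the unitary transvections, which contains a non-scalar operator, contains a rank-one
operator `κ • (v ↦ f v x • x)` with `x` isotropic (if the fixed field has at least three elements).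
-/

set_option autoImplicit false

namespace Cfsg.Agent.Lib.Helper26.UInv

variable {F : Type*} [Field F] {V : Type*} [AddCommGroup V] [Module F V]

/-- a non-degenerate `σ`-hermitian form, linear in the first argument -/
structure SHerm (σ : F →+* F) (f : V → V → F) : Prop where
  add_left : ∀ x y v, f (x + y) v = f x v + f y v
  smul_left : ∀ (c : F) (x v : V), f (c • x) v = c * f x v
  herm : ∀ v w, f v w = σ (f w v)
  invol : ∀ x, σ (σ x) = x
  nondeg : ∀ v, v ≠ 0 → ∃ w, f w v ≠ 0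

namespace SHerm

variable {σ : F →+* F} {f : V → V → F}

theorem add_right (h : SHerm σ f) (v x y : V) : f v (x + y) = f v x + f v y := by
  rw [h.herm, h.add_left, map_add, ← h.herm, ← h.herm]

theorem smul_right (h : SHerm σ f) (c : F) (v x : V) : f v (c • x) = σ c * f v x := by
  rw [h.herm, h.smul_left, map_mul, ← h.herm]

theorem zero_left (h : SHerm σ f) (v : V) : f 0 v = 0 := by
  have := h.smul_left 0 0 v
  rwa [zero_smul, zero_mul] at this

theorem zero_right (h : SHerm σ f) (v : V) : f v 0 = 0 := by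
  rw [h.herm, h.zero_left, map_zero]

theorem neg_left (h : SHerm σ f) (x v : V) : f (-x) v = -f x v := by
  have := h.smul_left (-1) x v
  rwa [neg_one_smul, neg_one_mul] at this

theorem neg_right (h : SHerm σ f) (x v : V) : f v (-x) = -f v x := by
  rw [h.herm, h.neg_left, map_neg, ← h.herm]

theorem sub_left (h : SHerm σ f) (x y v : V) : f (x - y) v = f x v - f y v := by
  rw [sub_eq_add_neg, h.add_left, h.neg_left, ← sub_eq_add_neg]

theorem sub_right (h : SHerm σ f) (v x y : V) : f v (x - y) = f v x - f v y := by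
  rw [sub_eq_add_neg, h.add_right, h.neg_right, ← sub_eq_add_neg]

theorem self_fixed (h : SHerm σ f) (v : V) : σ (f v v) = f v v := (h.herm v v).symm

theorem nondeg' (h : SHerm σ f) (v : V) (hv : v ≠ 0) : ∃ w, f w v = 1 := by
  obtain ⟨w, hw⟩ := h.nondeg v hv
  refine ⟨(f w v)⁻¹ • w, ?_⟩
  rw [h.smul_left, inv_mul_cancel₀ hw]

end SHerm

/-- the operator `v ↦ f v x • y` (`y x^*`) -/
def outer (σ : F →+* F) (f : V → V → F) (h : SHerm σ f) (y x : V) : V →ₗ[F] V where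
  toFun v := f v x • y
  map_add' v w := by rw [h.add_left, add_smul]
  map_smul' c v := by rw [h.smul_left, RingHom.id_apply, mul_smul]

@[simp] theorem outer_apply {σ : F →+* F} {f : V → V → F} (h : SHerm σ f) (y x v : V) :
    outer σ f h y x v = f v x • y := rfl

/-- the unitary transvection `v ↦ v + μ f(v,x) x` -/
def tv (σ : F →+* F) (f : V → V → F) (h : SHerm σ f) (x : V) (μ : F) : V →ₗ[F] V :=
  LinearMap.id + μ • outer σ f h x x

theorem tv_apply {σ : F →+* F} {f : V → V → F} (h : SHerm σ f) (x : V) (μ : F) (v : V) :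
    tv σ f h x μ v = v + (μ * f v x) • x := by
  simp [tv, mul_smul]

variable {σ : F →+* F} {f : V → V → F}

/-- `S` is skew-hermitian -/
def Skew (f : V → V → F) (S : V →ₗ[F] V) : Prop := ∀ v w, f (S v) w + f v (S w) = 0

/-- the conjugation formula -/
theorem conj_formula (h : SHerm σ f) (x : V) (μ : F) {S : V →ₗ[F] V}
    (hS : Skew f S) :
    tv σ f h x μ ∘ₗ S ∘ₗ tv σ f h x (-μ) =
      S - μ • (outer σ f h (S x) x + outer σ f h x (S x)) - (μ ^ 2 * f (S x) x) • outer σ f h x x := by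
  apply LinearMap.ext
  intro v
  have e1 : f (S v) x = -f v (S x) := eq_neg_of_add_eq_zero_left (hS v x)
  simp only [LinearMap.comp_apply, tv_apply, LinearMap.sub_apply, LinearMap.smul_apply,
    LinearMap.add_apply, outer_apply, map_add, map_smul, e1]
  module

/-- the hypotheses on the family `X` -/
structure Inv (σ : F →+* F) (f : V → V → F) (h : SHerm σ f) (X : AddSubgroup (V →ₗ[F] V)) :
    Prop where
  skew : ∀ S ∈ X, Skew f S
  scal : ∀ c : F, σ c = c → ∀ S ∈ X, c • S ∈ X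
  conj : ∀ (x : V) (μ : F), f x x = 0 → σ μ = -μ → ∀ S ∈ X,
    tv σ f h x μ ∘ₗ S ∘ₗ tv σ f h x (-μ) ∈ X

/-- case A : an isotropic vector with `f (S x) x ≠ 0` -/
theorem caseA (h : SHerm σ f) {X : AddSubgroup (V →ₗ[F] V)} (hX : Inv σ f h X)
    {c' : F} (hc' : σ c' = c') (hc0 : c' ≠ 0) (hc1 : c' ≠ 1) {μ : F} (hμ0 : μ ≠ 0)
    (hμ : σ μ = -μ) {S : V →ₗ[F] V} (hS : S ∈ X) {x : V} (hx0 : x ≠ 0) (hx : f x x = 0)
    (hκ : f (S x) x ≠ 0) :
    ∃ (x : V) (κ : F), x ≠ 0 ∧ f x x = 0 ∧ κ ≠ 0 ∧ σ κ = -κ ∧ κ • outer σ f h x x ∈ X := by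
  have hsk := hX.skew S hS
  have hκσ : σ (f (S x) x) = -f (S x) x := by
    rw [← h.herm]
    exact eq_neg_of_add_eq_zero_right (hsk x x)
  have hcμ : σ (c' * μ) = -(c' * μ) := by rw [map_mul, hc', hμ, mul_neg]
  have h1 := hX.conj x μ hx hμ S hS
  have h2 := hX.conj x (c' * μ) hx hcμ S hS
  rw [conj_formula h x μ hsk] at h1
  rw [conj_formula h x (c' * μ) hsk] at h2
  have h3 : c' • (S - μ • (outer σ f h (S x) x + outer σ f h x (S x)) -
      (μ ^ 2 * f (S x) x) • outer σ f h x x - S) -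
      (S - (c' * μ) • (outer σ f h (S x) x + outer σ f h x (S x)) -
      ((c' * μ) ^ 2 * f (S x) x) • outer σ f h x x - S) ∈ X :=
    X.sub_mem (hX.scal c' hc' _ (X.sub_mem h1 hS)) (X.sub_mem h2 hS)
  have e : c' • (S - μ • (outer σ f h (S x) x + outer σ f h x (S x)) -
      (μ ^ 2 * f (S x) x) • outer σ f h x x - S) -
      (S - (c' * μ) • (outer σ f h (S x) x + outer σ f h x (S x)) -
      ((c' * μ) ^ 2 * f (S x) x) • outer σ f h x x - S) =
      (c' * (c' - 1) * μ ^ 2 * f (S x) x) • outer σ f h x x := by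
    module
  rw [e] at h3
  refine ⟨x, c' * (c' - 1) * μ ^ 2 * f (S x) x, hx0, hx, ?_, ?_, h3⟩
  · exact mul_ne_zero (mul_ne_zero (mul_ne_zero hc0 (sub_ne_zero.mpr hc1)) (pow_ne_zero 2 hμ0)) hκ
  · simp only [map_mul, map_sub, map_pow, map_one, hc', hμ, hκσ]
    ring

/-- the trace `s ↦ s + σ s` is onto the fixed field -/
theorem trace_solve (h : SHerm σ f) {β₀ : F} (hβ : β₀ + σ β₀ ≠ 0) (t : F) (ht : σ t = t) :
    ∃ s, s + σ s = t := by
  refine ⟨t / (β₀ + σ β₀) * β₀, ?_⟩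
  rw [map_mul, map_div₀, map_add, h.invol, ht, add_comm (σ β₀) β₀]
  field_simp

/-- making a vector isotropic by adding a multiple of an isotropic vector pairing to `1` with it -/
theorem make_iso (h : SHerm σ f) {β₀ : F} (hβ : β₀ + σ β₀ ≠ 0) {v₀ x : V} (hx : f x x = 0)
    (h1 : f v₀ x = 1) : ∃ s : F, f (v₀ + s • x) (v₀ + s • x) = 0 := by
  obtain ⟨s, hs⟩ := trace_solve h hβ (-f v₀ v₀) (by rw [map_neg, h.self_fixed])
  refine ⟨s, ?_⟩
  have h1' : f x v₀ = 1 := by rw [h.herm, h1, map_one]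
  rw [h.add_left, h.add_right, h.add_right, h.smul_left, h.smul_left, h.smul_right, h.smul_right,
    hx, h1, h1']
  linear_combination hs

/-- dual vectors for an independent pair -/
theorem dual_pair (h : SHerm σ f) {x y : V} (hx : x ≠ 0) (hy : ∀ c : F, y ≠ c • x) :
    ∃ w w', f w x = 1 ∧ f w y = 0 ∧ f w' x = 0 ∧ f w' y = 1 := by
  obtain ⟨w₁, hw₁⟩ := h.nondeg' x hx
  have hy'' : y - σ (f w₁ y) • x ≠ 0 := by
    intro h0
    exact hy _ (sub_eq_zero.mp h0)
  obtain ⟨w₂, hw₂⟩ := h.nondeg' _ hy''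
  have hA : f (w₂ - f w₂ x • w₁) x = 0 := by
    rw [h.sub_left, h.smul_left, hw₁, mul_one, sub_self]
  have hB : f (w₂ - f w₂ x • w₁) y = 1 := by
    have e : f w₁ (y - σ (f w₁ y) • x) = 0 := by
      rw [h.sub_right, h.smul_right, h.invol, hw₁, mul_one, sub_self]
    have e2 : f (w₂ - f w₂ x • w₁) (y - σ (f w₁ y) • x) = 1 := by
      rw [h.sub_left, h.smul_left, e, mul_zero, sub_zero, hw₂]
    rw [h.sub_right, h.smul_right, hA, mul_zero, sub_zero] at e2
    exact e2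
  refine ⟨w₁ - f w₁ y • (w₂ - f w₂ x • w₁), w₂ - f w₂ x • w₁, ?_, ?_, hA, hB⟩
  · rw [h.sub_left, h.smul_left, hA, mul_zero, sub_zero, hw₁]
  · rw [h.sub_left, h.smul_left, hB, mul_one, sub_self]

/-- two non-perpendicular isotropic eigenvectors have the same eigenvalue, if all isotropic vectors
are eigenvectors -/
theorem eigen_eq (h : SHerm σ f) {μ : F} (hμ0 : μ ≠ 0) (hμ : σ μ = -μ) {S : V →ₗ[F] V}
    (hall : ∀ x, x ≠ 0 → f x x = 0 → ∃ c : F, S x = c • x) {x x' : V} (hx : f x x = 0)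
    (hx' : f x' x' = 0) (hxx' : f x x' ≠ 0) {a a' : F} (ha : S x = a • x) (ha' : S x' = a' • x') :
    a = a' := by
  have hx'x : f x' x ≠ 0 := by
    rw [h.herm]
    intro h0
    apply hxx'
    have := congrArg σ h0
    rwa [h.invol, map_zero] at this
  have hσ : σ (f x x') = f x' x := (h.herm x' x).symm
  have hσ' : σ (f x' x) = f x x' := (h.herm x x').symm
  obtain ⟨c, hc⟩ : ∃ c, c = μ / f x' x := ⟨_, rfl⟩
  have hc0 : c ≠ 0 := by rw [hc]; exact div_ne_zero hμ0 hx'x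
  have hcμ : c * f x' x = μ := by rw [hc]; field_simp
  have hσc : σ c * f x x' = -μ := by
    rw [← hσ', ← map_mul, hcμ, hμ]
  have hz : f (x + c • x') (x + c • x') = 0 := by
    rw [h.add_left, h.add_right, h.add_right, h.smul_left, h.smul_left, h.smul_right, h.smul_right,
      hx, hx']
    linear_combination hσc + hcμ
  have hzx : f (x + c • x') x = μ := by
    rw [h.add_left, h.smul_left, hx, zero_add, hcμ]
  have hz0 : x + c • x' ≠ 0 := by
    intro h0
    rw [h0, h.zero_left] at hzx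
    exact hμ0 hzx.symm
  obtain ⟨a'', ha''⟩ := hall _ hz0 hz
  rw [map_add, map_smul, ha, ha'] at ha''
  have e1 := congrArg (fun v => f v x') ha''
  have e2 := congrArg (fun v => f v x) ha''
  simp only [h.add_left, h.smul_left, hx, hx', mul_zero, add_zero, zero_add] at e1 e2
  have r1 : a = a'' := mul_right_cancel₀ hxx' e1
  have r2 : a' = a'' := by
    have : a' * (c * f x' x) = a'' * (c * f x' x) := by linear_combination e2
    exact mul_right_cancel₀ (mul_ne_zero hc0 hx'x) this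
  rw [r1, r2]

/-- a non-scalar operator has an isotropic non-eigenvector -/
theorem exists_non_eigen (h : SHerm σ f) {β₀ : F} (hβ : β₀ + σ β₀ ≠ 0) {μ : F} (hμ0 : μ ≠ 0)
    (hμ : σ μ = -μ) (hiso : ∃ x₀ : V, x₀ ≠ 0 ∧ f x₀ x₀ = 0) {S : V →ₗ[F] V}
    (hS : ¬ ∃ c : F, S = c • LinearMap.id) :
    ∃ x, x ≠ 0 ∧ f x x = 0 ∧ ∀ c : F, S x ≠ c • x := by
  by_contra hcon
  push Not at hcon
  have hall : ∀ x, x ≠ 0 → f x x = 0 → ∃ c : F, S x = c • x := hcon
  obtain ⟨x₀, hx₀0, hx₀⟩ := hiso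
  obtain ⟨w, hw⟩ := h.nondeg' x₀ hx₀0
  obtain ⟨s₁, hs₁⟩ := make_iso h hβ hx₀ hw
  obtain ⟨x₁, hx₁def⟩ : ∃ x₁, x₁ = w + s₁ • x₀ := ⟨_, rfl⟩
  rw [← hx₁def] at hs₁
  have h10 : f x₁ x₀ = 1 := by rw [hx₁def, h.add_left, h.smul_left, hx₀, mul_zero, add_zero, hw]
  have h01 : f x₀ x₁ = 1 := by rw [h.herm, h10, map_one]
  obtain ⟨a₀, ha₀⟩ := hall x₀ hx₀0 hx₀
  have key : ∀ z, f z z = 0 → f z x₀ ≠ 0 → S z = a₀ • z := by
    intro z hz hzx
    have hz0 : z ≠ 0 := by
      intro h0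
      rw [h0, h.zero_left] at hzx
      exact hzx rfl
    obtain ⟨a, ha⟩ := hall z hz0 hz
    have hx₀z : f x₀ z ≠ 0 := by
      rw [h.herm]
      intro h0
      apply hzx
      have := congrArg σ h0
      rwa [h.invol, map_zero] at this
    rw [ha, eigen_eq h hμ0 hμ hall hx₀ hz hx₀z ha₀ ha]
  apply hS
  refine ⟨a₀, LinearMap.ext fun v => ?_⟩
  rw [LinearMap.smul_apply, LinearMap.id_apply]
  obtain ⟨v', hv'⟩ : ∃ v', v' = v - f v x₁ • x₀ - f v x₀ • x₁ := ⟨_, rfl⟩
  have hv'1 : f v' x₁ = 0 := by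
    rw [hv', h.sub_left, h.sub_left, h.smul_left, h.smul_left, h01, hs₁]
    ring
  have hv'0 : f v' x₀ = 0 := by
    rw [hv', h.sub_left, h.sub_left, h.smul_left, h.smul_left, hx₀, h10]
    ring
  have h1v' : f x₁ v' = 0 := by rw [h.herm, hv'1, map_zero]
  have h0v' : f x₀ v' = 0 := by rw [h.herm, hv'0, map_zero]
  obtain ⟨s, hs⟩ := trace_solve h hβ (-f v' v') (by rw [map_neg, h.self_fixed])
  have hz : f (v' + s • x₀ + x₁) (v' + s • x₀ + x₁) = 0 := by
    simp only [h.add_left, h.add_right, h.smul_left, h.smul_right, hv'1, hv'0, h1v', h0v', hx₀,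
      hs₁, h10, h01, mul_zero, mul_one, add_zero, zero_add]
    linear_combination hs
  have hzx : f (v' + s • x₀ + x₁) x₀ ≠ 0 := by
    rw [h.add_left, h.add_left, h.smul_left, hv'0, hx₀, h10, mul_zero, zero_add, zero_add]
    exact one_ne_zero
  have e1 := key _ hz hzx
  have e2 := key x₁ hs₁ (by rw [h10]; exact one_ne_zero)
  have hv : v = (v' + s • x₀ + x₁) + (f v x₁ - s) • x₀ + (f v x₀ - 1) • x₁ := by
    rw [hv']
    module
  rw [hv]
  simp only [map_add, map_smul, e1, e2, ha₀]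
  module

/-- **T3c, abstract form**: if the fixed field has at least three elements, an invariant family
containing a non-scalar operator contains a rank-one operator with isotropic centre. -/
theorem exists_rank_one (h : SHerm σ f) {X : AddSubgroup (V →ₗ[F] V)} (hX : Inv σ f h X)
    {c' : F} (hc' : σ c' = c') (hc0 : c' ≠ 0) (hc1 : c' ≠ 1) {μ : F} (hμ0 : μ ≠ 0)
    (hμ : σ μ = -μ) {β₀ : F} (hβ : β₀ + σ β₀ ≠ 0) (hiso : ∃ x₀ : V, x₀ ≠ 0 ∧ f x₀ x₀ = 0)
    {S₀ : V →ₗ[F] V} (hS₀ : S₀ ∈ X) (hns : ¬ ∃ c : F, S₀ = c • LinearMap.id) :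
    ∃ (x : V) (κ : F), x ≠ 0 ∧ f x x = 0 ∧ κ ≠ 0 ∧ σ κ = -κ ∧ κ • outer σ f h x x ∈ X := by
  by_cases hA : ∃ x, x ≠ 0 ∧ f x x = 0 ∧ f (S₀ x) x ≠ 0
  · obtain ⟨x, hx0, hx, hκ⟩ := hA
    exact caseA h hX hc' hc0 hc1 hμ0 hμ hS₀ hx0 hx hκ
  push Not at hA
  obtain ⟨x, hx0, hx, hne⟩ := exists_non_eigen h hβ hμ0 hμ hiso hns
  have hyx : f (S₀ x) x = 0 := hA x hx0 hx
  have hxy : f x (S₀ x) = 0 := by rw [h.herm, hyx, map_zero]
  obtain ⟨w, w', hw1, hw2, hw3, hw4⟩ := dual_pair h hx0 hne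
  obtain ⟨v₀, hv₀⟩ : ∃ v₀, v₀ = w + β₀ • w' := ⟨_, rfl⟩
  have hv₀x : f v₀ x = 1 := by
    rw [hv₀, h.add_left, h.smul_left, hw1, hw3, mul_zero, add_zero]
  have hv₀y : f v₀ (S₀ x) = β₀ := by
    rw [hv₀, h.add_left, h.smul_left, hw2, hw4, mul_one, zero_add]
  obtain ⟨s, hs⟩ := make_iso h hβ hx hv₀x
  obtain ⟨x', hx'⟩ : ∃ x', x' = v₀ + s • x := ⟨_, rfl⟩
  rw [← hx'] at hs
  have hx'x : f x' x = 1 := by rw [hx', h.add_left, h.smul_left, hx, mul_zero, add_zero, hv₀x]
  have hx'y : f x' (S₀ x) = β₀ := by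
    rw [hx', h.add_left, h.smul_left, hxy, mul_zero, add_zero, hv₀y]
  have hxx' : f x x' = 1 := by rw [h.herm, hx'x, map_one]
  have hyx' : f (S₀ x) x' = σ β₀ := by rw [h.herm, hx'y]
  have hx'0 : x' ≠ 0 := by
    intro h0
    rw [h0, h.zero_left] at hx'x
    exact zero_ne_one hx'x
  have hsk := hX.skew S₀ hS₀
  have h1 := hX.conj x μ hx hμ S₀ hS₀
  rw [conj_formula h x μ hsk, hyx, mul_zero, zero_smul, sub_zero] at h1
  have hS₁ : S₀ - μ • (outer σ f h (S₀ x) x + outer σ f h x (S₀ x)) - S₀ ∈ X := X.sub_mem h1 hS₀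
  refine caseA h hX hc' hc0 hc1 hμ0 hμ hS₁ hx'0 hs ?_
  simp only [LinearMap.sub_apply, LinearMap.smul_apply, LinearMap.add_apply, outer_apply,
    h.sub_left, h.add_left, h.smul_left, hx'x, hx'y, hxx', hyx']
  intro h0
  apply hβ
  have : -μ * (β₀ + σ β₀) = 0 := by linear_combination h0
  rcases mul_eq_zero.mp this with h' | h'
  · exact absurd (neg_eq_zero.mp h') hμ0
  · exact h'

end Cfsg.Agent.Lib.Helper26.UInv
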