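import Mathlib
import Cfsg.Agent.Lib.Helper28.TensUDefs
import Cfsg.Agent.Lib.Helper28.S5670FOHS
import Cfsg.Agent.Lib.Helper24.S5670FOISO
import Cfsg.Agent.Lib.Helper26.S5670T3cDefs
import Cfsg.Agent.Lib.Helper26.UnitaryInvSub

/-!
# S5670 FO-T3c, piece T3c-E (helper26): `rank_one_of_three_le`

Transfer of the abstract lemma `UInv.exists_rank_one` to matrices.
-/

set_option autoImplicit false
set_option linter.unusedSectionVars false
set_option linter.unusedVariables false

namespace Cfsg.Agent.Lib.Helper26.T3cE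

open Matrix Module
open Cfsg.Agent.Lib.Helper16.Tens Cfsg.Agent.Lib.Helper10.TensFund Cfsg.Agent.Lib.Helper28.TensU
  Cfsg.Agent.Lib.Helper26.T3c Cfsg.Agent.Lib.Helper26.UInv
open Cfsg.Agent.Lib.Helper28.S5670HS

variable {F : Type*} [Field F] [Fintype F] {a : ℕ} {q : ℕ}

/-- the Frobenius `x ↦ x ^ q` -/
def frobQ (hF : Fintype.card F = q ^ 2) : F →+* F where
  toFun x := x ^ q
  map_one' := one_pow q
  map_mul' x y := mul_pow x y q
  map_zero' := zero_pow (q_pos hF).ne'
  map_add' x y := add_pow_q hF x y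

@[simp] theorem frobQ_apply (hF : Fintype.card F = q ^ 2) (x : F) : frobQ hF x = x ^ q := rfl

theorem sherm (hF : Fintype.card F = q ^ 2) :
    SHerm (frobQ hF) (fun x y : Fin a → F => hs q x y) where
  add_left x y v := hs_add_left x y v
  smul_left c x v := hs_smul_left c x v
  herm v w := hs_conj hF w v
  invol x := pow_q_pow_q hF x
  nondeg v hv := by
    by_contra hcon
    push Not at hcon
    exact hv (hs_nondeg_right hF v hcon)

/-- a generator-type element: `g ≠ 0` with `g ^ n ≠ 1` for `0 < n < q² - 1` -/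
theorem exists_gen (hF : Fintype.card F = q ^ 2) :
    ∃ g : F, g ≠ 0 ∧ ∀ n : ℕ, g ^ n = 1 → (q ^ 2 - 1) ∣ n := by
  classical
  obtain ⟨g, hg⟩ := IsCyclic.exists_generator (α := Fˣ)
  have hord : orderOf g = q ^ 2 - 1 := by
    rw [orderOf_eq_card_of_forall_mem_zpowers hg, Nat.card_eq_fintype_card, Fintype.card_units, hF]
  refine ⟨(g : F), g.ne_zero, ?_⟩
  intro n hn
  have : g ^ n = 1 := by
    apply Units.ext
    rw [Units.val_pow_eq_pow_val, hn, Units.val_one]
  rw [← hord]
  exact orderOf_dvd_of_pow_eq_one this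

/-- a fixed element other than `0`, `1` -/
theorem exists_fixed (hF : Fintype.card F = q ^ 2) (hq : 3 ≤ q) :
    ∃ c : F, c ^ q = c ∧ c ≠ 0 ∧ c ≠ 1 := by
  obtain ⟨g, hg0, hg⟩ := exists_gen hF
  refine ⟨g ^ (q + 1), ?_, pow_ne_zero _ hg0, ?_⟩
  · rw [← pow_mul]
    have : (q + 1) * q = q ^ 2 + q := by ring
    rw [this, pow_add, ← hF, FiniteField.pow_card, pow_succ']
  · intro h1
    have hd := hg _ h1
    have hle := Nat.le_of_dvd (by omega) hd
    have : q ^ 2 ≥ 3 * q := by nlinarith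
    omega

/-- an element of non-zero trace -/
theorem exists_trace_ne (hF : Fintype.card F = q ^ 2) : ∃ β : F, β + β ^ q ≠ 0 := by
  obtain ⟨g, hg0, hg⟩ := exists_gen hF
  have hq2 := q_ge_two hF
  refine ⟨g, ?_⟩
  intro h0
  have h1 : g ^ q = -g := eq_neg_of_add_eq_zero_right h0
  have h2 : g ^ (q - 1) = -1 := by
    have : g ^ q = g ^ (q - 1) * g := by rw [← pow_succ]; congr 1; omega
    rw [this] at h1
    have h3 : (g ^ (q - 1) + 1) * g = 0 := by rw [add_mul, h1]; ring
    rcases mul_eq_zero.mp h3 with h | h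
    · exact eq_neg_of_add_eq_zero_left h
    · exact absurd h hg0
  have h3 : g ^ (2 * (q - 1)) = 1 := by
    rw [mul_comm, pow_mul, h2]; ring
  have hd := hg _ h3
  have hle := Nat.le_of_dvd (by omega) hd
  have : q ^ 2 ≥ 2 * q := by nlinarith
  omega

/-- the matrix of `outer x x` is `rk1 q x` -/
theorem toMatrix'_outer (hF : Fintype.card F = q ^ 2) (x : Fin a → F) :
    LinearMap.toMatrix' (outer (frobQ hF) (fun x y : Fin a → F => hs q x y) (sherm hF) x x) =
      rk1 q x := by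
  ext i j
  rw [LinearMap.toMatrix'_apply, outer_apply, rk1_apply]
  simp only [Pi.smul_apply, smul_eq_mul]
  have : hs q (Pi.single j (1 : F)) x = x j ^ q := by
    simp [hs, Pi.single_apply]
  rw [this, mul_comm]

theorem toMatrix'_tv (hF : Fintype.card F = q ^ 2) (x : Fin a → F) (μ : F) :
    LinearMap.toMatrix' (tv (frobQ hF) (fun x y : Fin a → F => hs q x y) (sherm hF) x μ) =
      1 + μ • rk1 q x := by
  rw [tv, map_add, map_smul, toMatrix'_outer, LinearMap.toMatrix'_id]

theorem ct_one_add (hF : Fintype.card F = q ^ 2) (x : Fin a → F) (μ : F) :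
    ct q (1 + μ • rk1 q x) = 1 + μ ^ q • rk1 q x := by
  ext i j
  simp only [ct_apply, Matrix.add_apply, Matrix.smul_apply, rk1_apply, smul_eq_mul]
  rw [add_pow_q hF, mul_pow, mul_pow, pow_q_pow_q hF]
  by_cases hij : i = j
  · subst hij
    rw [Matrix.one_apply_eq, one_pow]
    ring
  · rw [Matrix.one_apply_ne hij, Matrix.one_apply_ne (Ne.symm hij), zero_pow (q_pos hF).ne']
    ring

theorem rk1_mul_rk1 (x : Fin a → F) : rk1 q x * rk1 q x = hs q x x • rk1 q x := by
  rw [rk1, vecMulVec_mul_vecMulVec]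
  ext i j
  simp only [vecMulVec_apply, Pi.smul_apply, smul_eq_mul, Matrix.smul_apply, cj_apply]
  have : cj q x ⬝ᵥ x = hs q x x := by
    simp only [dotProduct, hs, cj_apply]
    apply Finset.sum_congr rfl
    intro k _
    ring
  rw [this]
  ring

theorem det_one_add (x : Fin a → F) (μ : F) (hx : hs q x x = 0) :
    (1 + μ • rk1 q x).det = 1 := by
  have h1 : μ • rk1 q x = replicateCol Unit (μ • x) * replicateRow Unit (cj q x) := by
    rw [← vecMulVec_eq, rk1]
    ext i j
    simp [vecMulVec_apply, mul_assoc]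
  rw [h1, det_one_add_replicateCol_mul_replicateRow]
  have : cj q x ⬝ᵥ (μ • x) = μ * hs q x x := by
    simp only [dotProduct, hs, cj_apply, Pi.smul_apply, smul_eq_mul, Finset.mul_sum]
    apply Finset.sum_congr rfl
    intro k _
    ring
  rw [this, hx, mul_zero, add_zero]

/-- T3c-E -/
theorem rank_one_of_three_le (hF : Fintype.card F = q ^ 2) (hq : 3 ≤ q) (ha : 2 ≤ a)
    (X : AddSubgroup (Matrix (Fin a) (Fin a) F)) (hX : InvX q X)
    (S₀ : Matrix (Fin a) (Fin a) F) (hS₀ : S₀ ∈ X) (hns : ¬ ∃ c : F, S₀ = c • 1) :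
    ∃ (u : Fin a → F) (c : F), u ≠ 0 ∧ c ≠ 0 ∧ c + c ^ q = 0 ∧ c • rk1 q u ∈ X := by
  classical
  set f : (Fin a → F) → (Fin a → F) → F := fun x y => hs q x y with hf
  set σ := frobQ hF with hσ
  have h := sherm (a := a) hF
  set e : ((Fin a → F) →ₗ[F] (Fin a → F)) →+ Matrix (Fin a) (Fin a) F :=
    (LinearMap.toMatrix' (R := F) (n := Fin a) (m := Fin a)).toLinearMap.toAddMonoidHom with he
  have he_apply : ∀ L, e L = LinearMap.toMatrix' L := fun L => rfl
  set X' : AddSubgroup ((Fin a → F) →ₗ[F] (Fin a → F)) := X.comap e with hX'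
  have hmem : ∀ L, L ∈ X' ↔ LinearMap.toMatrix' L ∈ X := fun L => Iff.rfl
  have hInv : Inv σ f h X' := by
    refine ⟨?_, ?_, ?_⟩
    · intro S hS v w
      have := hX.skew _ ((hmem S).mp hS) v w
      rwa [LinearMap.toMatrix'_mulVec, LinearMap.toMatrix'_mulVec] at this
    · intro c hc S hS
      rw [hmem, map_smul]
      exact hX.scal c hc _ ((hmem S).mp hS)
    · intro x μ hx hμ S hS
      rw [hmem, LinearMap.toMatrix'_comp, LinearMap.toMatrix'_comp, toMatrix'_tv, toMatrix'_tv]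
      have hμ' : μ ^ q = -μ := hμ
      have hct : ct q (1 + μ • rk1 q x) = 1 + -μ • rk1 q x := by
        rw [ct_one_add hF, hμ']
      have := hX.conj (1 + μ • rk1 q x) (by
        rw [hct]
        have : (1 + μ • rk1 q x) * (1 + -μ • rk1 q x) =
            1 - (μ * μ) • (rk1 q x * rk1 q x) := by
          simp only [Matrix.add_mul, Matrix.mul_add, Matrix.one_mul, Matrix.mul_one,
            Matrix.smul_mul, Matrix.mul_smul, smul_smul, neg_smul]
          abel_nf
          simp [smul_smul]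
        rw [this, rk1_mul_rk1, show hs q x x = 0 from hx, zero_smul, smul_zero, sub_zero])
        (det_one_add x μ hx) _ ((hmem S).mp hS)
      rw [hct] at this
      rw [← Matrix.mul_assoc]
      exact this
  obtain ⟨c', hc', hc0, hc1⟩ := exists_fixed hF hq
  obtain ⟨μ, hμ0, hμ⟩ := exists_trace_zero hF
  obtain ⟨β₀, hβ⟩ := exists_trace_ne hF
  obtain ⟨k, hk0, hk⟩ := Cfsg.Agent.Lib.Helper24.S5670ISO.exists_iso (n := a) hF ha
  have hS₀' : Matrix.toLin' S₀ ∈ X' := by
    rw [hmem, LinearMap.toMatrix'_toLin']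
    exact hS₀
  have hns' : ¬ ∃ c : F, Matrix.toLin' S₀ = c • LinearMap.id := by
    rintro ⟨c, hc⟩
    apply hns
    refine ⟨c, ?_⟩
    have := congrArg LinearMap.toMatrix' hc
    rwa [LinearMap.toMatrix'_toLin', map_smul, LinearMap.toMatrix'_id] at this
  obtain ⟨x, κ, hx0, hxx, hκ0, hκ, hmemκ⟩ :=
    exists_rank_one (σ := σ) (f := f) h hInv (c' := c') hc' hc0 hc1 (μ := μ) hμ0
      (eq_neg_of_add_eq_zero_right hμ) (β₀ := β₀) hβ ⟨k, hk0, hk⟩ hS₀' hns'
  refine ⟨x, κ, hx0, hκ0, ?_, ?_⟩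
  · have : κ ^ q = -κ := hκ
    rw [this]; ring
  · rw [hmem, map_smul, toMatrix'_outer] at hmemκ
    exact hmemκ

end Cfsg.Agent.Lib.Helper26.T3cE
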