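import Mathlib
import Cfsg.Agent.Lib.Helper28.TensUDefs
import Cfsg.Agent.Lib.Helper26.S5670T3cDefs
import Cfsg.Agent.Lib.Helper26.S5670T3cE
import Cfsg.Agent.H5.S5670T3cA
import Cfsg.Agent.Lib.Helper12.S5670T3cB
import Cfsg.Agent.Lib.Helper29.S5670T3cFAPI
import Cfsg.Agent.Lib.Helper29.S5670T3cFMASK
import Cfsg.Agent.Lib.Helper29.S5670T3cFPERM
import Cfsg.Agent.Lib.Helper29.S5670T3cFTV
import Cfsg.Agent.Lib.Helper23.S5670T3cCDG
import Cfsg.Agent.Lib.Helper17.S5670T3cFAux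
import Cfsg.Agent.Lib.Helper22.S5670T3cFaux
import Cfsg.Agent.Lib.Helper10.S5670T3cFA3

/-!
# S5670 FO-T3c (helper26, sub-architect): `exists_transvection`

Assembly of the sub-pieces of `notes/S5670T3cSkel_helper26.lean.txt`:
T3c-A (helper5), T3c-B (helper12), T3c-C/D/G (helper23), T3c-E (helper26),
F-API/MASK/PERM/TV (helper29), F-DIAG/ISO/OFF (helper17), F-EPS/DELTA/SUM (helper22), F-A3 (helper10).
-/

set_option autoImplicit false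
set_option linter.unusedSectionVars false
set_option linter.unusedVariables false

namespace Cfsg.Agent.Lib.Helper26.S5670T3c

open Matrix Module
open Cfsg.Agent.Lib.Helper16.Tens Cfsg.Agent.Lib.Helper10.TensFund Cfsg.Agent.Lib.Helper28.TensU
  Cfsg.Agent.Lib.Helper26.T3c
open scoped Kronecker

variable {F : Type*} [Field F] [Fintype F] {a b : ℕ} {q : ℕ}
variable {M : Subgroup (GL (Fin a × Fin b) F)}

local notation "K" => Cfsg.Geo.kroneckerSubgroup a b F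
local notation "V" => (Fin a × Fin b → F)

/-! ## the wrapped pieces -/

open Cfsg.Agent.Lib.Helper29.S5670T3cFAPI in
theorem om_of (hF : Fintype.card F = 2 ^ 2) : ∃ ω : F, Cfsg.Agent.Lib.Helper17.S5670T3cF.Om ω := by
  obtain ⟨ω, h0, h1, hsq⟩ := f4_exists_omega hF
  exact ⟨ω, ⟨f4_two hF, h0, h1, hsq⟩⟩

theorem iso_mem (hF : Fintype.card F = 2 ^ 2) (ha : 4 ≤ a) {X : AddSubgroup (Matrix (Fin a) (Fin a) F)}
    (hX : InvX 2 X) {S : Matrix (Fin a) (Fin a) F} (hS : S ∈ X) (i j : Fin a) (hij : i ≠ j) :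
    eE 2 i j (S i j) ∈ X := by
  obtain ⟨ω, hω⟩ := om_of hF
  exact Cfsg.Agent.Lib.Helper17.S5670T3cF.iso_mem_aux hω
    (fun d hd hdet S hS => Cfsg.Agent.Lib.Helper29.S5670T3cFMASK.mask_mem hF hX d hd hdet hS) ha hS
    (fun i j => Cfsg.Agent.Lib.Helper29.S5670T3cFAPI.skewM_entry hF (hX.skew S hS) i j) i j hij

theorem diag_mem (hF : Fintype.card F = 2 ^ 2) (ha : 3 ≤ a) {X : AddSubgroup (Matrix (Fin a) (Fin a) F)}
    (hX : InvX 2 X) {S : Matrix (Fin a) (Fin a) F} (hS : S ∈ X) :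
    Matrix.diagonal (fun i => S i i) ∈ X := by
  obtain ⟨ω, hω⟩ := om_of hF
  exact Cfsg.Agent.Lib.Helper17.S5670T3cF.diag_mem_aux hω
    (fun d hd hdet S hS => Cfsg.Agent.Lib.Helper29.S5670T3cFMASK.mask_mem hF hX d hd hdet hS)
    (by omega) hS

theorem off_mem (hF : Fintype.card F = 2 ^ 2) (ha : 3 ≤ a) {X : AddSubgroup (Matrix (Fin a) (Fin a) F)}
    (hX : InvX 2 X) (i j : Fin a) (hij : i ≠ j) (lam : F) (hlam : lam ≠ 0) (h : eE 2 i j lam ∈ X) :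
    ∀ (i' j' : Fin a), i' ≠ j' → ∀ lam' : F, eE 2 i' j' lam' ∈ X :=
  Cfsg.Agent.Lib.Helper17.S5670T3cF.off_mem_aux hX
    (fun x hx => Cfsg.Agent.Lib.Helper29.S5670T3cFAPI.f4_pow_three hF hx)
    (fun σ S hS => Cfsg.Agent.Lib.Helper29.S5670T3cFPERM.perm_mem hF hX σ hS) ha i j hij lam hlam h

theorem exists_offdiag (hF : Fintype.card F = 2 ^ 2) (ha : 4 ≤ a) {X : AddSubgroup (Matrix (Fin a) (Fin a) F)}
    (hX : InvX 2 X) (S₀ : Matrix (Fin a) (Fin a) F) (hS₀ : S₀ ∈ X) (hns : ¬ ∃ c : F, S₀ = c • 1) :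
    ∃ T ∈ X, ∃ i j : Fin a, i ≠ j ∧ T i j ≠ 0 :=
  Cfsg.Agent.Lib.Helper22.S5670T3cF.exists_offdiag_aux (Cfsg.Agent.Lib.Helper29.S5670T3cFAPI.f4_two hF) ha
    (fun v hv S hS => Cfsg.Agent.Lib.Helper29.S5670T3cFTV.tv_mem hF hX v hv hS) S₀ hS₀ hns

theorem exists_piD (hF : Fintype.card F = 2 ^ 2) (ha : 4 ≤ a) {X : AddSubgroup (Matrix (Fin a) (Fin a) F)}
    (hX : InvX 2 X) (hoff : ∀ (i j : Fin a), i ≠ j → ∀ lam : F, eE 2 i j lam ∈ X) :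
    ∃ j l : Fin a, j ≠ l ∧ (piD j l : Matrix (Fin a) (Fin a) F) ∈ X := by
  obtain ⟨ω, -, -, hω⟩ := Cfsg.Agent.Lib.Helper29.S5670T3cFAPI.f4_exists_omega hF
  exact Cfsg.Agent.Lib.Helper22.S5670T3cF.exists_piD_aux (Cfsg.Agent.Lib.Helper29.S5670T3cFAPI.f4_two hF)
    ω hω ha (fun v hv S hS => Cfsg.Agent.Lib.Helper29.S5670T3cFTV.tv_mem hF hX v hv hS)
    (fun S hS => diag_mem hF (by omega) hX hS) hoff

/-! ## assembly -/

/-- F-GE4 -/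
theorem rank_one_of_two_four (hF : Fintype.card F = 2 ^ 2) (ha : 4 ≤ a)
    (X : AddSubgroup (Matrix (Fin a) (Fin a) F)) (hX : InvX 2 X)
    (S₀ : Matrix (Fin a) (Fin a) F) (hS₀ : S₀ ∈ X) (hns : ¬ ∃ c : F, S₀ = c • 1) :
    ∃ u : Fin a → F, u ≠ 0 ∧ rk1 2 u ∈ X := by
  obtain ⟨T, hT, i, j, hij, hTij⟩ := exists_offdiag hF ha hX S₀ hS₀ hns
  have h1 := iso_mem hF ha hX hT i j hij
  have hoff := off_mem hF (by omega) hX i j hij _ hTij h1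
  obtain ⟨j', l', hjl, hpi⟩ := exists_piD hF ha hX hoff
  refine ⟨Pi.single j' 1 + Pi.single l' 1, ?_, ?_⟩
  · intro h0
    have := congrFun h0 j'
    simp [hjl] at this
  · rw [Cfsg.Agent.Lib.Helper22.S5670T3cF.rk1_add_single j' l' hjl]
    exact X.add_mem hpi (hoff j' l' hjl 1)

/-- T3c-F -/
theorem rank_one_of_two (hF : Fintype.card F = 2 ^ 2) (ha : 3 ≤ a)
    (X : AddSubgroup (Matrix (Fin a) (Fin a) F)) (hX : InvX 2 X)
    (h1 : (1 : Matrix (Fin a) (Fin a) F) ∈ X)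
    (S₀ : Matrix (Fin a) (Fin a) F) (hS₀ : S₀ ∈ X) (hns : ¬ ∃ c : F, S₀ = c • 1) :
    ∃ u : Fin a → F, u ≠ 0 ∧ rk1 2 u ∈ X := by
  by_cases h3 : a = 3
  · subst h3
    exact Cfsg.Agent.Lib.Helper10.S5670T3cFA3.rank_one_of_two_three hF X hX h1 S₀ hS₀ hns
  · exact rank_one_of_two_four hF (by omega) X hX S₀ hS₀ hns

/-- the additive group `XS` -/
def XG (hF : Fintype.card F = q ^ 2) (M : Subgroup (GL (Fin a × Fin b) F)) (k₀ : Fin b → F)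
    (hk : hs q k₀ k₀ = 0) : AddSubgroup (Matrix (Fin a) (Fin a) F) where
  carrier := XS q M k₀
  add_mem' h h' := Cfsg.Agent.Lib.Helper12.S5670T3cB.XS_add hF k₀ hk h h'
  zero_mem' := Cfsg.Agent.Lib.Helper12.S5670T3cB.XS_zero hF k₀
  neg_mem' h := Cfsg.Agent.Lib.Helper12.S5670T3cB.XS_neg hF k₀ hk h

theorem mem_XG (hF : Fintype.card F = q ^ 2) (k₀ : Fin b → F) (hk : hs q k₀ k₀ = 0)
    (S : Matrix (Fin a) (Fin a) F) : S ∈ XG hF M k₀ hk ↔ S ∈ XS q M k₀ := Iff.rfl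

theorem invX_XG (hF : Fintype.card F = q ^ 2) (hb : 3 ≤ b) (hM : OverU q M) (k₀ : Fin b → F)
    (hk0 : k₀ ≠ 0) (hk : hs q k₀ k₀ = 0) : InvX q (XG hF M k₀ hk) where
  skew S hS := hS.1
  scal c hc S hS := Cfsg.Agent.Lib.Helper23.S5670T3cCDG.XS_smul hF hb hM k₀ hk0 hk c hc hS
  conj A hA hdet S hS := Cfsg.Agent.Lib.Helper23.S5670T3cCDG.XS_conj hF hM k₀ A hA hdet hS

/-- FO-T3c -/
theorem exists_transvection (hF : Fintype.card F = q ^ 2) (ha : 2 ≤ a) (hb : 3 ≤ b) (hex : ¬ (a = 2 ∧ q = 2))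
    (hM : OverU q M)
    (z : GL (Fin a × Fin b) F) (hz : z ∈ M) (hzK : z ∉ K) (k₀ : Fin b → F) (hk0 : k₀ ≠ 0) (hk : hs q k₀ k₀ = 0)
    (hfix : ∀ v ∈ hyp (a := a) (cj q k₀), act z v = v) :
    ∃ (u : Fin a → F) (c : F) (t : GL (Fin a × Fin b) F), u ≠ 0 ∧ c ≠ 0 ∧ c + c ^ q = 0 ∧ t ∈ M ∧
      ∀ v : V, act t v = v + (c * hs q v (pur u k₀)) • pur u k₀ := by
  obtain ⟨S, hSk, hSz, hSns⟩ := Cfsg.H5.S5670T3cA.exists_S hF z (hM.le_UG hz) hzK k₀ hk0 hk hfix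
  have hSX : S ∈ XG hF M k₀ hk := ⟨hSk, z, hz, hSz⟩
  have hX := invX_XG hF hb hM k₀ hk0 hk
  have hq2 : 2 ≤ q := by
    have h1 : 1 < Fintype.card F := Fintype.one_lt_card
    rw [hF] at h1
    by_contra h
    push Not at h
    interval_cases q <;> omega
  by_cases hq : 3 ≤ q
  · obtain ⟨u, c, hu, hc, hcc, hmem⟩ :=
      Cfsg.Agent.Lib.Helper26.T3cE.rank_one_of_three_le hF hq ha _ hX S hSX hSns
    obtain ⟨-, t, ht, htZ⟩ := hmem
    exact ⟨u, c, t, hu, hc, hcc, ht, Cfsg.Agent.Lib.Helper23.S5670T3cCDG.isZ_rk1 t k₀ u c htZ⟩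
  · have hq' : q = 2 := by omega
    subst hq'
    have ha3 : 3 ≤ a := by
      by_contra h
      exact hex ⟨by omega, rfl⟩
    have hm1 : ((-1 : F)) • (1 : Matrix (Fin a) (Fin a) F) ∈ XG hF M k₀ hk :=
      Cfsg.Agent.Lib.Helper23.S5670T3cCDG.XS_scalar hF hM k₀ hk (-1) (by ring)
    have h1 : (1 : Matrix (Fin a) (Fin a) F) ∈ XG hF M k₀ hk := by
      have := (XG hF M k₀ hk).neg_mem hm1
      simpa using this
    obtain ⟨u, hu, hmem⟩ := rank_one_of_two hF ha3 _ hX h1 S hSX hSns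
    have hmem' : ((-1 : F)) • rk1 2 u ∈ XG hF M k₀ hk := by
      have := (XG hF M k₀ hk).neg_mem hmem
      simpa using this
    obtain ⟨-, t, ht, htZ⟩ := hmem'
    exact ⟨u, -1, t, hu, by simp, by ring, ht, Cfsg.Agent.Lib.Helper23.S5670T3cCDG.isZ_rk1 t k₀ u (-1) htZ⟩

end Cfsg.Agent.Lib.Helper26.S5670T3c
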