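import Mathlib
import Cfsg.Agent.Lib.Helper8.S5670T2Defs
import Cfsg.Agent.Lib.Helper25.S5670FOPERP

/-!
# S5670 FO-T2T3, piece T2-C (helper26; sub-architect helper8)
`img_hyp_of_img_pt`, `inRad_inv`, `conj_inRad`, `comm_fix`.
-/

set_option autoImplicit false
set_option linter.unusedSectionVars false
set_option linter.unusedVariables false

namespace Cfsg.Agent.Lib.Helper26.S5670T2C

open Matrix Module
open Cfsg.Agent.Lib.Helper16.Tens Cfsg.Agent.Lib.Helper10.TensFund Cfsg.Agent.Lib.Helper28.TensU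
open Cfsg.Agent.Lib.Helper8.S5670T2
open scoped Kronecker

variable {F : Type*} [Field F] [Fintype F] {a b : ℕ} {q : ℕ}

local notation "K" => Cfsg.Geo.kroneckerSubgroup a b F
local notation "V" => (Fin a × Fin b → F)

/-- T2-C (a) -/
theorem img_hyp_of_img_pt (hF : Fintype.card F = q ^ 2) (m : GL (Fin a × Fin b) F)
    (hm : m ∈ UG (Fin a × Fin b) F q) (k₀ : Fin b → F) (hstab : img m (pt (a := a) k₀) = pt k₀) :
    img m (hyp (a := a) (cj q k₀)) = hyp (cj q k₀) := by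
  ext v
  rw [Cfsg.Agent.Lib.Helper25.S5670PERP.mem_img_hyp_cj_iff hF m hm, hstab,
    ← Cfsg.Agent.Lib.Helper25.S5670PERP.mem_hyp_cj_iff hF]

omit [Fintype F] in
theorem inRad_exists (k₀ : Fin b → F) (g : GL (Fin a × Fin b) F) (hg : InRad q k₀ g)
    (v : V) (hv : v ∈ hyp (a := a) (cj q k₀)) : ∃ l ∈ pt (a := a) k₀, act g v = v + l :=
  ⟨act g v - v, hg.2 v hv, by abel⟩

omit [Fintype F] in
/-- T2-C (b) -/
theorem inRad_inv (k₀ : Fin b → F) (g : GL (Fin a × Fin b) F) (hg : InRad q k₀ g) : InRad q k₀ g⁻¹ := by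
  have h1 : ∀ v ∈ pt (a := a) k₀, act g⁻¹ v = v := by
    intro v hv
    have := hg.1 v hv
    calc act g⁻¹ v = act g⁻¹ (act g v) := by rw [this]
      _ = v := act_inv_act g v
  refine ⟨h1, ?_⟩
  intro v hv
  obtain ⟨l, hl, hgl⟩ := inRad_exists k₀ g hg v hv
  have h2 : v = act g⁻¹ v + l := by
    have := congrArg (act g⁻¹) hgl
    rwa [act_inv_act, map_add, h1 l hl] at this
  have h3 : act g⁻¹ v - v = -l := by
    generalize act g⁻¹ v = w at h2 ⊢
    rw [h2]
    abel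
  rw [h3]
  exact (pt k₀).neg_mem hl

/-- T2-C (c) -/
theorem conj_inRad (hF : Fintype.card F = q ^ 2) (m : GL (Fin a × Fin b) F) (hm : m ∈ UG (Fin a × Fin b) F q)
    (k₀ : Fin b → F) (hstab : img m (pt (a := a) k₀) = pt k₀) (r : GL (Fin a × Fin b) F) (hr : InRad q k₀ r) :
    InRad q k₀ (m * r * m⁻¹) := by
  have hstab2 := img_hyp_of_img_pt hF m hm k₀ hstab
  have hpt : ∀ v ∈ pt (a := a) k₀, act m⁻¹ v ∈ pt (a := a) k₀ := by
    intro v hv
    rw [← hstab] at hv
    exact (mem_img_iff m _ v).1 hv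
  have hpt' : ∀ l ∈ pt (a := a) k₀, act m l ∈ pt (a := a) k₀ := by
    intro l hl
    have : act m l ∈ img m (pt (a := a) k₀) := by
      rw [mem_img_iff, act_inv_act]; exact hl
    rwa [hstab] at this
  have hhyp : ∀ v ∈ hyp (a := a) (cj q k₀), act m⁻¹ v ∈ hyp (a := a) (cj q k₀) := by
    intro v hv
    rw [← hstab2] at hv
    exact (mem_img_iff m _ v).1 hv
  refine ⟨?_, ?_⟩
  · intro v hv
    rw [act_mul, act_mul, hr.1 _ (hpt v hv), act_act_inv]
  · intro v hv
    obtain ⟨l, hl, hrl⟩ := inRad_exists k₀ r hr _ (hhyp v hv)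
    rw [act_mul, act_mul, hrl, map_add, act_act_inv]
    have : v + act m l - v = act m l := by abel
    rw [this]
    exact hpt' l hl

omit [Fintype F] in
/-- T2-C (d): two elements of the radical commute modulo elements fixing `U ⊗ k₀^⊥` pointwise -/
theorem comm_fix (k₀ : Fin b → F) (g r : GL (Fin a × Fin b) F) (hg : InRad q k₀ g) (hr : InRad q k₀ r) :
    ∀ v ∈ hyp (a := a) (cj q k₀), act (g * r * g⁻¹ * r⁻¹) v = v := by
  intro v hv
  have hgi := inRad_inv k₀ g hg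
  have hri := inRad_inv k₀ r hr
  obtain ⟨l₁, hl₁, h1⟩ := inRad_exists k₀ r⁻¹ hri v hv
  obtain ⟨l₂, hl₂, h2⟩ := inRad_exists k₀ g⁻¹ hgi v hv
  -- `r v = v - l₁`, `g v = v - l₂`
  have h3 : act r v = v - l₁ := by
    have := congrArg (act r) h1
    rw [act_act_inv, map_add, hr.1 l₁ hl₁] at this
    generalize act r v = w at this ⊢
    rw [this]; abel
  have h4 : act g v = v - l₂ := by
    have := congrArg (act g) h2
    rw [act_act_inv, map_add, hg.1 l₂ hl₂] at this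
    generalize act g v = w at this ⊢
    rw [this]; abel
  rw [act_mul, act_mul, act_mul, h1, map_add, h2, hgi.1 l₁ hl₁]
  simp only [map_add]
  rw [h3, hr.1 l₂ hl₂, hr.1 l₁ hl₁]
  simp only [map_sub]
  rw [h4, hg.1 l₂ hl₂, hg.1 l₁ hl₁]
  abel

end Cfsg.Agent.Lib.Helper26.S5670T2C
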