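import Mathlib
import Cfsg.Prelude.Def_GeometricClasses
import Cfsg.Prelude.Def_LieClassical
import Cfsg.Agent.Lib.Helper6.FFour
import Cfsg.Agent.Lib.Helper29.S5796CDefs

/-!
# S5796 (SU_5), clause `q = 2`: pieces X5-E `sig_emb` and X5-E' `form_emb` (helper26)

The signature `d ↦ h(ζ^d u, u)` and the form `h`, computed in the coordinates `ζ^i v` (`i < 5`).
Exact signatures of notes/S5796XSkel_helper29.lean.txt (the skeleton's `sigF` / `emb` are restated here as `sigF` / `embv`,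
same bodies).
-/

set_option autoImplicit false
set_option maxRecDepth 100000

namespace Cfsg.Agent.Lib.Helper26.S5796XE

open Matrix Cfsg Cfsg.Geo Cfsg.Agent.Lib.Helper29.S5796C
open Cfsg.Agent.Lib.Helper6.FFour (K4)

variable {F : Type*} [Field F]

/-- the signature `d ↦ h(ζ^d u, u)` -/
def sigF (ζ : Matrix (Fin 5) (Fin 5) F) (u : Fin 5 → F) (d : ℕ) : F :=
  hermForm 5 F 2 ((ζ ^ d) *ᵥ u) u

/-- the vector with coordinates `a` in the frame `ζ^i v` -/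
def embv (ζ : Matrix (Fin 5) (Fin 5) F) (v a : Fin 5 → F) : Fin 5 → F :=
  ∑ i : Fin 5, a i • ((ζ ^ (i : ℕ)) *ᵥ v)

/-! ## sesquilinearity of `hermForm 5 F 2` in characteristic 2 -/

theorem herm_add_left (u u' v : Fin 5 → F) :
    hermForm 5 F 2 (u + u') v = hermForm 5 F 2 u v + hermForm 5 F 2 u' v := by
  unfold hermForm
  simp only [Pi.add_apply, add_mul, Finset.sum_add_distrib]

theorem herm_smul_left (c : F) (u v : Fin 5 → F) : hermForm 5 F 2 (c • u) v = c * hermForm 5 F 2 u v := by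
  unfold hermForm
  simp only [Pi.smul_apply, smul_eq_mul, Finset.mul_sum, mul_assoc]

theorem herm_zero_left (v : Fin 5 → F) : hermForm 5 F 2 0 v = 0 := by
  unfold hermForm
  simp

theorem herm_zero_right (u : Fin 5 → F) : hermForm 5 F 2 u 0 = 0 := by
  unfold hermForm
  simp

theorem herm_add_right (h2 : (2 : F) = 0) (u v v' : Fin 5 → F) :
    hermForm 5 F 2 u (v + v') = hermForm 5 F 2 u v + hermForm 5 F 2 u v' := by
  unfold hermForm
  rw [← Finset.sum_add_distrib]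
  apply Finset.sum_congr rfl
  intro i _
  simp only [Pi.add_apply]
  linear_combination (u i * v i * v' i) * h2

theorem herm_smul_right (c : F) (u v : Fin 5 → F) : hermForm 5 F 2 u (c • v) = c ^ 2 * hermForm 5 F 2 u v := by
  unfold hermForm
  rw [Finset.mul_sum]
  apply Finset.sum_congr rfl
  intro i _
  simp only [Pi.smul_apply, smul_eq_mul]
  ring

theorem herm_sum_left {κ : Type*} (s : Finset κ) (f : κ → Fin 5 → F) (v : Fin 5 → F) :
    hermForm 5 F 2 (∑ i ∈ s, f i) v = ∑ i ∈ s, hermForm 5 F 2 (f i) v := by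
  classical
  induction s using Finset.induction_on with
  | empty => simp [herm_zero_left]
  | insert a s ha ih => rw [Finset.sum_insert ha, Finset.sum_insert ha, herm_add_left, ih]

theorem herm_sum_right (h2 : (2 : F) = 0) {κ : Type*} (s : Finset κ) (u : Fin 5 → F) (f : κ → Fin 5 → F) :
    hermForm 5 F 2 u (∑ i ∈ s, f i) = ∑ i ∈ s, hermForm 5 F 2 u (f i) := by
  classical
  induction s using Finset.induction_on with
  | empty => simp [herm_zero_right]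
  | insert a s ha ih => rw [Finset.sum_insert ha, Finset.sum_insert ha, herm_add_right h2, ih]

/-! ## shifting powers of `ζ` across the form -/

theorem herm_pow_left (ζ : Matrix (Fin 5) (Fin 5) F)
    (hadj : ∀ u v : Fin 5 → F, hermForm 5 F 2 (ζ *ᵥ u) v = hermForm 5 F 2 u ((ζ ^ 10) *ᵥ v))
    (k : ℕ) (u v : Fin 5 → F) :
    hermForm 5 F 2 ((ζ ^ k) *ᵥ u) v = hermForm 5 F 2 u ((ζ ^ (10 * k)) *ᵥ v) := by
  induction k generalizing u v with
  | zero => simp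
  | succ k ih =>
    rw [pow_succ, ← Matrix.mulVec_mulVec, ih, hadj, Matrix.mulVec_mulVec, ← pow_add]
    congr 3
    ring

theorem pow_mod11 (ζ : Matrix (Fin 5) (Fin 5) F) (hz : ζ ^ 11 = 1) (m : ℕ) : ζ ^ m = ζ ^ (m % 11) := by
  conv_lhs => rw [← Nat.mod_add_div m 11]
  rw [pow_add, pow_mul, hz, one_pow, mul_one]

theorem herm_pow_right (ζ : Matrix (Fin 5) (Fin 5) F) (hz : ζ ^ 11 = 1)
    (hadj : ∀ u v : Fin 5 → F, hermForm 5 F 2 (ζ *ᵥ u) v = hermForm 5 F 2 u ((ζ ^ 10) *ᵥ v))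
    (j : ℕ) (x y : Fin 5 → F) :
    hermForm 5 F 2 x ((ζ ^ j) *ᵥ y) = hermForm 5 F 2 ((ζ ^ (10 * j)) *ᵥ x) y := by
  rw [herm_pow_left ζ hadj (10 * j) x y]
  have h : ζ ^ (10 * (10 * j)) = ζ ^ j := by
    have e : 10 * (10 * j) = j + 11 * (9 * j) := by ring
    rw [e, pow_add, pow_mul, hz, one_pow, mul_one]
  rw [h]

/-- the Gram values of the frame `ζ^i v` -/
theorem herm_frame (ζ : Matrix (Fin 5) (Fin 5) F) (hz : ζ ^ 11 = 1)
    (hadj : ∀ u v : Fin 5 → F, hermForm 5 F 2 (ζ *ᵥ u) v = hermForm 5 F 2 u ((ζ ^ 10) *ᵥ v))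
    (v : Fin 5 → F) (m j : ℕ) :
    hermForm 5 F 2 ((ζ ^ m) *ᵥ v) ((ζ ^ j) *ᵥ v) = sigF ζ v ((m + 10 * j) % 11) := by
  rw [herm_pow_right ζ hz hadj, Matrix.mulVec_mulVec, ← pow_add, pow_mod11 ζ hz, add_comm (10 * j) m]
  rfl

/-- the form on two combinations of the frame -/
theorem herm_comb (h2 : (2 : F) = 0) (ζ : Matrix (Fin 5) (Fin 5) F) (hz : ζ ^ 11 = 1)
    (hadj : ∀ u v : Fin 5 → F, hermForm 5 F 2 (ζ *ᵥ u) v = hermForm 5 F 2 u ((ζ ^ 10) *ᵥ v))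
    (v : Fin 5 → F) (d : ℕ) (a b : Fin 5 → F) :
    hermForm 5 F 2 ((ζ ^ d) *ᵥ embv ζ v a) (embv ζ v b) =
      ∑ i : Fin 5, ∑ j : Fin 5, a i * b j ^ 2 * sigF ζ v ((d + (i : ℕ) + 10 * (j : ℕ)) % 11) := by
  have e1 : (ζ ^ d) *ᵥ embv ζ v a = ∑ i : Fin 5, a i • ((ζ ^ (d + (i : ℕ))) *ᵥ v) := by
    unfold embv
    rw [Matrix.mulVec_sum]
    apply Finset.sum_congr rfl
    intro i _
    rw [Matrix.mulVec_smul, Matrix.mulVec_mulVec, ← pow_add]
  rw [e1, herm_sum_left]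
  apply Finset.sum_congr rfl
  intro i _
  unfold embv
  rw [herm_sum_right h2]
  apply Finset.sum_congr rfl
  intro j _
  rw [herm_smul_left, herm_smul_right, herm_frame ζ hz hadj]
  ring

theorem sum25 {R : Type*} [CommRing R] (T : ℕ → ℕ → R) : ∑ i : Fin 5, ∑ j : Fin 5, T i j =
    T 0 0 + T 0 1 + T 0 2 + T 0 3 + T 0 4 + T 1 0 + T 1 1 + T 1 2 + T 1 3 + T 1 4 + T 2 0 + T 2 1 + T 2 2 + T 2 3 + T 2 4 +
    T 3 0 + T 3 1 + T 3 2 + T 3 3 + T 3 4 + T 4 0 + T 4 1 + T 4 2 + T 4 3 + T 4 4 := by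
  simp only [Fin.sum_univ_five]
  simp only [Fin.val_zero, Fin.val_one, Fin.val_two]
  have h3 : ((3 : Fin 5) : ℕ) = 3 := rfl
  have h4 : ((4 : Fin 5) : ℕ) = 4 := rfl
  rw [h3, h4]
  ring

theorem sum25' {R : Type*} [CommRing R] (T : Fin 5 → Fin 5 → R) : ∑ i : Fin 5, ∑ j : Fin 5, T i j =
    T 0 0 + T 0 1 + T 0 2 + T 0 3 + T 0 4 + T 1 0 + T 1 1 + T 1 2 + T 1 3 + T 1 4 + T 2 0 + T 2 1 + T 2 2 + T 2 3 + T 2 4 +
    T 3 0 + T 3 1 + T 3 2 + T 3 3 + T 3 4 + T 4 0 + T 4 1 + T 4 2 + T 4 3 + T 4 4 := by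
  simp only [Fin.sum_univ_five]
  ring

/-- **X5-E** the signature in coordinates. -/
theorem sig_emb [Fintype F] (hF : Fintype.card F = 2 ^ 2) (φ : K4 →+* F) (ζ : Matrix (Fin 5) (Fin 5) F) (hz : ζ ^ 11 = 1)
    (hadj : ∀ u v : Fin 5 → F, hermForm 5 F 2 (ζ *ᵥ u) v = hermForm 5 F 2 u ((ζ ^ 10) *ᵥ v))
    (v : Fin 5 → F) (γ : ℕ → K4) (hv : ∀ d < 11, sigF ζ v d = φ (γ d)) (a : Fin 5 → K4) (d : ℕ) :
    sigF ζ (embv ζ v (fun i => φ (a i))) d = φ (sg γ (a 0) (a 1) (a 2) (a 3) (a 4) (d % 11)) := by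
  have h2 : (2 : F) = 0 := Cfsg.Agent.Lib.Helper6.FFour.two_eq_zero (by rw [hF]; norm_num)
  have key : ∀ i j : ℕ, sigF ζ v ((d + i + 10 * j) % 11) = φ (γ ((d % 11 + i + 10 * j) % 11)) := by
    intro i j
    rw [hv _ (Nat.mod_lt _ (by norm_num))]
    congr 2
    omega
  have e1 : sigF ζ (embv ζ v (fun i => φ (a i))) d =
      ∑ i : Fin 5, ∑ j : Fin 5, φ (a i) * φ (a j) ^ 2 * φ (γ ((d % 11 + (i : ℕ) + 10 * (j : ℕ)) % 11)) := by
    show hermForm 5 F 2 ((ζ ^ d) *ᵥ embv ζ v (fun i => φ (a i))) (embv ζ v (fun i => φ (a i))) = _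
    rw [herm_comb h2 ζ hz hadj]
    simp only [key]
  rw [e1, sum25']
  have h3 : ((3 : Fin 5) : ℕ) = 3 := rfl
  have h4 : ((4 : Fin 5) : ℕ) = 4 := rfl
  simp only [Fin.val_zero, Fin.val_one, Fin.val_two, h3, h4, Nat.reduceMul, add_zero, mul_zero]
  unfold sg cj
  simp only [map_add, map_mul]
  ring

theorem G1_eq : ∀ i j : Fin 5, G1 i j = g1 (((i : ℕ) + 10 * (j : ℕ)) % 11) := by
  intro i j
  fin_cases i <;> fin_cases j <;> rfl

/-- **X5-E'** the form in coordinates. -/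
theorem form_emb [Fintype F] (hF : Fintype.card F = 2 ^ 2) (φ : K4 →+* F) (ζ : Matrix (Fin 5) (Fin 5) F) (hz : ζ ^ 11 = 1)
    (hadj : ∀ u v : Fin 5 → F, hermForm 5 F 2 (ζ *ᵥ u) v = hermForm 5 F 2 u ((ζ ^ 10) *ᵥ v))
    (v : Fin 5 → F) (hv : ∀ d < 11, sigF ζ v d = φ (g1 d)) (a b : Fin 5 → F) :
    hermForm 5 F 2 (embv ζ v a) (embv ζ v b) = a ⬝ᵥ ((G1.map φ) *ᵥ (fun j => b j ^ 2)) := by
  have h2 : (2 : F) = 0 := Cfsg.Agent.Lib.Helper6.FFour.two_eq_zero (by rw [hF]; norm_num)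
  have e := herm_comb h2 ζ hz hadj v 0 a b
  rw [pow_zero, Matrix.one_mulVec] at e
  rw [e]
  simp only [dotProduct, Matrix.mulVec, Matrix.map_apply]
  apply Finset.sum_congr rfl
  intro i _
  rw [Finset.mul_sum]
  apply Finset.sum_congr rfl
  intro j _
  rw [hv _ (Nat.mod_lt _ (by norm_num)), zero_add, ← G1_eq]
  ring

end Cfsg.Agent.Lib.Helper26.S5796XE
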