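import Mathlib
import Cfsg.Agent.Lib.Helper17.ExtFDefs
import Cfsg.Agent.Lib.Helper26.S5886Base
import Cfsg.Agent.Lib.Helper21.S5886FOEa
import Cfsg.Agent.H5.S5886FOCNT

/-!
# S5886 FO-P2 : the maximal-intersection argument (`exists_config`)
-/

set_option autoImplicit false
set_option linter.unusedSectionVars false

namespace Cfsg.Agent.Lib.Helper26.S5886P2

open Matrix Module Cfsg.Agent.Lib.Helper17.ExtF Cfsg.Agent.Lib.Helper26.S5886B

variable {F : Type*} [Field F] [Fintype F] {L : Type*} [Field L] [Algebra F L] {n : ℕ}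
  (ρ : L →ₐ[F] Matrix (Fin n) (Fin n) F) {r : ℕ}

theorem exists_config (hr : r.Prime) (hrk : finrank F L = r) (hn : 2 * r ≤ n)
    (H : Subgroup (GL (Fin n) F)) (hE : HasElem ρ H) (g : GL (Fin n) F) (hg : g ∈ H)
    (hm : Moves ρ g) : ∃ v₁ v₀ g₀, Config ρ H r v₁ v₀ g₀ := by
  classical
  let P : ℕ → Prop := fun δ => ∃ (v₁ v₀ : Fin n → F) (g₀ : GL (Fin n) F), g₀ ∈ H ∧ v₁ ≠ 0 ∧
    v₀ ≠ 0 ∧ pt ρ v₁ ≠ (pt ρ v₀).map (actL g₀) ∧
    finrank F ↥(pt ρ v₁ ⊓ (pt ρ v₀).map (actL g₀)) = δ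
  obtain ⟨v, hv0, hv⟩ := hm
  have hgv0 : act g v ≠ 0 := fun h => hv0 ((act_eq_zero_iff g v).1 h)
  have hP0 : P (finrank F ↥(pt ρ (act g v) ⊓ (pt ρ v).map (actL g))) :=
    ⟨act g v, v, g, hg, hgv0, hv0, Ne.symm hv, rfl⟩
  have hbound : ∀ δ, P δ → δ ≤ n := by
    rintro δ ⟨v₁, v₀, g₀, -, -, -, -, rfl⟩
    exact finrank_le_n _
  have hδ : P (Nat.findGreatest P n) := Nat.findGreatest_spec (hbound _ hP0) hP0
  have hmax : ∀ δ', P δ' → δ' ≤ Nat.findGreatest P n :=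
    fun δ' h => Nat.le_findGreatest (hbound _ h) h
  have hδ1 : 1 ≤ Nat.findGreatest P n := by
    refine le_trans ?_ (hmax _ hP0)
    rw [Nat.succ_le_iff, Module.finrank_pos_iff_exists_ne_zero]
    refine ⟨⟨act g v, self_mem_pt ρ _, ⟨v, self_mem_pt ρ v, rfl⟩⟩, ?_⟩
    intro h
    exact hgv0 (congrArg Subtype.val h)
  generalize Nat.findGreatest P n = δ at hδ hmax hδ1
  obtain ⟨v₁, v₀, g₀, hg₀, hv₁, hv₀, hne, hfr⟩ := hδ
  refine ⟨v₁, v₀, g₀, hg₀, hv₁, hv₀, ?_⟩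
  rw [hfr]
  have hrpos : 0 < r := hr.pos
  -- notation
  set P₁ : Submodule F (Fin n → F) := pt ρ v₁ with hP₁
  set P' : Submodule F (Fin n → F) := (pt ρ v₀).map (actL g₀) with hP'
  have hfP₁ : finrank F ↥P₁ = r := Cfsg.Agent.Lib.Helper21.S5886E.finrank_pt ρ hrk hrpos hv₁
  have hfP' : finrank F ↥P' = r := by
    rw [hP', finrank_map_actL]
    exact Cfsg.Agent.Lib.Helper21.S5886E.finrank_pt ρ hrk hrpos hv₀
  -- `P'` is not contained in `P₁`
  have hnle : ¬ P' ≤ P₁ := by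
    intro hle
    exact hne (Submodule.eq_of_le_of_finrank_eq hle (by rw [hfP₁, hfP'])).symm
  obtain ⟨u, huP', huP₁⟩ := SetLike.not_le_iff_exists.1 hnle
  obtain ⟨ψ, hψ, hψv₁, hψu⟩ := Cfsg.Agent.Lib.Helper21.S5886E.exists_lin_sep ρ hrk hrpos v₁ u huP₁
  have hψP₁ : ∀ p ∈ P₁, ψ p = 0 := by
    rintro p ⟨b, rfl⟩
    change ψ (ρ b *ᵥ v₁) = 0
    rw [hψ b v₁, hψv₁, mul_zero]
  -- the subspaces `Y` and `Dt`
  set Y : Submodule F L := P'.map ψ with hY
  set Dt : Submodule F L := P'.comap (orb ρ v₁) with hDt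
  have hfDt : finrank F ↥Dt = δ := by
    have e := (Submodule.equivMapOfInjective (orb ρ v₁) (orb_injective ρ hv₁) Dt).finrank_eq
    rw [e, hDt, Submodule.map_comap_eq]
    exact hfr
  have hmemDt : ∀ c : L, c ∈ Dt ↔ ρ c *ᵥ v₁ ∈ P' := fun c => Iff.rfl
  -- key: if `a Y ⊄ Dt` then `P' ⊓ x_a P' = D`
  have key : ∀ a : L, ¬ Y.map (LinearMap.mulLeft F a) ≤ Dt →
      ∀ x : GL (Fin n) F, x ∈ H → (∀ v, act x v = v + ρ (a * ψ v) *ᵥ v₁) →
      P' ⊓ P'.map (actL x) = P₁ ⊓ P' := by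
    intro a hnot x hxH hx
    obtain ⟨c, hcY, hcDt⟩ := SetLike.not_le_iff_exists.1 hnot
    obtain ⟨y, ⟨u₁, hu₁, rfl⟩, rfl⟩ := hcY
    have hc : ρ (a * ψ u₁) *ᵥ v₁ ∉ P' := hcDt
    -- `x P' ≠ P'`
    have hneq : P' ≠ P'.map (actL x) := by
      intro heq
      have : act x u₁ ∈ P' := by
        rw [heq]
        exact ⟨u₁, hu₁, rfl⟩
      rw [hx] at this
      exact hc ((Submodule.add_mem_iff_right P' hu₁).1 this)
    -- maximality
    have hle : finrank F ↥(P' ⊓ P'.map (actL x)) ≤ δ := by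
      apply hmax
      refine ⟨v₀, v₀, g₀⁻¹ * x * g₀, H.mul_mem (H.mul_mem (H.inv_mem hg₀) hxH) hg₀, hv₀, hv₀, ?_, ?_⟩
      · intro heq
        apply hneq
        have := congrArg (Submodule.map (actL g₀)) heq
        rw [← map_actL_mul, ← mul_assoc, ← mul_assoc, mul_inv_cancel, one_mul, map_actL_mul] at this
        exact this
      · have h1 : (pt ρ v₀).map (actL (g₀⁻¹ * x * g₀)) = (P'.map (actL x)).map (actL g₀⁻¹) := by
          rw [hP', ← map_actL_mul, ← map_actL_mul, mul_assoc]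
        have h2 : pt ρ v₀ = P'.map (actL g₀⁻¹) := by
          rw [hP', ← map_actL_mul, inv_mul_cancel, map_actL_one]
        rw [h1]
        conv_lhs => rw [h2]
        rw [← map_actL_inf, finrank_map_actL]
    -- `D ≤ P' ⊓ x P'`
    have hDle : P₁ ⊓ P' ≤ P' ⊓ P'.map (actL x) := by
      intro d hd
      refine ⟨hd.2, d, hd.2, ?_⟩
      change act x d = d
      rw [hx, hψP₁ d hd.1, mul_zero, rho_zero_mulVec, add_zero]
    exact (Submodule.eq_of_le_of_finrank_le hDle (by rw [hfr]; exact hle)).symm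
  -- the dichotomy
  have hdich : ∀ a : L, a ≠ 0 → Y.map (LinearMap.mulLeft F a) ⊓ Dt = ⊥ ∨
      Y.map (LinearMap.mulLeft F a) ≤ Dt := by
    intro a _
    by_cases hle : Y.map (LinearMap.mulLeft F a) ≤ Dt
    · exact Or.inr hle
    · left
      obtain ⟨x, hxH, hx⟩ := exists_xa ρ H hE ψ hψ v₁ hψv₁ a
      have hk := key a hle x hxH hx
      rw [Submodule.eq_bot_iff]
      rintro c ⟨⟨y, ⟨u₂, hu₂, rfl⟩, rfl⟩, hcDt⟩
      have hc : ρ (a * ψ u₂) *ᵥ v₁ ∈ P' := hcDt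
      have hmem : act x u₂ ∈ P' ⊓ P'.map (actL x) := by
        refine ⟨?_, u₂, hu₂, rfl⟩
        rw [hx]
        exact P'.add_mem hu₂ hc
      rw [hk] at hmem
      have h0 := hψP₁ _ hmem.1
      rw [hx, map_add, hψ, hψv₁, mul_zero, add_zero] at h0
      change a * ψ u₂ = 0
      rw [h0, mul_zero]
  -- `δ < r`
  have hδr : δ < r := by
    rw [← hfr, ← hfP₁]
    apply Submodule.finrank_lt_finrank_of_lt
    refine lt_of_le_of_ne inf_le_left ?_
    intro heq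
    have hle : P₁ ≤ P' := by
      rw [← heq]
      exact inf_le_right
    exact hne (Submodule.eq_of_le_of_finrank_eq hle (by rw [hfP₁, hfP']))
  -- an `a` with `a Y ⊄ Dt`
  have hDtne : Dt ≠ ⊤ := by
    intro h
    have : finrank F ↥Dt = r := by rw [h, finrank_top, hrk]
    omega
  obtain ⟨c, -, hcDt⟩ := SetLike.exists_of_lt (lt_top_iff_ne_top.2 hDtne)
  have h1Y : (1 : L) ∈ Y := ⟨u, huP', hψu⟩
  have hcnot : ¬ Y.map (LinearMap.mulLeft F c) ≤ Dt := by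
    intro hle
    apply hcDt
    apply hle
    exact ⟨1, h1Y, by simp⟩
  obtain ⟨x, hxH, hx⟩ := exists_xa ρ H hE ψ hψ v₁ hψv₁ c
  have hk := key c hcnot x hxH hx
  -- `P' ⊓ ker ψ = D`
  have hker : P' ⊓ LinearMap.ker ψ = P₁ ⊓ P' := by
    apply le_antisymm
    · rintro w ⟨hwP', hwk⟩
      have hwk' : ψ w = 0 := hwk
      rw [← hk]
      refine ⟨hwP', w, hwP', ?_⟩
      change act x w = w
      rw [hx, hwk', mul_zero, rho_zero_mulVec, add_zero]
    · rintro w ⟨hw1, hw2⟩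
      exact ⟨hw2, hψP₁ w hw1⟩
  have hsum : finrank F ↥Y + finrank F ↥Dt = finrank F L := by
    have := finrank_map_add_finrank_inf_ker P' ψ
    rw [hker, hfr, hfP'] at this
    rw [hfDt, hrk]
    exact this
  have hYne : Y ≠ ⊥ := by
    intro h
    rw [h, Submodule.mem_bot] at h1Y
    exact one_ne_zero h1Y
  have hDne : Dt ≠ ⊥ := by
    intro h
    rw [h, finrank_bot] at hfDt
    omega
  have hY1 := Cfsg.H5.S5886.finrank_eq_one_of_dichotomy (hrk ▸ hr) Y Dt hYne hDne hsum hdich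
  rw [hY1, hfDt, hrk] at hsum
  omega

end Cfsg.Agent.Lib.Helper26.S5886P2
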