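import Mathlib
import Cfsg.Prelude.Def_GeometricClasses
import Cfsg.Agent.Lib.Helper26.SUCorTv
import Cfsg.Agent.H5.HubCorP2

/-!
# SU corollary family, piece PU3 (helper26): `SU_n(q)` normalises no field subalgebra of prime degree

Exact signature of notes/SUCorSkel_helper9.lean.txt.  A unitary transvection `t` normalising the field `K` centralises it
(`t x t⁻¹ - x ∈ K` kills a non-zero vector, `n ≥ 3`); an `x` commuting with `t` has the centre `v` of `t` as an eigenvector,
so `x - λ ∈ K` is not invertible, hence `x = λ`: `K` consists of scalars.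
-/

set_option autoImplicit false

namespace Cfsg.Agent.Lib.Helper26.SUCorPU3

open Cfsg Cfsg.Geo
open scoped MatrixGroups Matrix Kronecker

variable {F : Type*} [Field F] [Fintype F] {n q : ℕ}

/-- **PU3** `SU_n(q)` normalises no field subalgebra of prime degree -/
theorem not_su_le_subalgebraNormalizer (hF : Fintype.card F = q ^ 2) (hn : 3 ≤ n) (hex : ¬ (n = 3 ∧ q = 2))
    (r : ℕ) (K : Subalgebra F (Matrix (Fin n) (Fin n) F)) (hr : r.Prime) (hK : IsFieldSubalgebra r K) :
    ¬ GU n F q ⊓ specialLinear (Fin n) F ≤ subalgebraNormalizer K := by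
  intro hle
  obtain ⟨g, v, c, hg, hv0, hc0, hvv, hc, hact⟩ := Cfsg.Agent.Lib.Helper26.SUCorTv.exists_su_tv (n := n) hF (by omega)
  obtain ⟨v', hv'v, _, _⟩ := Cfsg.Agent.Lib.Helper6.exists_herm_partner hF v hv0 hvv
  set T : Matrix (Fin n) (Fin n) F := (g : Matrix (Fin n) (Fin n) F) with hT
  set Ti : Matrix (Fin n) (Fin n) F := ((g⁻¹ : GL (Fin n) F) : Matrix (Fin n) (Fin n) F) with hTi
  have hTiT : Ti * T = 1 := by rw [hTi, hT, ← Units.val_mul, inv_mul_cancel, Units.val_one]
  have hherm : ∀ w : Fin n → F, hermForm n F q w v = (fun i => v i ^ q) ⬝ᵥ w := by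
    intro w
    unfold hermForm
    simp only [dotProduct]
    exact Finset.sum_congr rfl fun i _ => mul_comm _ _
  -- every element of `K` commutes with `T`
  have hcomm : ∀ x ∈ K, T * x = x * T := by
    intro x hx
    have h1 : T * x * Ti ∈ K := ((hle hg) x).mp hx
    set y : Matrix (Fin n) (Fin n) F := T * x * Ti - x with hy
    have hyK : y ∈ K := K.sub_mem h1 hx
    obtain ⟨w, hw0, hw1, hw2⟩ := Cfsg.H5.HubCor.exists_ne_zero_two_dot hn (fun i => v i ^ q)
      ((fun i => v i ^ q) ᵥ* x)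
    have hw2' : hermForm n F q (x *ᵥ w) v = 0 := by
      rw [hherm, Matrix.dotProduct_mulVec]
      exact hw2
    have hw1' : hermForm n F q w v = 0 := by rw [hherm]; exact hw1
    have e1 : T *ᵥ w = w := by rw [hT, hact, hw1', mul_zero, zero_smul, add_zero]
    have e1' : Ti *ᵥ w = w := by
      conv_lhs => rw [← e1]
      rw [Matrix.mulVec_mulVec, hTiT, Matrix.one_mulVec]
    have e2 : T *ᵥ (x *ᵥ w) = x *ᵥ w := by rw [hT, hact, hw2', mul_zero, zero_smul, add_zero]
    have hyw : y *ᵥ w = 0 := by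
      rw [hy, Matrix.sub_mulVec, ← Matrix.mulVec_mulVec, ← Matrix.mulVec_mulVec, e1', e2, sub_self]
    have hy0 : y = 0 := by
      by_contra hne
      obtain ⟨y', _, hyy'⟩ := hK.inv y hyK hne
      have h2 : y' * y = 1 := mul_eq_one_comm.mp hyy'
      apply hw0
      calc w = (y' * y) *ᵥ w := by rw [h2, Matrix.one_mulVec]
        _ = y' *ᵥ (y *ᵥ w) := by rw [Matrix.mulVec_mulVec]
        _ = 0 := by rw [hyw, Matrix.mulVec_zero]
    have h3 : T * x * Ti = x := sub_eq_zero.mp hy0
    calc T * x = T * x * (Ti * T) := by rw [hTiT, mul_one]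
      _ = (T * x * Ti) * T := by simp only [mul_assoc]
      _ = x * T := by rw [h3]
  -- every element of `K` is scalar
  have hscal : ∀ x ∈ K, ∃ l : F, x = algebraMap F (Matrix (Fin n) (Fin n) F) l := by
    intro x hx
    have h1 := hcomm x hx
    have h2 : T *ᵥ (x *ᵥ v') = x *ᵥ (T *ᵥ v') := by
      rw [Matrix.mulVec_mulVec, Matrix.mulVec_mulVec, h1]
    rw [hT, hact, hact, hv'v, mul_one, Matrix.mulVec_add, Matrix.mulVec_smul] at h2
    have h3 : (c * hermForm n F q (x *ᵥ v') v) • v = c • x *ᵥ v := add_left_cancel h2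
    have h4 : x *ᵥ v = hermForm n F q (x *ᵥ v') v • v := by
      have := congrArg (fun z => c⁻¹ • z) h3
      simp only [smul_smul] at this
      rw [← mul_assoc, inv_mul_cancel₀ hc0, one_mul, one_smul] at this
      exact this.symm
    set l : F := hermForm n F q (x *ᵥ v') v with hl
    refine ⟨l, ?_⟩
    set z : Matrix (Fin n) (Fin n) F := x - algebraMap F (Matrix (Fin n) (Fin n) F) l with hz
    have hzK : z ∈ K := K.sub_mem hx (K.algebraMap_mem l)
    have hzv : z *ᵥ v = 0 := by
      rw [hz, Matrix.sub_mulVec, h4, Algebra.algebraMap_eq_smul_one, Matrix.smul_mulVec, Matrix.one_mulVec, sub_self]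
    have hz0 : z = 0 := by
      by_contra hne
      obtain ⟨z', _, hzz'⟩ := hK.inv z hzK hne
      have h5 : z' * z = 1 := mul_eq_one_comm.mp hzz'
      apply hv0
      calc v = (z' * z) *ᵥ v := by rw [h5, Matrix.one_mulVec]
        _ = z' *ᵥ (z *ᵥ v) := by rw [Matrix.mulVec_mulVec]
        _ = 0 := by rw [hzv, Matrix.mulVec_zero]
    exact sub_eq_zero.mp hz0
  have hbot : K = ⊥ := by
    rw [eq_bot_iff]
    intro x hx
    obtain ⟨l, rfl⟩ := hscal x hx
    exact Subalgebra.algebraMap_mem ⊥ l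
  have : Nonempty (Fin n) := ⟨⟨0, by omega⟩⟩
  have hfin := hK.finrank_eq
  rw [hbot, Subalgebra.finrank_bot] at hfin
  exact hr.one_lt.ne hfin

end Cfsg.Agent.Lib.Helper26.SUCorPU3
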