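import Mathlib
import Cfsg.Prelude.Def_GeometricClasses
import Cfsg.Agent.Lib.Helper26.SUCorTv

/-!
# SU corollary family, piece PU4 (helper26): `SU_n(q)` lies in no tensor product subgroup

Exact signature of notes/SUCorSkel_helper9.lean.txt.
-/

set_option autoImplicit false

namespace Cfsg.Agent.Lib.Helper26.SUCorPU4

open Cfsg Cfsg.Geo
open scoped MatrixGroups Matrix Kronecker

variable {F : Type*} [Field F] [Fintype F] {n q : ℕ}

/-- **PU4** `SU_n(q)` lies in no tensor product subgroup -/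
theorem not_su_le_tensorProductSubgroup (hF : Fintype.card F = q ^ 2) (hn : 3 ≤ n) (hex : ¬ (n = 3 ∧ q = 2))
    (n₁ n₂ : ℕ) (e : Fin n ≃ Fin n₁ × Fin n₂) (P : GL (Fin n) F) (h1 : 2 ≤ n₁) (h2 : 2 ≤ n₂) :
    ¬ GU n F q ⊓ specialLinear (Fin n) F ≤ tensorProductSubgroup n₁ n₂ e P :=
  Cfsg.Agent.Lib.Helper26.SUCorTv.not_su_le_tensorProductSubgroup hF hn hex n₁ n₂ e P h1 h2

end Cfsg.Agent.Lib.Helper26.SUCorPU4
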