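import Mathlib
import Cfsg.Prelude.Def_KGroupFacts

set_option autoImplicit false

/-! Generic assembly for Schur multipliers: if `π : S →* G` is a finite perfect central extension
through which every finite central extension of `G` can be reached (`S` is the universal central
extension of `G`), then the Schur multiplier of `G` (in the sense of `Cfsg.HasSchurMultiplier`) is
`ker π`.  Also: the lifting property follows from the splitting of the central extensions of `S`
(pullback). -/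

namespace Cfsg.Agent.Lib.Helper26.SchurAsm

universe u v

open Cfsg
open scoped commutatorElement

/-- the commutator does not see central factors -/
theorem comm_mul_central {Γ : Type*} [Group Γ] {z w : Γ} (hz : z ∈ Subgroup.center Γ)
    (hw : w ∈ Subgroup.center Γ) (a b : Γ) : ⁅a * z, b * w⁆ = ⁅a, b⁆ := by
  rw [Subgroup.mem_center_iff] at hz hw
  have h1 : z * b = b * z := (hz b).symm
  have h2 : w * a⁻¹ = a⁻¹ * w := (hw a⁻¹).symm
  have h3 : w * z⁻¹ = z⁻¹ * w := (hw z⁻¹).symm
  simp only [commutatorElement_def, mul_inv_rev]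
  calc a * z * (b * w) * (z⁻¹ * a⁻¹) * (w⁻¹ * b⁻¹)
      = a * (z * b) * (w * z⁻¹) * a⁻¹ * w⁻¹ * b⁻¹ := by group
    _ = a * (b * z) * (z⁻¹ * w) * a⁻¹ * w⁻¹ * b⁻¹ := by rw [h1, h3]
    _ = a * b * (w * a⁻¹) * w⁻¹ * b⁻¹ := by group
    _ = a * b * (a⁻¹ * w) * w⁻¹ * b⁻¹ := by rw [h2]
    _ = a * b * a⁻¹ * b⁻¹ := by group

/-- a lift of `π` through a stem extension `σ` is surjective and maps `ker π` onto `ker σ` -/
theorem ker_surjective_of_lift {G S Γ : Type*} [Group G] [Group S] [Group Γ]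
    (π : S →* G) (hπ : Function.Surjective π) (σ : Γ →* G)
    (hσc : σ.ker ≤ Subgroup.center Γ) (hσk : σ.ker ≤ commutator Γ)
    (τ : S →* Γ) (hτ : σ.comp τ = π) :
    ∀ z ∈ σ.ker, ∃ s ∈ π.ker, τ s = z := by
  have hτ' : ∀ s, σ (τ s) = π s := fun s => by rw [← hτ]; rfl
  -- every element is a central multiple of an element of the range
  have hdec : ∀ g : Γ, ∃ s : S, g * (τ s)⁻¹ ∈ σ.ker := by
    intro g
    obtain ⟨s, hs⟩ := hπ (σ g)
    refine ⟨s, ?_⟩
    rw [MonoidHom.mem_ker, map_mul, map_inv, hτ', hs, mul_inv_cancel]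
  -- the commutator subgroup lies in the range
  have hcomm : commutator Γ ≤ τ.range := by
    rw [commutator_def, Subgroup.commutator_le]
    intro g₁ _ g₂ _
    obtain ⟨s₁, h₁⟩ := hdec g₁
    obtain ⟨s₂, h₂⟩ := hdec g₂
    have e₁ : g₁ = τ s₁ * ((τ s₁)⁻¹ * g₁) := by group
    have e₂ : g₂ = τ s₂ * ((τ s₂)⁻¹ * g₂) := by group
    have c₁ : (τ s₁)⁻¹ * g₁ ∈ Subgroup.center Γ := by
      apply hσc
      rw [MonoidHom.mem_ker] at h₁ ⊢
      rw [map_mul, map_inv] at h₁ ⊢
      rw [mul_inv_eq_one] at h₁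
      rw [h₁, inv_mul_cancel]
    have c₂ : (τ s₂)⁻¹ * g₂ ∈ Subgroup.center Γ := by
      apply hσc
      rw [MonoidHom.mem_ker] at h₂ ⊢
      rw [map_mul, map_inv] at h₂ ⊢
      rw [mul_inv_eq_one] at h₂
      rw [h₂, inv_mul_cancel]
    rw [e₁, e₂, comm_mul_central c₁ c₂, ← map_commutatorElement]
    exact ⟨_, rfl⟩
  intro z hz
  obtain ⟨s, rfl⟩ := hcomm (hσk hz)
  refine ⟨s, ?_, rfl⟩
  rw [MonoidHom.mem_ker, ← hτ']
  exact hz

/-- **assembly**: the Schur multiplier of `G` is the kernel of a finite perfect central extension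
`π : S →* G` with the lifting property -/
theorem hasSchurMultiplier_of_universal {G S : Type u} [Group G] [Group S] [Finite S]
    (π : S →* G) (hπ : Function.Surjective π) (hker : π.ker ≤ Subgroup.center S)
    (hperf : commutator S = ⊤)
    (huniv : ∀ (Γ : Type u) [Group Γ] [Finite Γ] (σ : Γ →* G), Function.Surjective σ →
      σ.ker ≤ Subgroup.center Γ → ∃ τ : S →* Γ, σ.comp τ = π)
    {A : Type v} [CommGroup A] (e : π.ker ≃* A) : HasSchurMultiplier G A := by
  refine ⟨⟨S, inferInstance, inferInstance, π, ⟨hπ, hker, ?_⟩, ⟨e⟩⟩, ?_⟩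
  · rw [hperf]
    exact le_top
  · intro Γ _ _ σ hσ
    obtain ⟨hσs, hσc, hσk⟩ := hσ
    obtain ⟨τ, hτ⟩ := huniv Γ σ hσs hσc
    have hτ' : ∀ s, σ (τ s) = π s := fun s => by rw [← hτ]; rfl
    have hsur := ker_surjective_of_lift π hπ σ hσc hσk τ hτ
    let ρ : π.ker →* σ.ker :=
      { toFun := fun s => ⟨τ s.1, by
          rw [MonoidHom.mem_ker, hτ']
          exact s.2⟩
        map_one' := by
          apply Subtype.ext
          simp
        map_mul' := by
          intro a b
          apply Subtype.ext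
          simp }
    refine ⟨ρ.comp e.symm.toMonoidHom, ?_⟩
    intro z
    obtain ⟨s, hs, hsz⟩ := hsur z.1 z.2
    refine ⟨e ⟨s, hs⟩, ?_⟩
    apply Subtype.ext
    show τ ((e.symm (e ⟨s, hs⟩) : π.ker) : S) = z.1
    rw [MulEquiv.symm_apply_apply]
    exact hsz

/-- pullback: if the finite central extensions of `S` split then `π : S →* G` lifts through every
finite central extension of `G` -/
theorem exists_lift_of_split {S G Γ : Type u} [Group S] [Group G] [Group Γ] [Finite S] [Finite Γ]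
    (π : S →* G) (σ : Γ →* G) (hσ : Function.Surjective σ) (hσc : σ.ker ≤ Subgroup.center Γ)
    (hsplit : ∀ (E : Type u) [Group E] [Finite E] (ψ : E →* S), Function.Surjective ψ →
      ψ.ker ≤ Subgroup.center E → ∃ τ : S →* E, ψ.comp τ = MonoidHom.id S) :
    ∃ τ : S →* Γ, σ.comp τ = π := by
  let E : Subgroup (Γ × S) :=
    (σ.comp (MonoidHom.fst Γ S)).eqLocus (π.comp (MonoidHom.snd Γ S))
  have hE : ∀ x : E, σ (x : Γ × S).1 = π (x : Γ × S).2 := fun x => x.2
  let ψ : E →* S := (MonoidHom.snd Γ S).comp E.subtype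
  have hψ : Function.Surjective ψ := by
    intro s
    obtain ⟨g, hg⟩ := hσ (π s)
    exact ⟨⟨(g, s), hg⟩, rfl⟩
  have hψc : ψ.ker ≤ Subgroup.center E := by
    intro x hx
    rw [MonoidHom.mem_ker] at hx
    have h1 : (x : Γ × S).2 = 1 := hx
    have h2 : (x : Γ × S).1 ∈ Subgroup.center Γ := by
      apply hσc
      rw [MonoidHom.mem_ker, hE x, h1, map_one]
    rw [Subgroup.mem_center_iff] at h2 ⊢
    intro y
    apply Subtype.ext
    apply Prod.ext
    · exact h2 _
    · show (y : Γ × S).2 * (x : Γ × S).2 = (x : Γ × S).2 * (y : Γ × S).2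
      rw [h1, mul_one, one_mul]
  obtain ⟨τ, hτ⟩ := hsplit E ψ hψ hψc
  refine ⟨(MonoidHom.fst Γ S).comp (E.subtype.comp τ), ?_⟩
  ext s
  have h2 : ((τ s : E) : Γ × S).2 = s := by
    have := congrArg (fun f => f s) hτ
    exact this
  show σ ((τ s : E) : Γ × S).1 = π s
  rw [hE (τ s), h2]

end Cfsg.Agent.Lib.Helper26.SchurAsm
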