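import Cfsg.Agent.Lib.Helper22.SuzOExclDefs
import Cfsg.Agent.Lib.Helper17.SuzOP4

/-!
# S2074-F6 (helper26, for helper22): a simple presented group acting by tables is the group of the tables
-/

set_option autoImplicit false

namespace Cfsg.Agent.Lib.Helper22.SuzOut

open Cfsg.Agent.Lib.Helper28.BSGS

/-- [F6] a simple presented group acting by tables is isomorphic to the group of the tables -/
theorem presented_equiv_genGroup {α : Type} (Rs : Set (FreeGroup α))
    (hsimple : IsSimpleGroup (PresentedGroup Rs)) (n w : ℕ) (T : α → ℕ × ℕ) (L : List (ℕ × ℕ))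
    (hL : ∀ s, s ∈ L ↔ ∃ x, T x = s)
    (φ : PresentedGroup Rs →* Equiv.Perm (Fin n))
    (hφ : ∀ x, φ (PresentedGroup.of x) = permOf n w (T x).1 (T x).2)
    (x0 : α) (hne : permOf n w (T x0).1 (T x0).2 ≠ 1) :
    Nonempty (PresentedGroup Rs ≃* ↥(genGroup n w L)) := by
  have hker : φ.ker = ⊥ := by
    rcases (inferInstance : φ.ker.Normal).eq_bot_or_eq_top with h | h
    · exact h
    · exfalso
      apply hne
      rw [← hφ x0]
      have : PresentedGroup.of x0 ∈ φ.ker := by rw [h]; exact Subgroup.mem_top _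
      exact MonoidHom.mem_ker.mp this
  have hinj : Function.Injective φ := (MonoidHom.ker_eq_bot_iff φ).mp hker
  have hrange : φ.range = genGroup n w L := by
    rw [MonoidHom.range_eq_map, ← PresentedGroup.closure_range_of, MonoidHom.map_closure]
    unfold genGroup
    congr 1
    ext s
    simp only [Set.mem_image, Set.mem_range, Set.mem_ofPred_eq, semGens, List.mem_map]
    constructor
    · rintro ⟨y, ⟨x, rfl⟩, rfl⟩
      exact ⟨T x, (hL _).mpr ⟨x, rfl⟩, (hφ x).symm⟩
    · rintro ⟨g, hg, rfl⟩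
      obtain ⟨x, rfl⟩ := (hL g).mp hg
      exact ⟨PresentedGroup.of x, ⟨x, rfl⟩, hφ x⟩
  exact ⟨(MonoidHom.ofInjective hinj).trans (MulEquiv.subgroupCongr hrange)⟩

end Cfsg.Agent.Lib.Helper22.SuzOut
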